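import Groth.Agent.FormalB.GlueHom

/-!
# Gluing of modules along a locally directed family of charts

For a scheme `P`, a preordered set `I`, opens `R i` of `P`, modules `M i` supported in the sense that
`Γ(M i, W) = Γ(M i, W ∩ R i)`, transition maps `c : M i ⟶ M j` for `j ≤ i` (functorial) bijective on sections over the
opens inside `R j`, such that `R i ∩ R j` is covered by the `R k`, `k ≤ i, j`: the limit `F` of the `M i` has
projections `π i : F ⟶ M i` bijective on sections over the opens inside `R i`.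
-/

set_option autoImplicit false
universe u

open CategoryTheory CategoryTheory.Limits AlgebraicGeometry TopologicalSpace Opposite

namespace K39.GlueMod

open Groth.Agent.FormalB.GlueHom

variable {P : Scheme.{u}}

/-- A gluing datum of modules, see the header. -/
structure Datum (P : Scheme.{u}) (I : Type u) [Preorder I] where
  R : I → P.Opens
  M : I → P.Modules
  c : ∀ {i j : I}, j ≤ i → (M i ⟶ M j)
  c_id : ∀ (i : I) (h : i ≤ i), c h = 𝟙 (M i)
  c_comp : ∀ {i j k : I} (h : j ≤ i) (h' : k ≤ j), c h ≫ c h' = c (h'.trans h)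
  bij : ∀ {i j : I} (h : j ≤ i) (W : P.Opens), W ≤ R j → Function.Bijective ((c h).app W)
  supp : ∀ (i : I) (W : P.Opens), Function.Bijective (res (M i) (inf_le_left : W ⊓ R i ≤ W))
  dir : ∀ (i j : I) (x : P), x ∈ R i → x ∈ R j → ∃ k, k ≤ i ∧ k ≤ j ∧ x ∈ R k

namespace Datum

variable {I : Type u} [Preorder I] (D : Datum P I)

/-- The diagram of the modules `M i`. -/
noncomputable def diag : Iᵒᵖ ⥤ P.Modules where
  obj i := D.M i.unop
  map f := D.c f.unop.le
  map_id _ := D.c_id _ _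
  map_comp f g := (D.c_comp f.unop.le g.unop.le).symm

/-- The glued module. -/
noncomputable def glued : P.Modules := limit D.diag

/-- The projections. -/
noncomputable def π (i : I) : D.glued ⟶ D.M i := limit.π D.diag (op i)

theorem π_c {i j : I} (h : j ≤ i) : D.π i ≫ D.c h = D.π j :=
  limit.w D.diag (homOfLE h).op

/-- The sections functor over `W`, with values in types. -/
noncomputable def sec (W : P.Opens) : P.Modules ⥤ Type u :=
  Scheme.Modules.toPresheaf P ⋙ (evaluation _ _).obj (op W) ⋙ forget Ab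

noncomputable instance preservesLimits_sec (W : P.Opens) : PreservesLimits (sec (P := P) W) :=
  have h2 : PreservesLimits ((evaluation (Opens P)ᵒᵖ Ab.{u}).obj (op W)) := inferInstance
  have h3 : PreservesLimits (forget Ab.{u}) := inferInstance
  have h4 : PreservesLimits ((evaluation (Opens P)ᵒᵖ Ab.{u}).obj (op W) ⋙ forget Ab.{u}) :=
    comp_preservesLimits _ _
  comp_preservesLimits (Scheme.Modules.toPresheaf P) _

/-- The sections of the glued module over `W` are the compatible families. -/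
noncomputable def secEquiv (W : P.Opens) : Γ(D.glued, W) ≃ (D.diag ⋙ sec W).sections :=
  Types.isLimitEquivSections (isLimitOfPreserves (sec W) (limit.isLimit D.diag))

theorem secEquiv_apply (W : P.Opens) (s : Γ(D.glued, W)) (i : I) :
    (D.secEquiv W s).1 (op i) = (D.π i).app W s := rfl

theorem ext {W : P.Opens} {s t : Γ(D.glued, W)} (h : ∀ i, (D.π i).app W s = (D.π i).app W t) : s = t := by
  apply (D.secEquiv W).injective
  refine Subtype.ext (funext fun i => ?_)
  exact h i.unop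

theorem exists_of_compat {W : P.Opens} (s : ∀ i, Γ(D.M i, W))
    (hs : ∀ {i j : I} (h : j ≤ i), (D.c h).app W (s i) = s j) :
    ∃ t : Γ(D.glued, W), ∀ i, (D.π i).app W t = s i := by
  let x : (D.diag ⋙ sec W).sections := ⟨fun i => s i.unop, fun {i j} f => hs f.unop.le⟩
  refine ⟨(D.secEquiv W).symm x, fun i => ?_⟩
  rw [← secEquiv_apply, Equiv.apply_symm_apply]

/-- Two sections of `M j` over `W` are equal if they are equal on the `W ∩ R k`, `k ≤ j`, for enough `k`. -/
theorem eq_of_forall {j : I} {W : P.Opens} {s t : Γ(D.M j, W)}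
    (h : ∀ x ∈ W, x ∈ D.R j → ∃ (V : P.Opens) (hV : V ≤ W), x ∈ V ∧
      res (D.M j) hV s = res (D.M j) hV t) : s = t := by
  apply (D.supp j W).1
  refine eq_of_local _ fun x hx => ?_
  obtain ⟨V, hV, hxV, e⟩ := h x hx.1 hx.2
  refine ⟨V ⊓ D.R j, inf_le_inf_right _ hV, ⟨hxV, hx.2⟩, ?_⟩
  rw [res_res, res_res, ← res_res (D.M j) hV inf_le_left, ← res_res (D.M j) hV inf_le_left, e]

theorem π_app_injective (i : I) {W : P.Opens} (hW : W ≤ D.R i) : Function.Injective ((D.π i).app W) := by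
  intro s t hst
  refine D.ext fun j => D.eq_of_forall fun x hxW hxj => ?_
  obtain ⟨k, hki, hkj, hxk⟩ := D.dir i j x (hW hxW) hxj
  refine ⟨W ⊓ D.R k, inf_le_left, ⟨hxW, hxk⟩, ?_⟩
  apply (D.bij hkj (W ⊓ D.R k) inf_le_right).1
  have key : ∀ s : Γ(D.glued, W), (D.c hkj).app (W ⊓ D.R k) (res (D.M j) inf_le_left ((D.π j).app W s)) =
      (D.c hki).app (W ⊓ D.R k) (res (D.M i) inf_le_left ((D.π i).app W s)) := by
    intro s
    rw [app_res, app_res]
    have h1 : (D.c hkj).app W ((D.π j).app W s) = (D.π k).app W s := by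
      rw [← D.π_c hkj]
      rfl
    have h2 : (D.c hki).app W ((D.π i).app W s) = (D.π k).app W s := by
      rw [← D.π_c hki]
      rfl
    rw [h1, h2]
  rw [key, key, hst]

theorem π_app_bijective (i : I) {W : P.Opens} (hW : W ≤ D.R i) : Function.Bijective ((D.π i).app W) := by
  refine ⟨D.π_app_injective i hW, fun s => ?_⟩
  -- the value over `W ∩ R k` for `k ≤ i, j`
  have hex : ∀ (j k : I) (hki : k ≤ i) (hkj : k ≤ j), ∃ t : Γ(D.M j, W ⊓ D.R k),
      (D.c hkj).app _ t = (D.c hki).app _ (res (D.M i) inf_le_left s) := fun j k hki hkj =>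
    (D.bij hkj (W ⊓ D.R k) inf_le_right).2 _
  choose t ht using hex
  have hcomp : ∀ (j k k' : I) (hki : k ≤ i) (hkj : k ≤ j) (hki' : k' ≤ i) (hkj' : k' ≤ j) (V : P.Opens)
      (hV : V ≤ W ⊓ D.R k) (hV' : V ≤ W ⊓ D.R k'),
      res (D.M j) hV (t j k hki hkj) = res (D.M j) hV' (t j k' hki' hkj') := by
    intro j k k' hki hkj hki' hkj' V hV hV'
    refine eq_of_local _ fun x hx => ?_
    obtain ⟨l, hlk, hlk', hxl⟩ := D.dir k k' x (hV hx).2 (hV' hx).2
    refine ⟨V ⊓ D.R l, inf_le_left, ⟨hx, hxl⟩, ?_⟩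
    apply (D.bij (hlk.trans hkj) _ inf_le_right).1
    have key : ∀ (k : I) (hki : k ≤ i) (hkj : k ≤ j) (hV : V ≤ W ⊓ D.R k) (hlk : l ≤ k),
        (D.c (hlk.trans hkj)).app (V ⊓ D.R l) (res (D.M j) inf_le_left (res (D.M j) hV (t j k hki hkj))) =
          (D.c (hlk.trans hki)).app (V ⊓ D.R l) (res (D.M i) (inf_le_left.trans (hV.trans inf_le_left)) s) := by
      intro k hki hkj hV hlk
      rw [← D.c_comp hkj hlk, ← D.c_comp hki hlk]
      change (D.c hlk).app _ ((D.c hkj).app _ _) = (D.c hlk).app _ ((D.c hki).app _ _)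
      rw [res_res, app_res, ht, app_res, app_res, app_res, app_res, res_res, app_res]
    rw [key k hki hkj hV hlk, key k' hki' hkj' hV' hlk']
  -- glue
  have hglue : ∀ j, ∃ tj : Γ(D.M j, W), ∀ (k : I) (hki : k ≤ i) (hkj : k ≤ j),
      res (D.M j) inf_le_left tj = t j k hki hkj := by
    intro j
    let K := {k : I // k ≤ i ∧ k ≤ j}
    have hcov : ∀ x ∈ W ⊓ D.R j, ∃ k : K, x ∈ W ⊓ D.R k.1 := by
      rintro x ⟨hxW, hxj⟩
      obtain ⟨k, hki, hkj, hxk⟩ := D.dir i j x (hW hxW) hxj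
      exact ⟨⟨k, hki, hkj⟩, hxW, hxk⟩
    obtain ⟨y, hy⟩ := exists_glue (D.M j) (W ⊓ D.R j) (fun k : K => W ⊓ D.R j ⊓ D.R k.1) (fun k => inf_le_left)
      (fun x hx => by
        obtain ⟨k, hk⟩ := hcov x hx
        exact ⟨k, hx, hk.2⟩)
      (fun k => res (D.M j) (inf_le_inf_right _ inf_le_left) (t j k.1 k.2.1 k.2.2)) (fun k k' => by
        rw [res_res, res_res]
        exact hcomp _ _ _ _ _ _ _ _ _ _)
    obtain ⟨z, rfl⟩ := (D.supp j W).2 y
    refine ⟨z, fun k hki hkj => D.eq_of_forall fun x hx hxj => ?_⟩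
    refine ⟨W ⊓ D.R j ⊓ D.R k, inf_le_inf_right _ inf_le_left, ⟨⟨hx.1, hxj⟩, hx.2⟩, ?_⟩
    rw [res_res, ← hy ⟨k, hki, hkj⟩, res_res]
  choose u hu using hglue
  obtain ⟨y, hy⟩ := D.exists_of_compat u (fun {j j'} h => by
    refine D.eq_of_forall fun x hxW hxj => ?_
    obtain ⟨k, hki, hkj, hxk⟩ := D.dir i j' x (hW hxW) hxj
    refine ⟨W ⊓ D.R k, inf_le_left, ⟨hxW, hxk⟩, ?_⟩
    apply (D.bij hkj _ inf_le_right).1
    rw [hu j' k hki hkj, ht, ← app_res, hu j k hki (hkj.trans h)]
    have := ht j k hki (hkj.trans h)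
    rw [← D.c_comp h hkj] at this
    exact this)
  refine ⟨y, ?_⟩
  rw [hy]
  refine D.eq_of_forall fun x hxW hxi => ?_
  refine ⟨W ⊓ D.R i, inf_le_left, ⟨hxW, hxi⟩, ?_⟩
  rw [hu i i le_rfl le_rfl]
  have := ht i i le_rfl le_rfl
  rw [D.c_id] at this
  exact this

end Datum

end K39.GlueMod
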