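import Groth.Agent.EGA2.K39.GrComap
import Groth.Agent.EGA2.K39.GlueMod

/-!
# The relative Proj of a quasi-coherent graded algebra and the modules on its charts: basic facts

For `𝒮 : RelProj.QCGrAlg Y`, a graded `𝒮`-module `ℳ` with `ℳ` quasi-coherent, `p : P ⟶ Y` with its charts:
* `isLocHom_res`: restriction from an affine `U` to a basic open `D(r)` is the localization at `r`;
* `tr`: the transition `(emb U)_* ℳ(U)(n)~ ⟶ (emb V)_* ℳ(V)(n)~` for `V` basic in `U`, `gval_tr`, `tr_app_bijective`.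
-/

set_option autoImplicit false
set_option linter.unusedSectionVars false
universe u

open CategoryTheory CategoryTheory.Limits AlgebraicGeometry TopologicalSpace Opposite TopCat
open scoped HomogeneousIdeal

noncomputable section

namespace K39.RelBase

open K39.GrSect K39.GrFrac K39.GrComap Groth.Agent.FormalB.GlueHom

variable {Y P : Scheme.{u}} {𝒮 : RelProj.QCGrAlg Y}

theorem isLocHom_res (ℳ : RelProj.GrModule 𝒮) (hℳ : Coh.IsQCoh ((AMod.toOS 𝒮.toQCAlg).obj ℳ.mod))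
    (U : Y.Opens) (hU : IsAffineOpen U) (r : Γ(Y, U)) :
    IsLocHom (ψ := 𝒮.res hU (hU.basicOpen r) (Y.basicOpen_le r)) (ℳ.res hU (hU.basicOpen r) (Y.basicOpen_le r))
      ((𝒮.str.app (op U)).hom r) where
  mem := 𝒮.str_mem U hU r
  unit := by
    let _ := (𝒮.presheaf.map (homOfLE (Y.basicOpen_le r)).op).hom.toAlgebra
    have := 𝒮.isQC U hU r
    exact IsLocalization.Away.algebraMap_isUnit ((𝒮.str.app (op U)).hom r)
  surj b := by
    let _ := (𝒮.presheaf.map (homOfLE (Y.basicOpen_le r)).op).hom.toAlgebra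
    have := 𝒮.isQC U hU r
    obtain ⟨⟨a, s, hs⟩, h⟩ := IsLocalization.surj (Submonoid.powers ((𝒮.str.app (op U)).hom r)) b
    obtain ⟨k, rfl⟩ := (Submonoid.mem_powers_iff _ _).mp hs
    refine ⟨k, a, ?_⟩
    rw [mul_comm, ← map_pow]
    exact h
  surjM n := by
    obtain ⟨k, t, ht⟩ := (Groth.Agent.Ega1.QCohLoc.isLocAt_of_isQCoh hℳ hU r).surj
      (show Γ((AMod.toOS 𝒮.toQCAlg).obj ℳ.mod, Y.basicOpen r) from n)
    refine ⟨k, (show ℳ.mod.val.obj (op U) from t), ?_⟩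
    have h1 : (𝒮.res hU (hU.basicOpen r) (Y.basicOpen_le r)) ((𝒮.str.app (op U)).hom r) =
        (𝒮.str.app (op (Y.basicOpen r))).hom (Y.presheaf.map (homOfLE (Y.basicOpen_le r)).op r) := by
      exact (CategoryTheory.congr_fun (𝒮.str.naturality (homOfLE (Y.basicOpen_le r)).op) r).symm
    rw [h1, ← map_pow]
    exact ht.symm
  injM m hm := by
    obtain ⟨k, hk⟩ := (Groth.Agent.Ega1.QCohLoc.isLocAt_of_isQCoh hℳ hU r).inj
      (show Γ((AMod.toOS 𝒮.toQCAlg).obj ℳ.mod, U) from m) hm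
    refine ⟨k, ?_⟩
    rw [← map_pow]
    exact hk

/-- `V` is a basic open of `U`. -/
def IsBasic (V U : Y.Opens) : Prop := ∃ r : Γ(Y, U), Y.basicOpen r = V

theorem IsBasic.le {V U : Y.Opens} (h : IsBasic V U) : V ≤ U := by
  obtain ⟨r, rfl⟩ := h
  exact Y.basicOpen_le r

variable (𝒮) in
theorem irr {U V : Y.Opens} (hU : IsAffineOpen U) (hV : IsAffineOpen V) (h : IsBasic V U) :
    (𝒮.deg V hV)₊ ≤ ((𝒮.deg U hU)₊).map (𝒮.res hU hV h.le) := by
  obtain ⟨r, rfl⟩ := h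
  exact 𝒮.irrelevant_le_map U hU r

theorem exists_isLocHom (ℳ : RelProj.GrModule 𝒮) (hℳ : Coh.IsQCoh ((AMod.toOS 𝒮.toQCAlg).obj ℳ.mod))
    {U V : Y.Opens} (hU : IsAffineOpen U) (hV : IsAffineOpen V) (h : IsBasic V U) :
    ∃ c, IsLocHom (ψ := 𝒮.res hU hV h.le) (ℳ.res hU hV h.le) c := by
  obtain ⟨r, rfl⟩ := h
  exact ⟨_, isLocHom_res ℳ hℳ U hU r⟩

variable {p : P ⟶ Y}
  {chart : ∀ (U : Y.Opens) (hU : IsAffineOpen U), (((p ⁻¹ᵁ U : P.Opens) : Scheme.{u}) ≅ Proj (𝒮.deg U hU))}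
  (hP : RelProj.IsRelProj 𝒮 p chart)

include hP in
theorem map_emb {U V : Y.Opens} (hU : IsAffineOpen U) (hV : IsAffineOpen V) (h : IsBasic V U) :
    Proj.map (𝒮.res hU hV h.le) (irr 𝒮 hU hV h) ≫ RelProj.emb p chart U hU = RelProj.emb p chart V hV := by
  obtain ⟨r, rfl⟩ := h
  exact RelProj.map_res_emb hP U hU r

theorem opensRange_emb (U : Y.Opens) (hU : IsAffineOpen U) :
    (RelProj.emb p chart U hU).opensRange = p ⁻¹ᵁ U := by
  change ((chart U hU).inv ≫ (p ⁻¹ᵁ U).ι).opensRange = p ⁻¹ᵁ U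
  rw [Scheme.Hom.opensRange_comp_of_isIso, Scheme.Opens.opensRange_ι]

include hP in
theorem isOpenImmersion_map {U V : Y.Opens} (hU : IsAffineOpen U) (hV : IsAffineOpen V) (h : IsBasic V U) :
    IsOpenImmersion (Proj.map (𝒮.res hU hV h.le) (irr 𝒮 hU hV h)) := by
  have h1 : IsOpenImmersion (Proj.map (𝒮.res hU hV h.le) (irr 𝒮 hU hV h) ≫ RelProj.emb p chart U hU) := by
    rw [map_emb hP hU hV h]
    infer_instance
  exact IsOpenImmersion.of_comp _ (RelProj.emb p chart U hU)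

include hP in
/-- The part of the chart over `U` lying over a basic open `V` is the range of `Proj.map` of the restriction. -/
theorem le_opensRange_map {U V : Y.Opens} (hU : IsAffineOpen U) (hV : IsAffineOpen V) (h : IsBasic V U)
    [IsOpenImmersion (Proj.map (𝒮.res hU hV h.le) (irr 𝒮 hU hV h))]
    {W : P.Opens} (hW : W ≤ p ⁻¹ᵁ V) :
    RelProj.emb p chart U hU ⁻¹ᵁ W ≤ (Proj.map (𝒮.res hU hV h.le) (irr 𝒮 hU hV h)).opensRange := by
  intro x hx
  have h1 : RelProj.emb p chart U hU x ∈ p ⁻¹ᵁ V := hW hx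
  rw [← opensRange_emb (chart := chart) V hV] at h1
  obtain ⟨y, hy⟩ := h1
  refine ⟨y, (RelProj.emb p chart U hU).isOpenEmbedding.injective ?_⟩
  rw [← hy, ← map_emb hP hU hV h]
  rfl


end K39.RelBase
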