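import Groth.Agent.QCohSup.K27.QCAlgBasic
import Groth.Agent.Ega1.QCohLoc
import Groth.Prelude.Def_RelSpec2

/-!
# Modules over a quasi-coherent algebra from data on the affine opens

`B` a quasi-coherent algebra on `S`.  `Datum B`: for every affine open `U` a `B(U)`-module `M(U)`, functorial restriction
maps for all pairs of affine opens `V ≤ U`, such that `M(U) → M(D(r))` is a localization at `r`.
* `eq_of_cover`, `exists_glue`: the `M(U)` have the sheaf property with respect to covers of affine opens by affine opens;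
* `glued D : AMod B`: the module with sections over `V` the compatible families of elements of the `M(U)`, `U ≤ V` affine;
* `ev`: its sections over an affine open `U` are `M(U)`; `isQCoh_glued`: it is quasi-coherent.
-/

set_option autoImplicit false
set_option linter.unusedSectionVars false
universe u

open CategoryTheory AlgebraicGeometry Opposite TopologicalSpace

noncomputable section

namespace K39.AffMod

open K27.QCAlgBasic (Sec rho str rho_str rho_rho rho_self isUnit_str)
open Groth.Agent.Ega1.QCohLoc (resO)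

variable {S : Scheme.{u}}

/-- Modules over the sections of `B` over the affine opens with restriction maps which are localizations for basic opens. -/
structure Datum (B : RelSpec.QCAlg S) where
  M : ∀ U : S.Opens, IsAffineOpen U → Type u
  [grp : ∀ (U : S.Opens) (hU : IsAffineOpen U), AddCommGroup (M U hU)]
  [mod : ∀ (U : S.Opens) (hU : IsAffineOpen U), Module (Sec B U) (M U hU)]
  res : ∀ {U V : S.Opens} (hU : IsAffineOpen U) (hV : IsAffineOpen V), V ≤ U → M U hU →+ M V hV
  res_smul : ∀ {U V : S.Opens} (hU : IsAffineOpen U) (hV : IsAffineOpen V) (h : V ≤ U) (b : Sec B U) (m : M U hU),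
    res hU hV h (b • m) = rho B h b • res hU hV h m
  res_self : ∀ (U : S.Opens) (hU : IsAffineOpen U) (m : M U hU), res hU hU le_rfl m = m
  res_res : ∀ {U V W : S.Opens} (hU : IsAffineOpen U) (hV : IsAffineOpen V) (hW : IsAffineOpen W)
    (h : V ≤ U) (h' : W ≤ V) (m : M U hU), res hV hW h' (res hU hV h m) = res hU hW (h'.trans h) m
  inj : ∀ (U : S.Opens) (hU : IsAffineOpen U) (r : Γ(S, U)) (m : M U hU),
    res hU (hU.basicOpen r) (S.basicOpen_le r) m = 0 → ∃ k : ℕ, str B U r ^ k • m = 0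
  surj : ∀ (U : S.Opens) (hU : IsAffineOpen U) (r : Γ(S, U)) (m : M (S.basicOpen r) (hU.basicOpen r)),
    ∃ (k : ℕ) (x : M U hU), res hU (hU.basicOpen r) (S.basicOpen_le r) x =
      rho B (S.basicOpen_le r) (str B U r) ^ k • m

attribute [instance] Datum.grp Datum.mod

namespace Datum

variable {B : RelSpec.QCAlg S} (D : Datum B)

section alg

variable {U : S.Opens} (hU : IsAffineOpen U)

/-- An element of `M(U)` vanishing on the members of a cover by affine opens vanishes. -/
theorem eq_zero_of_cover (m : D.M U hU)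
    (h : ∀ x ∈ U, ∃ (V : S.Opens) (hV : IsAffineOpen V) (hVU : V ≤ U), x ∈ V ∧ D.res hU hV hVU m = 0) : m = 0 := by
  let s : Set Γ(S, U) := {r | str B U r • m = 0}
  have hspan : Ideal.span s = ⊤ := by
    rw [← hU.self_le_iSup_basicOpen_iff]
    intro x hx
    obtain ⟨V, hV, hVU, hxV, h0⟩ := h x hx
    obtain ⟨r, hrV, hxr⟩ := hU.exists_basicOpen_le (V := V) ⟨x, hxV⟩ hx
    have h1 : D.res hU (hU.basicOpen r) (S.basicOpen_le r) m = 0 := by
      rw [← D.res_res hU hV (hU.basicOpen r) hVU hrV, h0, map_zero]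
    obtain ⟨k, hk⟩ := D.inj U hU r m h1
    refine Opens.mem_iSup.mpr ⟨⟨r ^ (k + 1), ?_⟩, ?_⟩
    · change str B U (r ^ (k + 1)) • m = 0
      rw [map_pow, pow_succ', mul_smul, hk, smul_zero]
    · rw [Scheme.basicOpen_pow _ _ (Nat.succ_pos k)]
      exact hxr
  have h1 : (1 : Γ(S, U)) ∈ Ideal.span s := hspan ▸ Submodule.mem_top
  have h2 : ∀ r ∈ Ideal.span s, str B U r • m = 0 := by
    intro r hr
    induction hr using Submodule.span_induction with
    | mem r hr => exact hr
    | zero => rw [map_zero, zero_smul]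
    | add a b _ _ ha hb => rw [map_add, add_smul, ha, hb, add_zero]
    | smul c a _ ha => rw [smul_eq_mul, map_mul, mul_smul, ha, smul_zero]
  have h3 := h2 1 h1
  rwa [map_one, one_smul] at h3

theorem eq_of_cover (m m' : D.M U hU)
    (h : ∀ x ∈ U, ∃ (V : S.Opens) (hV : IsAffineOpen V) (hVU : V ≤ U), x ∈ V ∧
      D.res hU hV hVU m = D.res hU hV hVU m') : m = m' := by
  rw [← sub_eq_zero]
  refine D.eq_zero_of_cover hU _ fun x hx => ?_
  obtain ⟨V, hV, hVU, hxV, e⟩ := h x hx
  exact ⟨V, hV, hVU, hxV, by rw [map_sub, e, sub_self]⟩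

/-- Uniform exponent in `surj`. -/
theorem surj_le (r : Γ(S, U)) (m : D.M (S.basicOpen r) (hU.basicOpen r)) :
    ∃ k : ℕ, ∀ n, k ≤ n → ∃ x : D.M U hU, D.res hU (hU.basicOpen r) (S.basicOpen_le r) x =
      rho B (S.basicOpen_le r) (str B U r) ^ n • m := by
  obtain ⟨k, x, hx⟩ := D.surj U hU r m
  refine ⟨k, fun n hn => ?_⟩
  obtain ⟨j, rfl⟩ := Nat.exists_eq_add_of_le hn
  refine ⟨str B U r ^ j • x, ?_⟩
  rw [D.res_smul, hx, map_pow, ← mul_smul, ← pow_add, add_comm j k]

theorem inj_le (r : Γ(S, U)) (m : D.M U hU) (hm : D.res hU (hU.basicOpen r) (S.basicOpen_le r) m = 0) :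
    ∃ k : ℕ, ∀ n, k ≤ n → str B U r ^ n • m = 0 := by
  obtain ⟨k, hk⟩ := D.inj U hU r m hm
  refine ⟨k, fun n hn => ?_⟩
  obtain ⟨j, rfl⟩ := Nat.exists_eq_add_of_le hn
  rw [add_comm, pow_add, mul_smul, hk, smul_zero]

/-- Gluing along a finite family of basic opens. -/
theorem exists_glue_basic {J : Type} [Finite J] (r : J → Γ(S, U)) (hr : Ideal.span (Set.range r) = ⊤)
    (n : ∀ j, D.M (S.basicOpen (r j)) (hU.basicOpen (r j)))
    (hn : ∀ (i j : J) (W : S.Opens) (hW : IsAffineOpen W) (hi : W ≤ S.basicOpen (r i)) (hj : W ≤ S.basicOpen (r j)),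
      D.res (hU.basicOpen (r i)) hW hi (n i) = D.res (hU.basicOpen (r j)) hW hj (n j)) :
    ∃ m : D.M U hU, ∀ j, D.res hU (hU.basicOpen (r j)) (S.basicOpen_le (r j)) m = n j := by
  classical
  have : Fintype J := Fintype.ofFinite J
  choose k hk using fun j => D.surj_le hU (r j) (n j)
  let N := ∑ j, k j
  have hN : ∀ j, k j ≤ N := fun j => Finset.single_le_sum (f := k) (fun _ _ => Nat.zero_le _) (Finset.mem_univ j)
  choose x hx using fun j => hk j N (hN j)
  -- the differences on the overlaps are killed by a power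
  have hD : ∀ i j, ∃ l : ℕ, ∀ n, l ≤ n → str B U (r i * r j) ^ n •
      (str B U (r i) ^ N • x j - str B U (r j) ^ N • x i) = 0 := by
    intro i j
    refine D.inj_le hU (r i * r j) _ ?_
    have hi : S.basicOpen (r i * r j) ≤ S.basicOpen (r i) := by rw [Scheme.basicOpen_mul]; exact inf_le_left
    have hj : S.basicOpen (r i * r j) ≤ S.basicOpen (r j) := by rw [Scheme.basicOpen_mul]; exact inf_le_right
    have e : ∀ a (ha : S.basicOpen (r i * r j) ≤ S.basicOpen (r a)),
        D.res hU (hU.basicOpen (r i * r j)) (S.basicOpen_le _) (x a) =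
        rho B (S.basicOpen_le (r i * r j)) (str B U (r a)) ^ N • D.res (hU.basicOpen (r a)) (hU.basicOpen _) ha (n a) := by
      intro a ha
      rw [← D.res_res hU (hU.basicOpen (r a)) (hU.basicOpen (r i * r j)) (S.basicOpen_le _) ha, hx, D.res_smul,
        map_pow, rho_rho]
    rw [map_sub, D.res_smul, D.res_smul, e i hi, e j hj, map_pow, map_pow, hn i j _ (hU.basicOpen _) hi hj,
      ← mul_smul, ← mul_smul, mul_comm (rho B _ (str B U (r i)) ^ N), sub_self]
  choose l hl using hD
  let L := ∑ i, ∑ j, l i j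
  have hL : ∀ i j, l i j ≤ L := fun i j =>
    (Finset.single_le_sum (f := fun j => l i j) (fun _ _ => Nat.zero_le _) (Finset.mem_univ j)).trans
      (Finset.single_le_sum (f := fun i => ∑ j, l i j) (fun _ _ => Nat.zero_le _) (Finset.mem_univ i))
  have hy : ∀ i j, str B U (r i) ^ (L + N) • str B U (r j) ^ L • x j =
      str B U (r j) ^ (L + N) • str B U (r i) ^ L • x i := by
    intro i j
    have h := hl i j L (hL i j)
    rw [smul_sub, sub_eq_zero, map_mul, mul_pow] at h
    have e1 : str B U (r i) ^ (L + N) • str B U (r j) ^ L • x j =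
        (str B U (r i) ^ L * str B U (r j) ^ L) • str B U (r i) ^ N • x j := by
      rw [← mul_smul, ← mul_smul]
      congr 1
      ring
    have e2 : str B U (r j) ^ (L + N) • str B U (r i) ^ L • x i =
        (str B U (r i) ^ L * str B U (r j) ^ L) • str B U (r j) ^ N • x i := by
      rw [← mul_smul, ← mul_smul]
      congr 1
      ring
    rw [e1, e2, h]
  -- a partition of unity
  obtain ⟨c, hc⟩ : ∃ c : J → Γ(S, U), ∑ j, c j * r j ^ (L + N) = 1 := by
    have h1 : Ideal.span (Set.range fun j => r j ^ (L + N)) = ⊤ := by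
      have h2 := Ideal.span_pow_eq_top _ hr (L + N)
      rwa [← Set.range_comp] at h2
    have h2 : (1 : Γ(S, U)) ∈ Ideal.span (Set.range fun j => r j ^ (L + N)) := h1 ▸ Submodule.mem_top
    obtain ⟨c, hc⟩ := (Submodule.mem_span_range_iff_exists_fun _).1 h2
    exact ⟨c, hc⟩
  refine ⟨∑ j, str B U (c j) • str B U (r j) ^ L • x j, fun i => ?_⟩
  have h1 : str B U (r i) ^ (L + N) • (∑ j, str B U (c j) • str B U (r j) ^ L • x j) =
      str B U (r i) ^ L • x i := by
    rw [Finset.smul_sum]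
    have h2 : ∀ j, str B U (r i) ^ (L + N) • str B U (c j) • str B U (r j) ^ L • x j =
        str B U (c j * r j ^ (L + N)) • str B U (r i) ^ L • x i := by
      intro j
      rw [smul_comm, hy i j, ← mul_smul, map_mul, map_pow]
    rw [Finset.sum_congr rfl fun j _ => h2 j, ← Finset.sum_smul, ← map_sum, hc, map_one, one_smul]
  have h2 := congrArg (D.res hU (hU.basicOpen (r i)) (S.basicOpen_le (r i))) h1
  rw [D.res_smul, D.res_smul, hx, map_pow, map_pow, ← mul_smul, ← pow_add] at h2
  have hu : IsUnit (rho B (S.basicOpen_le (r i)) (str B U (r i)) ^ (L + N)) := by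
    refine IsUnit.pow _ ?_
    rw [rho_str]
    exact isUnit_str (r i)
  exact hu.smul_left_cancel.1 h2

/-- Gluing along a cover of an affine open by affine opens. -/
theorem exists_glue {ι : Type*} (V : ι → S.Opens) (hV : ∀ i, IsAffineOpen (V i)) (hVU : ∀ i, V i ≤ U)
    (hcov : ∀ x ∈ U, ∃ i, x ∈ V i) (n : ∀ i, D.M (V i) (hV i))
    (hn : ∀ (i j : ι) (W : S.Opens) (hW : IsAffineOpen W) (hi : W ≤ V i) (hj : W ≤ V j),
      D.res (hV i) hW hi (n i) = D.res (hV j) hW hj (n j)) :
    ∃ m : D.M U hU, ∀ i, D.res hU (hV i) (hVU i) m = n i := by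
  classical
  let s : Set Γ(S, U) := {r | ∃ i, S.basicOpen r ≤ V i}
  have hspan : Ideal.span s = ⊤ := by
    rw [← hU.self_le_iSup_basicOpen_iff]
    intro x hx
    obtain ⟨i, hxi⟩ := hcov x hx
    obtain ⟨r, hrV, hxr⟩ := hU.exists_basicOpen_le (V := V i) ⟨x, hxi⟩ hx
    exact Opens.mem_iSup.mpr ⟨⟨r, i, hrV⟩, hxr⟩
  obtain ⟨t, hts, ht⟩ : ∃ t : Finset Γ(S, U), (t : Set Γ(S, U)) ⊆ s ∧ Ideal.span (t : Set Γ(S, U)) = ⊤ := by
    have h1 : (1 : Γ(S, U)) ∈ Ideal.span s := hspan ▸ Submodule.mem_top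
    obtain ⟨t, hts, ht⟩ := Submodule.mem_span_finite_of_mem_span h1
    exact ⟨t, hts, (Ideal.eq_top_iff_one _).2 ht⟩
  let J := Fin t.card
  let e := t.equivFin
  let r : J → Γ(S, U) := fun j => (e.symm j).1
  have hr : Ideal.span (Set.range r) = ⊤ := by
    rw [← ht]
    congr 1
    ext a
    constructor
    · rintro ⟨j, rfl⟩
      exact (e.symm j).2
    · intro ha
      exact ⟨e ⟨a, ha⟩, by simp [r]⟩
  choose i hi using fun j : J => hts (e.symm j).2
  obtain ⟨m, hm⟩ := D.exists_glue_basic hU r hr (fun j => D.res (hV (i j)) (hU.basicOpen (r j)) (hi j) (n (i j)))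
    (fun a b W hW ha hb => by
      rw [D.res_res, D.res_res]
      exact hn _ _ W hW _ _)
  refine ⟨m, fun k => D.eq_of_cover (hV k) _ _ fun x hx => ?_⟩
  have hxU := hVU k hx
  have h1 : U ≤ ⨆ f : Set.range r, S.basicOpen f.1 := (hU.self_le_iSup_basicOpen_iff).2 hr
  obtain ⟨⟨_, j, rfl⟩, hxj⟩ := Opens.mem_iSup.mp (h1 hxU)
  obtain ⟨W, hW, hxW, hWle⟩ := Opens.isBasis_iff_nbhd.mp S.isBasis_affineOpens
    (show x ∈ V k ⊓ S.basicOpen (r j) from ⟨hx, hxj⟩)
  refine ⟨W, hW, hWle.trans inf_le_left, hxW, ?_⟩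
  rw [D.res_res, ← D.res_res hU (hU.basicOpen (r j)) hW (S.basicOpen_le _) (hWle.trans inf_le_right), hm, D.res_res]
  exact hn _ _ W hW _ _

end alg

section glued

/-- The compatible families of elements of the `M(U)`, `U ≤ V` affine. -/
def famSub (V : S.Opens) : AddSubgroup (∀ k : {U : S.Opens // IsAffineOpen U ∧ U ≤ V}, D.M k.1 k.2.1) where
  carrier := {m | ∀ (U W : S.Opens) (hU : IsAffineOpen U) (hW : IsAffineOpen W) (h : W ≤ U) (hUV : U ≤ V),
    D.res hU hW h (m ⟨U, hU, hUV⟩) = m ⟨W, hW, h.trans hUV⟩}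
  zero_mem' := fun U W hU hW h hUV => map_zero (D.res hU hW h)
  add_mem' := fun {a b} ha hb U W hU hW h hUV => by
    rw [Pi.add_apply, Pi.add_apply, map_add, ha U W hU hW h hUV, hb U W hU hW h hUV]
  neg_mem' := fun {a} ha U W hU hW h hUV => by
    rw [Pi.neg_apply, Pi.neg_apply, map_neg, ha U W hU hW h hUV]

/-- The sections over `V` of the glued module. -/
def Fam (V : S.Opens) : Type u := ↥(D.famSub V)

instance (V : S.Opens) : AddCommGroup (D.Fam V) := inferInstanceAs (AddCommGroup ↥(D.famSub V))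

variable {D}

/-- The component of a family. -/
def Fam.at {V : S.Opens} (m : D.Fam V) (U : S.Opens) (hU : IsAffineOpen U) (h : U ≤ V) : D.M U hU := m.1 ⟨U, hU, h⟩

/-- A family from its components. -/
def Fam.mk' {V : S.Opens} (m : ∀ (U : S.Opens) (hU : IsAffineOpen U), U ≤ V → D.M U hU)
    (hm : ∀ (U W : S.Opens) (hU : IsAffineOpen U) (hW : IsAffineOpen W) (h : W ≤ U) (hUV : U ≤ V),
      D.res hU hW h (m U hU hUV) = m W hW (h.trans hUV)) : D.Fam V :=
  ⟨fun k => m k.1 k.2.1 k.2.2, hm⟩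

theorem Fam.mk'_at {V : S.Opens} (m : ∀ (U : S.Opens) (hU : IsAffineOpen U), U ≤ V → D.M U hU)
    (hm : ∀ (U W : S.Opens) (hU : IsAffineOpen U) (hW : IsAffineOpen W) (h : W ≤ U) (hUV : U ≤ V),
      D.res hU hW h (m U hU hUV) = m W hW (h.trans hUV)) (U : S.Opens) (hU : IsAffineOpen U) (h : U ≤ V) :
    (Fam.mk' m hm).at U hU h = m U hU h := rfl

theorem Fam.res_at {V : S.Opens} (m : D.Fam V) {U W : S.Opens} (hU : IsAffineOpen U) (hW : IsAffineOpen W)
    (h : W ≤ U) (hUV : U ≤ V) : D.res hU hW h (m.at U hU hUV) = m.at W hW (h.trans hUV) := m.2 U W hU hW h hUV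

theorem Fam.ext' {V : S.Opens} {m m' : D.Fam V} (h : ∀ U hU hUV, m.at U hU hUV = m'.at U hU hUV) : m = m' :=
  Subtype.ext (funext fun k => h k.1 k.2.1 k.2.2)

theorem Fam.add_at {V : S.Opens} (m m' : D.Fam V) (U : S.Opens) (hU : IsAffineOpen U) (h : U ≤ V) :
    (m + m').at U hU h = m.at U hU h + m'.at U hU h := rfl

theorem Fam.zero_at {V : S.Opens} (U : S.Opens) (hU : IsAffineOpen U) (h : U ≤ V) :
    (0 : D.Fam V).at U hU h = 0 := rfl

variable (D)

/-- Scalar multiplication of families. -/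
def smulF {V : S.Opens} (b : Sec B V) (m : D.Fam V) : D.Fam V :=
  Fam.mk' (fun U hU h => rho B h b • m.at U hU h) fun U W hU hW h hUV => by
    rw [D.res_smul, rho_rho, m.res_at]

instance modF (V : S.Opens) : Module (Sec B V) (D.Fam V) where
  smul b m := D.smulF b m
  one_smul m := Fam.ext' fun U hU hUV => by
    change rho B hUV 1 • m.at U hU hUV = _
    rw [map_one, one_smul]
  mul_smul b c m := Fam.ext' fun U hU hUV => by
    change rho B hUV (b * c) • m.at U hU hUV = rho B hUV b • rho B hUV c • m.at U hU hUV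
    rw [map_mul, mul_smul]
  smul_zero b := Fam.ext' fun U hU hUV => smul_zero (rho B hUV b)
  smul_add b m m' := Fam.ext' fun U hU hUV => smul_add (rho B hUV b) (m.at U hU hUV) (m'.at U hU hUV)
  add_smul b c m := Fam.ext' fun U hU hUV => by
    change rho B hUV (b + c) • m.at U hU hUV = rho B hUV b • m.at U hU hUV + rho B hUV c • m.at U hU hUV
    rw [map_add, add_smul]
  zero_smul m := Fam.ext' fun U hU hUV => by
    change rho B hUV 0 • m.at U hU hUV = 0
    rw [map_zero, zero_smul]

theorem smul_at {V : S.Opens} (b : Sec B V) (m : D.Fam V) (U : S.Opens) (hU : IsAffineOpen U) (h : U ≤ V) :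
    (b • m).at U hU h = rho B h b • m.at U hU h := rfl

/-- Restriction of families. -/
def resF {V W : S.Opens} (h : W ≤ V) : D.Fam V →+ D.Fam W where
  toFun m := Fam.mk' (fun U hU hUW => m.at U hU (hUW.trans h))
    fun _ _ hU hU' h' hUW => m.res_at hU hU' h' (hUW.trans h)
  map_zero' := rfl
  map_add' _ _ := rfl

theorem resF_at {V W : S.Opens} (h : W ≤ V) (m : D.Fam V) (U : S.Opens) (hU : IsAffineOpen U) (hUW : U ≤ W) :
    (D.resF h m).at U hU hUW = m.at U hU (hUW.trans h) := rfl

theorem resF_smul {V W : S.Opens} (h : W ≤ V) (b : Sec B V) (m : D.Fam V) :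
    D.resF h (b • m) = rho B h b • D.resF h m := Fam.ext' fun U hU hUW => by
  rw [resF_at, smul_at, smul_at, resF_at, rho_rho]

/-- The presheaf of abelian groups of the families. -/
def preAb : TopCat.Presheaf AddCommGrpCat.{u} S where
  obj V := AddCommGrpCat.of (D.Fam V.unop)
  map f := AddCommGrpCat.ofHom (D.resF f.unop.le)
  map_id _ := rfl
  map_comp _ _ := rfl

set_option backward.isDefEq.respectTransparency false in
instance (V : (Opens S)ᵒᵖ) : Module ((AMod.ringSheaf B).obj.obj V) (D.preAb.obj V) :=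
  inferInstanceAs (Module (Sec B V.unop) (D.Fam V.unop))

/-- The presheaf of `B`-modules of the families. -/
def preM : PresheafOfModules.{u} (AMod.ringSheaf B).obj :=
  PresheafOfModules.ofPresheaf D.preAb fun {_ _} f b m => D.resF_smul f.unop.le b m

theorem isSheaf_preAb : D.preAb.IsSheaf := by
  rw [TopCat.Presheaf.isSheaf_iff_isSheafUniqueGluing]
  intro ι V sf hsf
  replace hsf : ∀ (i j : ι) (W : S.Opens) (hW : IsAffineOpen W) (hi : W ≤ V i) (hj : W ≤ V j),
      (show D.Fam (V i) from sf i).at W hW hi = (show D.Fam (V j) from sf j).at W hW hj := by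
    intro i j W hW hi hj
    exact congrArg (fun m : D.Fam (V i ⊓ V j) => m.at W hW (le_inf hi hj)) (hsf i j)
  -- the component at an affine open
  have key : ∀ (U : S.Opens) (hU : IsAffineOpen U) (h : U ≤ ⨆ i, V i), ∃ m : D.M U hU,
      ∀ (i : ι) (W : S.Opens) (hW : IsAffineOpen W) (hWU : W ≤ U) (hWi : W ≤ V i),
        D.res hU hW hWU m = (show D.Fam (V i) from sf i).at W hW hWi := by
    intro U hU h
    let K := {k : S.Opens × ι // IsAffineOpen k.1 ∧ k.1 ≤ U ∧ k.1 ≤ V k.2}
    obtain ⟨m, hm⟩ := D.exists_glue hU (fun k : K => k.1.1) (fun k => k.2.1) (fun k => k.2.2.1)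
      (fun x hx => by
        obtain ⟨i, hxi⟩ := Opens.mem_iSup.mp (h hx)
        obtain ⟨W, hW, hxW, hWle⟩ := Opens.isBasis_iff_nbhd.mp S.isBasis_affineOpens
          (show x ∈ U ⊓ V i from ⟨hx, hxi⟩)
        exact ⟨⟨(W, i), hW, hWle.trans inf_le_left, hWle.trans inf_le_right⟩, hxW⟩)
      (fun k => (show D.Fam (V k.1.2) from sf k.1.2).at k.1.1 k.2.1 k.2.2.2)
      (fun k l W hW hk hl => by
        rw [Fam.res_at, Fam.res_at]
        exact hsf _ _ _ _ _ _)
    exact ⟨m, fun i W hW hWU hWi => hm ⟨(W, i), hW, hWU, hWi⟩⟩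
  choose f hf using key
  have huniq : ∀ (U : S.Opens) (hU : IsAffineOpen U) (h : U ≤ ⨆ i, V i) (a b : D.M U hU),
      (∀ (i : ι) (W : S.Opens) (hW : IsAffineOpen W) (hWU : W ≤ U) (_ : W ≤ V i),
        D.res hU hW hWU a = D.res hU hW hWU b) → a = b := by
    intro U hU h a b hab
    refine D.eq_of_cover hU a b fun x hx => ?_
    obtain ⟨i, hxi⟩ := Opens.mem_iSup.mp (h hx)
    obtain ⟨W, hW, hxW, hWle⟩ := Opens.isBasis_iff_nbhd.mp S.isBasis_affineOpens
      (show x ∈ U ⊓ V i from ⟨hx, hxi⟩)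
    exact ⟨W, hW, hWle.trans inf_le_left, hxW, hab i W hW _ (hWle.trans inf_le_right)⟩
  let m : D.Fam (⨆ i, V i) := Fam.mk' f fun U W hU hW h hUV => by
    refine huniq W hW (h.trans hUV) _ _ fun i W' hW' hW'W hW'i => ?_
    rw [D.res_res, hf U hU hUV i W' hW' (hW'W.trans h) hW'i, hf W hW (h.trans hUV) i W' hW' hW'W hW'i]
  refine ⟨m, fun i => ?_, fun m' hm' => ?_⟩
  · refine Fam.ext' (m := D.resF (le_iSup V i) m) (m' := sf i) fun U hU hUi => ?_
    have h1 := hf U hU (hUi.trans (le_iSup V i)) i U hU le_rfl hUi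
    rw [D.res_self] at h1
    exact h1
  · refine Fam.ext' (m := m') (m' := m) fun U hU h => ?_
    refine huniq U hU h _ _ fun i W hW hWU hWi => ?_
    rw [Fam.res_at]
    refine Eq.trans ?_ (hf U hU h i W hW hWU hWi).symm
    exact congrArg (fun m : D.Fam (V i) => m.at W hW hWi) (hm' i)

/-- The glued module. -/
def glued : AMod B where
  val := D.preM
  isSheaf := D.isSheaf_preAb

/-- The sections over an affine open. -/
def ev (U : S.Opens) (hU : IsAffineOpen U) : D.glued.val.obj (op U) →+ D.M U hU where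
  toFun m := (show D.Fam U from m).at U hU le_rfl
  map_zero' := rfl
  map_add' _ _ := rfl

theorem ev_smul (U : S.Opens) (hU : IsAffineOpen U) (b : Sec B U) (m : D.glued.val.obj (op U)) :
    D.ev U hU ((show (AMod.ringSheaf B).obj.obj (op U) from b) • m) = b • D.ev U hU m := by
  change rho B le_rfl b • (show D.Fam U from m).at U hU le_rfl = _
  rw [rho_self]
  rfl

theorem ev_res {U V : S.Opens} (hU : IsAffineOpen U) (hV : IsAffineOpen V) (h : V ≤ U) (m : D.glued.val.obj (op U)) :
    D.ev V hV ((D.glued.val.map (homOfLE h).op).hom m) = D.res hU hV h (D.ev U hU m) :=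
  (Fam.res_at (show D.Fam U from m) hU hV h le_rfl).symm

theorem ev_bijective (U : S.Opens) (hU : IsAffineOpen U) : Function.Bijective (D.ev U hU) := by
  constructor
  · intro m m' h
    refine Fam.ext' (m := (show D.Fam U from m)) (m' := (show D.Fam U from m')) fun V hV hVU => ?_
    rw [← Fam.res_at (show D.Fam U from m) hU hV hVU le_rfl, ← Fam.res_at (show D.Fam U from m') hU hV hVU le_rfl]
    exact congrArg (D.res hU hV hVU) h
  · intro m
    refine ⟨(Fam.mk' (fun V hV hVU => D.res hU hV hVU m) fun V W hV hW h hVU => D.res_res _ _ _ _ _ _ : D.Fam U), ?_⟩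
    exact D.res_self U hU m

/-- The glued module is quasi-coherent. -/
theorem isQCoh_glued : Coh.IsQCoh ((AMod.toOS B).obj D.glued) := by
  refine Groth.Agent.Ega1.QCohLoc.isQCoh_of_isLocOnAffines _ fun U hU r => ⟨fun s => ?_, fun t ht => ?_⟩
  · obtain ⟨k, x, hx⟩ := D.surj U hU r (D.ev _ (hU.basicOpen r) s)
    obtain ⟨t, rfl⟩ := (D.ev_bijective U hU).2 x
    refine ⟨k, t, ?_⟩
    apply (D.ev_bijective _ (hU.basicOpen r)).1
    refine (D.ev_res hU (hU.basicOpen r) (S.basicOpen_le r) t).trans (hx.trans ?_)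
    have h1 : rho B (S.basicOpen_le r) (str B U r) ^ k = str B _ (resO (S.basicOpen_le r) r ^ k) := by
      rw [map_pow, rho_str]
      rfl
    rw [h1]
    exact (D.ev_smul _ (hU.basicOpen r) _ s).symm
  · have h1 : D.res hU (hU.basicOpen r) (S.basicOpen_le r) (D.ev U hU t) = 0 := by
      refine (D.ev_res hU (hU.basicOpen r) (S.basicOpen_le r) t).symm.trans ?_
      exact (congrArg (D.ev _ (hU.basicOpen r)) ht).trans (map_zero _)
    obtain ⟨k, hk⟩ := D.inj U hU r _ h1
    refine ⟨k, ?_⟩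
    have h2 : D.ev U hU (r ^ k • t) = 0 := by
      refine Eq.trans ?_ hk
      rw [← map_pow]
      exact D.ev_smul U hU _ t
    exact (D.ev_bijective U hU).1 (h2.trans (map_zero (D.ev U hU)).symm)

end glued

end Datum

end K39.AffMod
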