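import Groth.Agent.EGA2.K39.GrQCoh
import Groth.Prelude.Def_GrMod3

/-!
# A module given by multiplications is the module attached to a graded module: local form

`j : Proj 𝒜 ⟶ P` an open immersion, `C : CAct j` a system of modules `C.G n` on `P` with multiplications by the
homogeneous elements of `A` over the opens in the range of `j`, `R : CReal C ℳ`: maps `T n : M → Γ(C.G n, range j)` for a
graded module `M` such that the sections of `C.G 0` over `D_+(g)` are the `x / g ^ k`.  Then `lamC : C.G 0 ⟶ j_* M~` is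
characterised by `gval_lamC`, and is bijective on sections over the opens in the range of `j`.
-/

set_option autoImplicit false
set_option linter.unusedSectionVars false
universe u

open CategoryTheory AlgebraicGeometry TopologicalSpace Opposite

noncomputable section

namespace K39.ChartLam

open K39.GrSect K39.GrFrac K39.GrQCoh Groth.Agent.FormalB.GlueHom

variable {A σ : Type u} [CommRing A] [SetLike σ A] [AddSubgroupClass σ A] {𝒜 : ℕ → σ} [GradedRing 𝒜]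
variable {M τ : Type u} [AddCommGroup M] [Module A M] [SetLike τ M] [AddSubgroupClass τ M] {ℳ : ℕ → τ}
  [SetLike.GradedSMul 𝒜 ℳ] [DirectSum.Decomposition ℳ]
variable {P : Scheme.{u}}

/-- Modules with multiplications by homogeneous elements. -/
structure CAct (j : Proj 𝒜 ⟶ P) [IsOpenImmersion j] where
  G : ℤ → P.Modules
  act : ∀ {d : ℕ} {a : A} (_ : a ∈ 𝒜 d) {m k : ℤ} (_ : m + d = k) {W : P.Opens} (_ : W ≤ j.opensRange),
    Γ(G m, W) →+ Γ(G k, W)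
  act_smul : ∀ {d : ℕ} {a : A} (ha : a ∈ 𝒜 d) {m k : ℤ} (h : m + d = k) {W : P.Opens} (hW : W ≤ j.opensRange)
    (c : Γ(P, W)) (x : Γ(G m, W)), act ha h hW (c • x) = c • act ha h hW x
  act_res : ∀ {d : ℕ} {a : A} (ha : a ∈ 𝒜 d) {m k : ℤ} (h : m + d = k) {W V : P.Opens} (hW : W ≤ j.opensRange)
    (hV : V ≤ W) (x : Γ(G m, W)), res (G k) hV (act ha h hW x) = act ha h (hV.trans hW) (res (G m) hV x)
  act_mul : ∀ {d e f : ℕ} {a b : A} (ha : a ∈ 𝒜 d) (hb : b ∈ 𝒜 e) (hab : a * b ∈ 𝒜 f) {m l k : ℤ}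
    (h : m + f = k) (h1 : m + e = l) (h2 : l + d = k) {W : P.Opens} (hW : W ≤ j.opensRange) (x : Γ(G m, W)),
    act hab h hW x = act ha h2 hW (act hb h1 hW x)
  act_frac : ∀ {d : ℕ} {a b : A} (ha : a ∈ 𝒜 d) (hb : b ∈ 𝒜 d) {m k : ℤ} (h : m + d = k) {W : P.Opens}
    (hW : W ≤ j.opensRange) (c : Γ(P, W)) (_ : ∀ y : ↥(j ⁻¹ᵁ W), oval (j.app W c : Γ(Proj 𝒜, j ⁻¹ᵁ W)) y *
      algebraMap A (GrTwist.Loc 𝒜 y.1) b = algebraMap A (GrTwist.Loc 𝒜 y.1) a) (x : Γ(G m, W)),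
    act ha h hW x = c • act hb h hW x
  act_bij : ∀ {d : ℕ} {a : A} (ha : a ∈ 𝒜 d) {m k : ℤ} (h : m + d = k) {W : P.Opens} (hW : W ≤ j.opensRange)
    (_ : NV (j ⁻¹ᵁ W) a), Function.Bijective (act ha h hW)

/-- The image of `D_+(g)`. -/
def DB (j : Proj 𝒜 ⟶ P) [IsOpenImmersion j] (a : A) : P.Opens := j ''ᵁ Proj.basicOpen 𝒜 a

section DB

variable (j : Proj 𝒜 ⟶ P) [IsOpenImmersion j]

theorem DB_le (a : A) : DB j a ≤ j.opensRange := j.image_le_opensRange _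

theorem preimage_DB (a : A) : j ⁻¹ᵁ (DB j a) = Proj.basicOpen 𝒜 a := j.preimage_image_eq _

theorem mem_DB (a : A) (y : Proj 𝒜) : j y ∈ DB j a ↔ a ∉ (y : ProjectiveSpectrum 𝒜).asHomogeneousIdeal := by
  change y ∈ j ⁻¹ᵁ (DB j a) ↔ _
  rw [preimage_DB]
  exact Iff.rfl

theorem nv_DB (a : A) : NV (j ⁻¹ᵁ DB j a) a := by
  rw [preimage_DB]
  exact NV.basicOpen a

theorem exists_DB_le {W : P.Opens} (y : Proj 𝒜) (hy : j y ∈ W) :
    ∃ (d : ℕ) (g : A), 0 < d ∧ g ∈ 𝒜 d ∧ g ∉ (y : ProjectiveSpectrum 𝒜).asHomogeneousIdeal ∧ DB j g ≤ W := by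
  obtain ⟨d, g, hd, hg, hgy, hle⟩ := K39.GrSect.exists_basicOpen_le 𝒜 y (V := j ⁻¹ᵁ W) hy
  refine ⟨d, g, hd, hg, hgy, ?_⟩
  refine (j.image_mono (show Proj.basicOpen 𝒜 g ≤ j ⁻¹ᵁ W from fun y hy => hle y hy)).trans ?_
  exact j.image_preimage_le W

end DB

variable {j : Proj 𝒜 ⟶ P} [IsOpenImmersion j]

/-- A graded module with maps to the sections. -/
structure CReal (C : CAct j) (ℳ : ℕ → τ) where
  T : ∀ n : ℕ, M →+ Γ(C.G n, j.opensRange)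
  smul : ∀ {d n k : ℕ} {a : A} (ha : a ∈ 𝒜 d) (h : (n : ℤ) + d = k) (x : M),
    T k (a • x) = C.act ha h le_rfl (T n x)
  ex : ∀ {d : ℕ} (_ : 0 < d) {g : A} (hg : g ∈ 𝒜 d) (s : Γ(C.G 0, DB j g)), ∃ (k : ℕ) (x : M), x ∈ ℳ (k * d) ∧
    res _ (DB_le j g) (T (k * d) x) = C.act (pow_mem' hg k) (zero_add _) (DB_le j g) s
  inj : ∀ {d : ℕ} (_ : 0 < d) {g : A} (_ : g ∈ 𝒜 d) {n : ℕ} {x : M} (_ : x ∈ ℳ n),
    res _ (DB_le j g) (T n x) = 0 → ∃ k : ℕ, g ^ k • x = 0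

variable {C : CAct j} (R : CReal C ℳ)

/-- `z = x / g` with `g s = x` near `y`. -/
def Rep {W : P.Opens} (s : Γ(C.G 0, W)) (y : ProjectiveSpectrum 𝒜) (z : GrMod.LocMod 𝒜 (M := M) y) : Prop :=
  ∃ (d : ℕ) (g : A) (hg : g ∈ 𝒜 d) (hgy : g ∉ y.asHomogeneousIdeal) (x : M) (_ : x ∈ ℳ d) (V : P.Opens)
    (hVW : V ≤ W) (hVr : V ≤ j.opensRange) (_ : j (y : Proj 𝒜) ∈ V),
    z = LocalizedModule.mk x ⟨g, hgy⟩ ∧ res _ hVr (R.T d x) = C.act hg (zero_add _) hVr (res _ hVW s)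

theorem CAct.act_congr (C : CAct j) {d e : ℕ} {a b : A} (hab : a = b) (ha : a ∈ 𝒜 d) (hb : b ∈ 𝒜 e) {m k : ℤ}
    (h : m + d = k) (h' : m + e = k) {W : P.Opens} (hW : W ≤ j.opensRange) (x : Γ(C.G m, W)) :
    C.act ha h hW x = C.act hb h' hW x := by
  obtain rfl : d = e := by omega
  subst hab
  rfl

theorem CAct.act_comm (C : CAct j) {d e : ℕ} {a b : A} (ha : a ∈ 𝒜 d) (hb : b ∈ 𝒜 e) {m l l' k : ℤ}
    (h1 : m + e = l) (h2 : l + d = k) (h3 : m + d = l') (h4 : l' + e = k) {W : P.Opens} (hW : W ≤ j.opensRange)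
    (x : Γ(C.G m, W)) : C.act ha h2 hW (C.act hb h1 hW x) = C.act hb h4 hW (C.act ha h3 hW x) := by
  rw [← C.act_mul ha hb (SetLike.mul_mem_graded ha hb) (by push_cast; omega) h1 h2 hW x,
    ← C.act_mul hb ha (SetLike.mul_mem_graded hb ha) (by push_cast; omega) h3 h4 hW x]
  exact C.act_congr (mul_comm a b) _ _ _ _ _ _

theorem mk_eq_of_pow {y : ProjectiveSpectrum 𝒜} {x x' : M} {g g' : A} (hg : g ∉ y.asHomogeneousIdeal)
    (hg' : g' ∉ y.asHomogeneousIdeal) {h : A} (hh : h ∉ y.asHomogeneousIdeal) (k : ℕ)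
    (e : h ^ k • (g' • x - g • x') = 0) :
    (LocalizedModule.mk x ⟨g, hg⟩ : GrMod.LocMod 𝒜 (M := M) y) = LocalizedModule.mk x' ⟨g', hg'⟩ := by
  refine LocalizedModule.mk_eq.mpr ⟨⟨h ^ k, fun hm => hh (y.isPrime.mem_of_pow_mem k hm)⟩, ?_⟩
  rw [smul_sub, sub_eq_zero] at e
  exact e

theorem Rep.unique {W : P.Opens} {s : Γ(C.G 0, W)} {y : ProjectiveSpectrum 𝒜} {z z' : GrMod.LocMod 𝒜 (M := M) y}
    (hz : Rep R s y z) (hz' : Rep R s y z') : z = z' := by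
  obtain ⟨d, g, hg, hgy, x, hx, V, hVW, hVr, hyV, rfl, e⟩ := hz
  obtain ⟨d', g', hg', hgy', x', hx', V', hVW', hVr', hyV', rfl, e'⟩ := hz'
  obtain ⟨n, h, hn, hh, hhy, hle⟩ := exists_DB_le j (W := V ⊓ V') y ⟨hyV, hyV'⟩
  have hd : g' • x ∈ ℳ (d' + d) := smul_mem_add 𝒜 hg' hx
  have hd' : g • x' ∈ ℳ (d' + d) := by rw [add_comm]; exact smul_mem_add 𝒜 hg hx'
  obtain ⟨k, hk⟩ := R.inj hn hh (sub_mem hd hd') (by
    rw [map_sub, res_sub, R.smul hg' (n := d) (by push_cast; ring), R.smul hg (n := d') (by push_cast; ring),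
      C.act_res, C.act_res, ← res_res _ hVr (hle.trans inf_le_left), ← res_res _ hVr' (hle.trans inf_le_right), e, e',
      C.act_res, C.act_res, res_res, res_res, sub_eq_zero]
    exact C.act_comm _ _ _ _ _ _ _ _)
  exact mk_eq_of_pow hgy hgy' hhy k hk

theorem Rep.exists {W : P.Opens} (s : Γ(C.G 0, W)) (y : ProjectiveSpectrum 𝒜) (hy : j (y : Proj 𝒜) ∈ W) :
    ∃ z, Rep R s y z := by
  obtain ⟨d, g, hd, hg, hgy, hle⟩ := exists_DB_le j (W := W) y hy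
  obtain ⟨k, x, hx, e⟩ := R.ex hd hg (res _ hle s)
  exact ⟨_, k * d, g ^ k, pow_mem' hg k, pow_notMem hgy k, x, hx, DB j g, hle, DB_le j g, (mem_DB j g y).2 hgy, rfl, e⟩

theorem Rep.res {W W' : P.Opens} (h : W' ≤ W) {s : Γ(C.G 0, W)} {y : ProjectiveSpectrum 𝒜}
    (hy : j (y : Proj 𝒜) ∈ W') {z : GrMod.LocMod 𝒜 (M := M) y} (hz : Rep R s y z) :
    Rep R (Groth.Agent.FormalB.GlueHom.res _ h s) y z := by
  obtain ⟨d, g, hg, hgy, x, hx, V, hVW, hVr, hyV, rfl, e⟩ := hz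
  refine ⟨d, g, hg, hgy, x, hx, V ⊓ W', inf_le_right, inf_le_left.trans hVr, ⟨hyV, hy⟩, rfl, ?_⟩
  have e' := congrArg (Groth.Agent.FormalB.GlueHom.res _ (inf_le_left : V ⊓ W' ≤ V)) e
  rw [res_res, C.act_res, res_res] at e'
  rw [res_res]
  exact e'

theorem Rep.of_res {W W' : P.Opens} (h : W' ≤ W) {s : Γ(C.G 0, W)} {y : ProjectiveSpectrum 𝒜}
    {z : GrMod.LocMod 𝒜 (M := M) y} (hz : Rep R (Groth.Agent.FormalB.GlueHom.res _ h s) y z) :
    Rep R s y z := by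
  obtain ⟨d, g, hg, hgy, x, hx, V, hVW, hVr, hyV, rfl, e⟩ := hz
  refine ⟨d, g, hg, hgy, x, hx, V, hVW.trans h, hVr, hyV, rfl, ?_⟩
  rw [res_res] at e
  exact e

theorem Rep.add {W : P.Opens} {s s' : Γ(C.G 0, W)} {y : ProjectiveSpectrum 𝒜} {z z' : GrMod.LocMod 𝒜 (M := M) y}
    (hz : Rep R s y z) (hz' : Rep R s' y z') : Rep R (s + s') y (z + z') := by
  obtain ⟨d, g, hg, hgy, x, hx, V, hVW, hVr, hyV, rfl, e⟩ := hz
  obtain ⟨d', g', hg', hgy', x', hx', V', hVW', hVr', hyV', rfl, e'⟩ := hz'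
  have hd : g' • x ∈ ℳ (d' + d) := smul_mem_add 𝒜 hg' hx
  have hd' : g • x' ∈ ℳ (d' + d) := by rw [add_comm]; exact smul_mem_add 𝒜 hg hx'
  refine ⟨d' + d, g' * g, SetLike.mul_mem_graded hg' hg, mul_notMem hgy' hgy, g' • x + g • x', add_mem hd hd', V ⊓ V',
    inf_le_left.trans hVW, inf_le_left.trans hVr, ⟨hyV, hyV'⟩, ?_, ?_⟩
  · rw [LocalizedModule.mk_add_mk]
    have : (⟨g, hgy⟩ * ⟨g', hgy'⟩ : y.asHomogeneousIdeal.toIdeal.primeCompl) = ⟨g' * g, mul_notMem hgy' hgy⟩ :=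
      Subtype.ext (mul_comm _ _)
    rw [this]
    rfl
  · rw [map_add, res_add, R.smul hg' (n := d) (by push_cast; ring), R.smul hg (n := d') (by push_cast; ring),
      C.act_res, C.act_res, ← res_res _ hVr inf_le_left, ← res_res _ hVr' inf_le_right, e, e',
      C.act_res, C.act_res, res_res, res_res, res_add, map_add,
      C.act_mul hg' hg (SetLike.mul_mem_graded hg' hg) (m := 0) (by push_cast; ring) (zero_add _) (by push_cast; ring)]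
    congr 1
    rw [C.act_mul hg' hg (SetLike.mul_mem_graded hg' hg) (m := 0) (by push_cast; ring) (zero_add _) (by push_cast; ring)]
    exact C.act_comm _ _ _ _ _ _ _ _

theorem Rep.smul {W : P.Opens} (c : Γ(P, W)) {s : Γ(C.G 0, W)} {y : ProjectiveSpectrum 𝒜} (hy : j (y : Proj 𝒜) ∈ W)
    {z : GrMod.LocMod 𝒜 (M := M) y} (hz : Rep R s y z) :
    Rep R (c • s) y (oval (j.app W c : Γ(Proj 𝒜, j ⁻¹ᵁ W)) ⟨y, hy⟩ • z) := by
  obtain ⟨d, g, hg, hgy, x, hx, V, hVW, hVr, hyV, rfl, e⟩ := hz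
  obtain ⟨N, hN, i, a, b, ha, hb, hbN, hyN, hc⟩ := exists_ofrac (j.app W c : Γ(Proj 𝒜, j ⁻¹ᵁ W)) y hy
  have hby : b ∉ y.asHomogeneousIdeal := hbN y hyN
  have hle : j ''ᵁ N ≤ j.opensRange := j.image_le_opensRange N
  refine ⟨i + d, b * g, SetLike.mul_mem_graded hb hg, mul_notMem hby hgy, a • x, smul_mem_add 𝒜 ha hx, V ⊓ j ''ᵁ N,
    inf_le_left.trans hVW, inf_le_left.trans hVr, ⟨hyV, ⟨y, hyN, rfl⟩⟩, ?_, ?_⟩
  · have h1 : oval (j.app W c : Γ(Proj 𝒜, j ⁻¹ᵁ W)) ⟨y, hy⟩ = Localization.mk a ⟨b, hby⟩ :=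
      congrArg (fun c => oval c ⟨y, hyN⟩) hc
    rw [h1]
    exact LocalizedModule.mk_smul_mk a x ⟨b, hby⟩ ⟨g, hgy⟩
  · have h1 : V ⊓ j ''ᵁ N ≤ V := inf_le_left
    have h2 : ∀ y' : ↥(j ⁻¹ᵁ (V ⊓ j ''ᵁ N)),
        oval (j.app _ (P.presheaf.map (homOfLE (h1.trans hVW)).op c) : Γ(Proj 𝒜, j ⁻¹ᵁ (V ⊓ j ''ᵁ N))) y' *
        algebraMap A (GrTwist.Loc 𝒜 y'.1) b = algebraMap A (GrTwist.Loc 𝒜 y'.1) a := by
      intro y'
      have hy'N : y'.1 ∈ N := by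
        have : y'.1 ∈ j ⁻¹ᵁ (j ''ᵁ N) := y'.2.2
        rwa [j.preimage_image_eq] at this
      have h3 : oval (j.app _ (P.presheaf.map (homOfLE (h1.trans hVW)).op c) : Γ(Proj 𝒜, j ⁻¹ᵁ (V ⊓ j ''ᵁ N))) y' =
          oval (j.app W c : Γ(Proj 𝒜, j ⁻¹ᵁ W)) ⟨y'.1, j.preimage_mono (h1.trans hVW) y'.2⟩ := by
        have h4 : j.app _ (P.presheaf.map (homOfLE (h1.trans hVW)).op c) =
            (Proj 𝒜).presheaf.map (homOfLE (j.preimage_mono (h1.trans hVW))).op (j.app W c) := by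
          have := j.naturality (homOfLE (h1.trans hVW)).op
          exact congr($this c)
        rw [h4]
        rfl
      have h5 : oval (j.app W c : Γ(Proj 𝒜, j ⁻¹ᵁ W)) ⟨y'.1, j.preimage_mono (h1.trans hVW) y'.2⟩ =
          Localization.mk a ⟨b, hbN y'.1 hy'N⟩ := congrArg (fun c => oval c ⟨y'.1, hy'N⟩) hc
      rw [h3, h5, ← Localization.mk_one_eq_algebraMap, ← Localization.mk_one_eq_algebraMap, Localization.mk_mul,
        Localization.mk_eq_mk_iff, Localization.r_iff_exists]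
      refine ⟨1, ?_⟩
      simp only [OneMemClass.coe_one, one_mul, mul_one]
      ring
    rw [R.smul ha (n := d) (by push_cast; ring), C.act_res, ← res_res _ hVr h1, e, C.act_res, res_res, res_smul,
      C.act_frac ha hb _ _ _ h2,
      C.act_mul hb hg (SetLike.mul_mem_graded hb hg) (m := 0) (by push_cast; ring) (zero_add _) (by push_cast; ring),
      C.act_smul, C.act_smul]

/-- A homogeneous element with value zero is killed by a homogeneous element not vanishing at the point. -/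
theorem exists_smul_eq_zero {y : ProjectiveSpectrum 𝒜} {d : ℕ} {x : M} (hx : x ∈ ℳ d) {g : A}
    (hg : g ∉ y.asHomogeneousIdeal) (h : (LocalizedModule.mk x ⟨g, hg⟩ : GrMod.LocMod 𝒜 (M := M) y) = 0) :
    ∃ (e : ℕ) (a : A), a ∈ 𝒜 e ∧ a ∉ y.asHomogeneousIdeal ∧ a • x = 0 := by
  rw [← LocalizedModule.zero_mk (1 : y.asHomogeneousIdeal.toIdeal.primeCompl)] at h
  obtain ⟨w, hw⟩ := LocalizedModule.mk_eq.mp h
  have hw' : w.1 • x = 0 := by simpa [Submonoid.smul_def] using hw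
  obtain ⟨i, hi⟩ := exists_decompose_notMem 𝒜 y w.2
  exact ⟨i, _, SetLike.coe_mem _, hi, proj_smul_eq_zero 𝒜 hx hw' i⟩

theorem exists_sec {W : P.Opens} (s : Γ(C.G 0, W)) :
    ∃ t : Γ(GrMod.tilde 𝒜 ℳ 0, j ⁻¹ᵁ W), ∀ y : ↥(j ⁻¹ᵁ W), Rep R s y.1 (gval t y) := by
  have key : ∀ y : ↥(j ⁻¹ᵁ W), ∃ (D : (Proj 𝒜).Opens) (_ : D ≤ j ⁻¹ᵁ W) (_ : y.1 ∈ D) (t : Γ(GrMod.tilde 𝒜 ℳ 0, D)),
      ∀ y' : D, Rep R s y'.1 (gval t y') := by
    intro y
    obtain ⟨z, d, g, hg, hgy, x, hx, V, hVW, hVr, hyV, hz, e⟩ := Rep.exists R s y.1 y.2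
    have hD : NV (j ⁻¹ᵁ V ⊓ Proj.basicOpen 𝒜 g) g := fun y' hy' => hy'.2
    refine ⟨j ⁻¹ᵁ V ⊓ Proj.basicOpen 𝒜 g, inf_le_left.trans (j.preimage_mono hVW), ⟨hyV, hgy⟩,
      gfrac 0 _ hg hD (mem_zdeg_of_eq (by simp) hx), fun y' => ?_⟩
    exact ⟨d, g, hg, y'.2.2, x, hx, V, hVW, hVr, y'.2.1, rfl, e⟩
  choose D hD hyD t ht using key
  obtain ⟨t', ht'⟩ := exists_glue (GrMod.tilde 𝒜 ℳ 0) (j ⁻¹ᵁ W) D hD (fun y hy => ⟨⟨y, hy⟩, hyD ⟨y, hy⟩⟩) t
    (fun a b => gval_ext fun y => Rep.unique R (ht a ⟨y.1, y.2.1⟩) (ht b ⟨y.1, y.2.2⟩))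
  refine ⟨t', fun y => ?_⟩
  have h1 : gval t' y = gval (t y) ⟨y.1, hyD y⟩ := by
    rw [← ht' y]
    rfl
  rw [h1]
  exact ht y ⟨y.1, hyD y⟩

/-- The section of `M~` attached to a section of `C.G 0`. -/
def lamSec {W : P.Opens} (s : Γ(C.G 0, W)) : Γ(GrMod.tilde 𝒜 ℳ 0, j ⁻¹ᵁ W) := (exists_sec R s).choose

theorem rep_lamSec {W : P.Opens} (s : Γ(C.G 0, W)) (y : ↥(j ⁻¹ᵁ W)) : Rep R s y.1 (gval (lamSec R s) y) :=
  (exists_sec R s).choose_spec y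

theorem lamSec_eq {W : P.Opens} {s : Γ(C.G 0, W)} {t : Γ(GrMod.tilde 𝒜 ℳ 0, j ⁻¹ᵁ W)}
    (h : ∀ y : ↥(j ⁻¹ᵁ W), Rep R s y.1 (gval t y)) : lamSec R s = t :=
  gval_ext fun y => Rep.unique R (rep_lamSec R s y) (h y)

theorem lamSec_add {W : P.Opens} (s s' : Γ(C.G 0, W)) : lamSec R (s + s') = lamSec R s + lamSec R s' :=
  lamSec_eq R fun y => by
    rw [gval_add]
    exact (rep_lamSec R s y).add R (rep_lamSec R s' y)

theorem lamSec_smul {W : P.Opens} (c : Γ(P, W)) (s : Γ(C.G 0, W)) :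
    lamSec R (c • s) = (j.app W c : Γ(Proj 𝒜, j ⁻¹ᵁ W)) • lamSec R s :=
  lamSec_eq R fun y => by
    rw [gval_smul]
    exact (rep_lamSec R s y).smul R c y.2

theorem lamSec_res {W V : P.Opens} (h : V ≤ W) (s : Γ(C.G 0, W)) :
    lamSec R (res _ h s) = res _ (j.preimage_mono h) (lamSec R s) :=
  lamSec_eq R fun y => by
    rw [gval_res]
    exact (rep_lamSec R s ⟨y.1, j.preimage_mono h y.2⟩).res R h y.2

/-- The morphism `C.G 0 ⟶ j_* M~`. -/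
def lamC : C.G 0 ⟶ (Scheme.Modules.pushforward j).obj (GrMod.tilde 𝒜 ℳ 0) :=
  ⟨PresheafOfModules.homMk
    { app := fun W => AddCommGrpCat.ofHom (AddMonoidHom.mk' (fun s : Γ(C.G 0, W.unop) =>
        (show Γ((Scheme.Modules.pushforward j).obj (GrMod.tilde 𝒜 ℳ 0), W.unop) from lamSec R s)) (lamSec_add R))
      naturality := fun {W V} i => by
        ext s
        exact lamSec_res R i.unop.le s }
    fun W c s => lamSec_smul R c s⟩

theorem lamC_app {W : P.Opens} (s : Γ(C.G 0, W)) : (lamC R).app W s = lamSec R s := rfl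

theorem lamSec_injective {W : P.Opens} (hW : W ≤ j.opensRange) : Function.Injective (lamSec R (W := W)) := by
  have key : ∀ s : Γ(C.G 0, W), lamSec R s = 0 → s = 0 := by
    intro s hs
    refine eq_of_local (C.G 0) fun x hx => ?_
    obtain ⟨y, rfl⟩ := hW hx
    obtain ⟨d, g, hg, hgy, x, hxd, V, hVW, hVr, hyV, hz, e⟩ := rep_lamSec R s ⟨y, hx⟩
    rw [hs, gval_zero] at hz
    obtain ⟨i, a, ha, hay, h0⟩ := exists_smul_eq_zero hxd hgy hz.symm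
    have hle : V ⊓ DB j (a * g) ≤ V := inf_le_left
    refine ⟨V ⊓ DB j (a * g), hle.trans hVW, ⟨hyV, (mem_DB j _ y).2 (mul_notMem hay hgy)⟩, ?_⟩
    have hnv : NV (j ⁻¹ᵁ (V ⊓ DB j (a * g))) (a * g) := (nv_DB j (a * g)).mono (j.preimage_mono inf_le_right)
    have hag : a * g ∈ 𝒜 (i + d) := SetLike.mul_mem_graded ha hg
    apply (C.act_bij hag (m := 0) (k := ((i + d : ℕ) : ℤ)) (zero_add _) (hle.trans hVr) hnv).1
    rw [res_zero, map_zero, C.act_mul ha hg hag (m := 0) (l := (d : ℤ)) (zero_add _) (zero_add _) (by push_cast; ring)]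
    have e' := congrArg (res _ hle) e
    rw [res_res, C.act_res, res_res] at e'
    rw [← e', ← C.act_res _ _ le_rfl (hle.trans hVr), ← R.smul ha (n := d) (k := i + d) (by push_cast; ring), h0,
      map_zero, res_zero]
  intro s s' h
  rw [← sub_eq_zero]
  apply key
  have h1 : lamSec R (s - s') + lamSec R s' = lamSec R s := by rw [← lamSec_add, sub_add_cancel]
  rw [h] at h1
  exact add_eq_right.1 h1

theorem lamSec_surjective {W : P.Opens} (hW : W ≤ j.opensRange) : Function.Surjective (lamSec R (W := W)) := by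
  intro t
  have key : ∀ x : W, ∃ (V : P.Opens) (hV : V ≤ W) (_ : x.1 ∈ V) (s : Γ(C.G 0, V)),
      lamSec R s = res _ (j.preimage_mono hV) t := by
    rintro ⟨x, hx⟩
    obtain ⟨y, rfl⟩ := hW hx
    obtain ⟨V, hV, e, g, m, hg, hVg, hm, he, hyV, hVeq, ht⟩ := exists_gfrac t y hx
    have hle : DB j g ≤ W := by
      refine (j.image_mono (hVeq ▸ hV : Proj.basicOpen 𝒜 g ≤ j ⁻¹ᵁ W)).trans ?_
      exact j.image_preimage_le W
    have hme : m ∈ ℳ e := mem_of_mem_zdeg (by simp) hm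
    obtain ⟨s, hs⟩ := (C.act_bij hg (m := 0) (k := (e : ℤ)) (zero_add _) (DB_le j g) (nv_DB j g)).2
      (res _ (DB_le j g) (R.T e m))
    have hgy : g ∉ (y : ProjectiveSpectrum 𝒜).asHomogeneousIdeal := hVg y hyV
    refine ⟨DB j g, hle, (mem_DB j g y).2 hgy, s, lamSec_eq R fun y' => ?_⟩
    have hgy' : g ∉ (y'.1 : ProjectiveSpectrum 𝒜).asHomogeneousIdeal := nv_DB j g y'.1 y'.2
    have hy'V : y'.1 ∈ V := by rw [hVeq]; exact hgy'
    have h1 : gval (res _ (j.preimage_mono hle) t) y' = LocalizedModule.mk m ⟨g, hgy'⟩ := by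
      have h2 := congrArg (fun t => gval t ⟨y'.1, hy'V⟩) ht
      exact h2
    rw [h1]
    exact ⟨e, g, hg, hgy', m, hme, DB j g, le_rfl, DB_le j g, y'.2, rfl, by rw [res_self, hs]⟩
  choose V hV hxV s hs using key
  obtain ⟨s', hs'⟩ := exists_glue (C.G 0) W V hV (fun x hx => ⟨⟨x, hx⟩, hxV ⟨x, hx⟩⟩) s (fun a b => by
    apply lamSec_injective R ((inf_le_left.trans (hV a)).trans hW)
    rw [lamSec_res, lamSec_res, hs, hs, res_res, res_res])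
  refine ⟨s', ?_⟩
  refine eq_of_local _ fun y hy => ?_
  refine ⟨j ⁻¹ᵁ V ⟨j y, hy⟩, j.preimage_mono (hV ⟨j y, hy⟩), hxV ⟨j y, hy⟩, ?_⟩
  rw [← lamSec_res R (hV ⟨j y, hy⟩), hs', hs]

theorem lamC_bijective {W : P.Opens} (hW : W ≤ j.opensRange) : Function.Bijective ((lamC R).app W) :=
  ⟨lamSec_injective R hW, lamSec_surjective R hW⟩

end K39.ChartLam
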