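import Groth.Agent.EGA2.K39.PB

/-!
# Extension of sections after multiplication by a power of a homogeneous element

`G : ActSys 𝒮 p chart` with quasi-coherent modules `G n`, `g ∈ 𝒮(U)_d`:
* `kill`: a section of `G n` over `W` which vanishes where `g` does not vanish is killed by a power of `g`;
* `extend`: for a section `x` of `G n` over `D_+(g)` some `g ^ k x` extends to `p⁻¹(U)`.
-/

set_option autoImplicit false
set_option linter.unusedSectionVars false
universe u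

open CategoryTheory AlgebraicGeometry TopologicalSpace Opposite
open scoped HomogeneousIdeal

noncomputable section

namespace K39.Ext

open K39.GrFrac K39.GrQCoh K39.Sys K39.PBasic RelProj
open Groth.Agent.Ega1.QCohLoc

variable {S P : Scheme.{u}} {𝒮 : RelProj.QCGrAlg S} {p : P ⟶ S}
  {chart : ∀ (U : S.Opens) (hU : IsAffineOpen U), (((p ⁻¹ᵁ U : P.Opens) : Scheme.{u}) ≅ Proj (𝒮.deg U hU))}
  (G : ActSys 𝒮 p chart) {U : S.Opens} {hU : IsAffineOpen U}

/-- `c = a / b` on `W`. -/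
def IsFrac (p : P ⟶ S)
    (chart : ∀ (U : S.Opens) (hU : IsAffineOpen U), (((p ⁻¹ᵁ U : P.Opens) : Scheme.{u}) ≅ Proj (𝒮.deg U hU)))
    (U : S.Opens) (hU : IsAffineOpen U) {W : P.Opens} (c : Γ(P, W)) (a b : 𝒮.presheaf.obj (op U)) : Prop :=
  ∀ y : ↥(emb p chart U hU ⁻¹ᵁ W), oval ((emb p chart U hU).app W c : Γ(Proj (𝒮.deg U hU), emb p chart U hU ⁻¹ᵁ W)) y *
      algebraMap _ (GrTwist.Loc (𝒮.deg U hU) y.1) b = algebraMap _ (GrTwist.Loc (𝒮.deg U hU) y.1) a

theorem IsFrac.pow {W : P.Opens} {c : Γ(P, W)} {a b : 𝒮.presheaf.obj (op U)} (h : IsFrac p chart U hU c a b) (k : ℕ) :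
    IsFrac p chart U hU (c ^ k) (a ^ k) (b ^ k) := by
  intro y
  rw [map_pow, oval_pow, map_pow, map_pow, ← mul_pow, h y]

theorem IsFrac.res {W V : P.Opens} {c : Γ(P, W)} {a b : 𝒮.presheaf.obj (op U)} (h : IsFrac p chart U hU c a b)
    (hV : V ≤ W) : IsFrac p chart U hU (resO hV c) a b := by
  intro y
  have h1 := oval_app_res (𝒜 := 𝒮.deg U hU) (emb p chart U hU) hV c y
  have h2 := h ⟨y.1, (emb p chart U hU).preimage_mono hV y.2⟩
  rw [← h1] at h2
  exact h2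

theorem exists_isFrac {d : ℕ} {a b : 𝒮.presheaf.obj (op U)} (ha : a ∈ 𝒮.deg U hU d) (hb : b ∈ 𝒮.deg U hU d)
    {W : P.Opens} (hW : W ≤ PB p chart U hU b) : ∃ c : Γ(P, W), IsFrac p chart U hU c a b := exists_pfrac ha hb hW

theorem IsFrac.basicOpen {a b : 𝒮.presheaf.obj (op U)} {W : P.Opens} (hW : W ≤ PB p chart U hU b) {c : Γ(P, W)}
    (hc : IsFrac p chart U hU c a b) : P.basicOpen c = W ⊓ PB p chart U hU a := basicOpen_pfrac hW hc

theorem pow_mem1 {f : 𝒮.presheaf.obj (op U)} (hf : f ∈ 𝒮.deg U hU 1) (d : ℕ) : f ^ d ∈ 𝒮.deg U hU d := by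
  simpa using pow_mem' hf d

theorem act_frac' {d : ℕ} {a b : 𝒮.presheaf.obj (op U)} (ha : a ∈ 𝒮.deg U hU d)
    (hb : b ∈ 𝒮.deg U hU d) {m k : ℤ} (h : m + d = k) {W : P.Opens} (hW : W ≤ p ⁻¹ᵁ U) {c : Γ(P, W)}
    (hc : IsFrac p chart U hU c a b) (x : Γ(G.G m, W)) : G.act U hU ha h hW x = c • G.act U hU hb h hW x :=
  G.act_frac U hU ha hb h hW c hc x

theorem res_act {d : ℕ} {a : 𝒮.presheaf.obj (op U)} (ha : a ∈ 𝒮.deg U hU d) {m k : ℤ}
    (h : m + d = k) {W V : P.Opens} (hW : W ≤ p ⁻¹ᵁ U) (hV : V ≤ W) (x : Γ(G.G m, W)) :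
    res (G.G k) hV (G.act U hU ha h hW x) = G.act U hU ha h (hV.trans hW) (res (G.G m) hV x) :=
  G.act_res U hU ha h hW hV x

/-- A section vanishing where `g` does not vanish is killed by a power of `g`. -/
theorem kill {n : ℤ} (hG : Coh.IsQCoh (G.G n)) {W : P.Opens} (hW : W ≤ p ⁻¹ᵁ U) {I : Type} [Finite I]
    (f : I → 𝒮.presheaf.obj (op U)) (hf : ∀ i, f i ∈ 𝒮.deg U hU 1) (hcov : W ≤ ⨆ i, PB p chart U hU (f i))
    (haff : ∀ i, IsAffineOpen (W ⊓ PB p chart U hU (f i))) {d : ℕ} {g : 𝒮.presheaf.obj (op U)}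
    (hg : g ∈ 𝒮.deg U hU d) (x : Γ(G.G n, W))
    (hx : res (G.G n) (inf_le_left : W ⊓ PB p chart U hU g ≤ W) x = 0) :
    ∃ k : ℕ, ∀ l, k ≤ l → ∀ {m : ℤ} (h : n + ((l * d : ℕ) : ℤ) = m), G.act U hU (pow_mem' hg l) h hW x = 0 := by
  classical
  have : Fintype I := Fintype.ofFinite I
  have hb : ∀ i, W ⊓ PB p chart U hU (f i) ≤ PB p chart U hU (f i ^ d) := fun i =>
    inf_le_right.trans (PB_le_pow _ _)
  choose c hc using fun i => exists_isFrac hg (pow_mem1 (hf i) d) (hb i)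
  have hbo : ∀ i, P.basicOpen (c i) = W ⊓ PB p chart U hU (f i) ⊓ PB p chart U hU g := fun i => (hc i).basicOpen (hb i)
  have hk : ∀ i, ∃ k, c i ^ k • res (G.G n) (inf_le_left : W ⊓ PB p chart U hU (f i) ≤ W) x = 0 := by
    intro i
    refine (isLocAt_of_isQCoh hG (haff i) (c i)).inj' (hbo i).symm inf_le_left _ ?_
    have h1 : W ⊓ PB p chart U hU (f i) ⊓ PB p chart U hU g ≤ W ⊓ PB p chart U hU g :=
      le_inf (inf_le_left.trans inf_le_left) inf_le_right
    rw [res_res, ← res_res (G.G n) inf_le_left h1, hx, map_zero]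
  choose k hk using hk
  refine ⟨∑ i, k i, fun l hl m h => ?_⟩
  have hkl : ∀ i, k i ≤ l := fun i =>
    (Finset.single_le_sum (f := k) (fun _ _ => Nat.zero_le _) (Finset.mem_univ i)).trans hl
  refine eq_of_locally_eq (G.G m) (fun i => W ⊓ PB p chart U hU (f i)) W (fun i => inf_le_left) ?_ _ _ fun i => ?_
  · rw [← inf_iSup_eq]
    exact le_inf le_rfl hcov
  · rw [map_zero, res_act, act_frac' G (pow_mem' hg l) (pow_mem' (pow_mem1 (hf i) d) l) h _ ((hc i).pow l),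
      ← G.act_smul, pow_smul_eq_zero_of_le (M := G.G n) (hkl i) (hk i), map_zero]

theorem kill_of_le {n : ℤ} (hG : Coh.IsQCoh (G.G n)) {f : 𝒮.presheaf.obj (op U)} (hf : f ∈ 𝒮.deg U hU 1) {W : P.Opens}
    (hW : W ≤ PB p chart U hU f) (haff : IsAffineOpen W) {d : ℕ} {g : 𝒮.presheaf.obj (op U)}
    (hg : g ∈ 𝒮.deg U hU d) (x : Γ(G.G n, W))
    (hx : res (G.G n) (inf_le_left : W ⊓ PB p chart U hU g ≤ W) x = 0) :
    ∃ k : ℕ, ∀ l, k ≤ l → ∀ {m : ℤ} (h : n + ((l * d : ℕ) : ℤ) = m),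
      G.act U hU (pow_mem' hg l) h (hW.trans (PB_le f)) x = 0 := by
  refine kill G hG _ (fun _ : Unit => f) (fun _ => hf) (by rw [ciSup_const]; exact hW) (fun _ => ?_) hg x hx
  rwa [inf_eq_left.2 hW]

/-- For a section `x` over `D_+(g)` some `g ^ k x` extends. -/
theorem extend (hG : ∀ n, Coh.IsQCoh (G.G n)) {n : ℤ} {I : Type} [Finite I]
    (f : I → 𝒮.presheaf.obj (op U)) (hf : ∀ i, f i ∈ 𝒮.deg U hU 1) (hcov : p ⁻¹ᵁ U ≤ ⨆ i, PB p chart U hU (f i))
    {d : ℕ} {g : 𝒮.presheaf.obj (op U)} (hg : g ∈ 𝒮.deg U hU d) (x : Γ(G.G n, PB p chart U hU g)) :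
    ∃ k : ℕ, ∀ {m : ℤ} (h : n + ((k * d : ℕ) : ℤ) = m), ∃ w : Γ(G.G m, p ⁻¹ᵁ U),
      res (G.G m) (PB_le g) w = G.act U hU (pow_mem' hg k) h (PB_le g) x := by
  classical
  have : Fintype I := Fintype.ofFinite I
  have hb : ∀ i, PB p chart U hU (f i) ≤ PB p chart U hU (f i ^ d) := fun i => PB_le_pow _ _
  choose c hc using fun i => exists_isFrac hg (pow_mem1 (hf i) d) (hb i)
  have hbo : ∀ i, P.basicOpen (c i) = PB p chart U hU (f i) ⊓ PB p chart U hU g := fun i => (hc i).basicOpen (hb i)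
  have haff : ∀ i, IsAffineOpen (PB p chart U hU (f i)) := fun i => isAffineOpen_PB (hf i) Nat.one_pos
  choose k w hw using fun i => (isLocAt_of_isQCoh (hG n) (haff i) (c i)).surj' (hbo i).symm inf_le_left
    (res (G.G n) (inf_le_right : PB p chart U hU (f i) ⊓ PB p chart U hU g ≤ _) x)
  let K := ∑ i, k i
  have hkK : ∀ i, k i ≤ K := fun i => Finset.single_le_sum (f := k) (fun _ _ => Nat.zero_le _) (Finset.mem_univ i)
  have hw' : ∀ i, res (G.G n) (inf_le_left : PB p chart U hU (f i) ⊓ PB p chart U hU g ≤ _) (c i ^ (K - k i) • w i) =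
      resO (inf_le_left : PB p chart U hU (f i) ⊓ PB p chart U hU g ≤ _) (c i) ^ K • res (G.G n) (inf_le_right : PB p chart U hU (f i) ⊓ PB p chart U hU g ≤ _) x := by
    intro i
    rw [res_smul, hw, map_pow, ← mul_smul, ← pow_add, Nat.sub_add_cancel (hkK i)]
  -- the sections over the `D_+(f i)`
  have h1 : n + ((K * d : ℕ) : ℤ) = n + ((K * d : ℕ) : ℤ) := rfl
  let z : ∀ i, Γ(G.G (n + ((K * d : ℕ) : ℤ)), PB p chart U hU (f i)) := fun i =>
    G.act U hU (pow_mem' (pow_mem1 (hf i) d) K) h1 (PB_le _) (c i ^ (K - k i) • w i)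
  have hz : ∀ i, res _ (inf_le_left : PB p chart U hU (f i) ⊓ PB p chart U hU g ≤ _) (z i) =
      G.act U hU (pow_mem' hg K) h1 (inf_le_left.trans (PB_le _))
        (res (G.G n) (inf_le_right : PB p chart U hU (f i) ⊓ PB p chart U hU g ≤ _) x) := by
    intro i
    change res _ _ (G.act U hU (pow_mem' (pow_mem1 (hf i) d) K) h1 (PB_le _) (c i ^ (K - k i) • w i)) = _
    rw [res_act, hw', G.act_smul, act_frac' G (pow_mem' hg K) (pow_mem' (pow_mem1 (hf i) d) K) h1 _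
      (((hc i).res inf_le_left).pow K)]
  clear_value z
  -- the differences
  have hV : ∀ i j, IsAffineOpen (PB p chart U hU (f i) ⊓ PB p chart U hU (f j)) := fun i j => by
    rw [← PB_mul]
    exact isAffineOpen_PB (SetLike.mul_mem_graded (hf i) (hf j)) (by omega)
  have hl : ∀ i j, ∃ l : ℕ, ∀ l', l ≤ l' → ∀ {m : ℤ} (h : n + ((K * d : ℕ) : ℤ) + ((l' * d : ℕ) : ℤ) = m),
      G.act U hU (pow_mem' hg l') h ((inf_le_left : PB p chart U hU (f i) ⊓ PB p chart U hU (f j) ≤ _).trans (PB_le _))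
        (res _ inf_le_left (z i) - res _ inf_le_right (z j)) = 0 := by
    intro i j
    refine kill_of_le G (hG _) (hf i) inf_le_left (hV i j) hg _ ?_
    have e1 : PB p chart U hU (f i) ⊓ PB p chart U hU (f j) ⊓ PB p chart U hU g ≤
        PB p chart U hU (f i) ⊓ PB p chart U hU g := le_inf (inf_le_left.trans inf_le_left) inf_le_right
    have e2 : PB p chart U hU (f i) ⊓ PB p chart U hU (f j) ⊓ PB p chart U hU g ≤
        PB p chart U hU (f j) ⊓ PB p chart U hU g := le_inf (inf_le_left.trans inf_le_right) inf_le_right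
    rw [map_sub, res_res, res_res, ← res_res _ (inf_le_left : PB p chart U hU (f i) ⊓ PB p chart U hU g ≤ _) e1,
      ← res_res _ (inf_le_left : PB p chart U hU (f j) ⊓ PB p chart U hU g ≤ _) e2, hz, hz, res_act, res_act,
      res_res, res_res, sub_self]
  choose l hl using hl
  let L := ∑ i, ∑ j, l i j
  have hL : ∀ i j, l i j ≤ L := fun i j =>
    (Finset.single_le_sum (f := fun j => l i j) (fun _ _ => Nat.zero_le _) (Finset.mem_univ j)).trans
      (Finset.single_le_sum (f := fun i => ∑ j, l i j) (fun _ _ => Nat.zero_le _) (Finset.mem_univ i))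
  refine ⟨L + K, fun {m} h => ?_⟩
  have h2 : n + ((K * d : ℕ) : ℤ) + ((L * d : ℕ) : ℤ) = m := by
    rw [← h]
    push_cast
    ring
  obtain ⟨t, ht⟩ := exists_gluing (G.G m) (fun i => PB p chart U hU (f i)) (p ⁻¹ᵁ U) (fun i => PB_le _) hcov
    (fun i => G.act U hU (pow_mem' hg L) h2 (PB_le _) (z i)) (fun i j => by
      rw [res_act, res_act, ← sub_eq_zero, ← map_sub]
      exact hl i j L (hL i j) h2)
  refine ⟨t, ?_⟩
  refine eq_of_locally_eq (G.G m) (fun i => PB p chart U hU (f i) ⊓ PB p chart U hU g) _ (fun i => inf_le_right) ?_ _ _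
    fun i => ?_
  · rw [← iSup_inf_eq]
    exact le_inf ((PB_le g).trans hcov) le_rfl
  · rw [res_res, ← res_res _ (PB_le (f i)) (inf_le_left : PB p chart U hU (f i) ⊓ PB p chart U hU g ≤ _), ht, res_act,
      hz, res_act]
    refine (G.act_mul U hU (pow_mem' hg L) (pow_mem' hg K) (f := (L + K) * d) (by
      rw [← pow_add]
      exact pow_mem' hg (L + K)) h h1 h2 _ _).symm.trans ?_
    exact G.act_congr U hU (pow_add g L K).symm _ _ _ _ _ _

end K39.Ext
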