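import Groth.Agent.EGA2.K39.SpanLoc

/-!
# The graded module generated by a finitely generated submodule of the direct image of `G N`

`GenSub G N`: `E U ⊆ Γ(G N, p⁻¹(U))`, quasi-coherent, of finite type and generating `G N`.
* `genSys`: the subgroups `𝒮(U)_d · E U ⊆ Γ(G (N + d), p⁻¹(U))`;
* `hex`: every section of `G 0` over `D_+(g)` is of the form `x / g ^ k`; `finite_grMod`.
-/

set_option autoImplicit false
set_option linter.unusedSectionVars false
universe u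

open CategoryTheory AlgebraicGeometry TopologicalSpace Opposite
open scoped HomogeneousIdeal

noncomputable section

namespace K39.FinGam

open K39.GrFrac K39.GrQCoh K39.Sys K39.PBasic K39.Ext K39.GamMod K39.SpanLoc RelProj
open Groth.Agent.Ega1.QCohLoc
open K27.QCAlgBasic (Sec rho str rho_str rho_rho rho_self isUnit_str)

variable {S P : Scheme.{u}} {𝒮 : RelProj.QCGrAlg S} {p : P ⟶ S}
  {chart : ∀ (U : S.Opens) (hU : IsAffineOpen U), (((p ⁻¹ᵁ U : P.Opens) : Scheme.{u}) ≅ Proj (𝒮.deg U hU))}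
  (G : ActSys 𝒮 p chart) (N : ℕ)

/-- Quasi-coherent submodules of finite type of the direct image of `G N` which generate `G N`. -/
structure GenSub where
  E : ∀ (U : S.Opens) (_ : IsAffineOpen U), AddSubgroup Γ(G.G N, p ⁻¹ᵁ U)
  res_mem : ∀ {U V : S.Opens} (hU : IsAffineOpen U) (hV : IsAffineOpen V) (h : V ≤ U) {x : Γ(G.G N, p ⁻¹ᵁ U)},
    x ∈ E U hU → res (G.G N) (p.preimage_mono h) x ∈ E V hV
  surj : ∀ {U : S.Opens} (hU : IsAffineOpen U) (r : Γ(S, U)) {x : Γ(G.G N, p ⁻¹ᵁ (S.basicOpen r))},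
    x ∈ E (S.basicOpen r) (hU.basicOpen r) → ∃ (k : ℕ) (y : Γ(G.G N, p ⁻¹ᵁ U)), y ∈ E U hU ∧
      res (G.G N) (p.preimage_mono (S.basicOpen_le r)) y =
        resO (p.preimage_mono (S.basicOpen_le r)) (p.app U r) ^ k • x
  gen : ∀ (U : S.Opens) (hU : IsAffineOpen U), ∀ x ∈ p ⁻¹ᵁ U, ∃ (W : P.Opens) (hW : W ≤ p ⁻¹ᵁ U), x ∈ W ∧
    IsAffineOpen W ∧ Submodule.span Γ(P, W) (res (G.G N) hW '' (E U hU : Set Γ(G.G N, p ⁻¹ᵁ U))) = ⊤
  fin : ∀ (U : S.Opens) (hU : IsAffineOpen U), ∃ (I : Type) (_ : Fintype I) (t : I → Γ(G.G N, p ⁻¹ᵁ U)),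
    (∀ i, t i ∈ E U hU) ∧ ∀ e ∈ E U hU, ∃ c : I → Γ(S, U), e = ∑ i, (p.app U (c i) : Γ(P, p ⁻¹ᵁ U)) • t i

namespace GenSub

variable {G N} (E : GenSub G N)

/-- The products of elements of `𝒮(U)_d` and of `E U`. -/
def prods (U : S.Opens) (hU : IsAffineOpen U) (n : ℕ) : Set Γ(G.G n, p ⁻¹ᵁ U) :=
  {y | ∃ (d : ℕ) (h : (N : ℤ) + d = n) (a : 𝒮.presheaf.obj (op U)) (ha : a ∈ 𝒮.deg U hU d) (e : Γ(G.G N, p ⁻¹ᵁ U)),
    e ∈ E.E U hU ∧ G.act U hU ha h le_rfl e = y}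

/-- The subgroups generated by the products. -/
def K (U : S.Opens) (hU : IsAffineOpen U) (n : ℕ) : AddSubgroup Γ(G.G n, p ⁻¹ᵁ U) :=
  AddSubgroup.closure (E.prods U hU n)

theorem prod_mem {U : S.Opens} (hU : IsAffineOpen U) {n d : ℕ} (h : (N : ℤ) + d = n) {a : 𝒮.presheaf.obj (op U)}
    (ha : a ∈ 𝒮.deg U hU d) {e : Γ(G.G N, p ⁻¹ᵁ U)} (he : e ∈ E.E U hU) :
    G.act U hU ha h le_rfl e ∈ E.K U hU n :=
  AddSubgroup.subset_closure ⟨d, h, a, ha, e, he, rfl⟩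

theorem act_mem {U : S.Opens} (hU : IsAffineOpen U) {d : ℕ} {a : 𝒮.presheaf.obj (op U)} (ha : a ∈ 𝒮.deg U hU d)
    {n k : ℕ} (h : (n : ℤ) + d = k) {x : Γ(G.G n, p ⁻¹ᵁ U)} (hx : x ∈ E.K U hU n) :
    G.act U hU ha h le_rfl x ∈ E.K U hU k := by
  induction hx using AddSubgroup.closure_induction with
  | mem y hy =>
    obtain ⟨e, h', b, hb, z, hz, rfl⟩ := hy
    have h'' : (N : ℤ) + ((d + e : ℕ) : ℤ) = k := by push_cast; omega
    rw [← G.act_mul U hU ha hb (SetLike.mul_mem_graded ha hb) h'' h' h le_rfl z]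
    exact E.prod_mem hU h'' _ hz
  | zero => rw [map_zero]; exact zero_mem _
  | add y z _ _ hy hz => rw [map_add]; exact add_mem hy hz
  | neg y _ hy => rw [map_neg]; exact neg_mem hy

theorem res_memK {U V : S.Opens} (hU : IsAffineOpen U) (hV : IsAffineOpen V) (h : V ≤ U) {n : ℕ}
    {x : Γ(G.G n, p ⁻¹ᵁ U)} (hx : x ∈ E.K U hU n) : res (G.G n) (p.preimage_mono h) x ∈ E.K V hV n := by
  induction hx using AddSubgroup.closure_induction with
  | mem y hy =>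
    obtain ⟨d, h', b, hb, z, hz, rfl⟩ := hy
    rw [res_act, ← act_le G hU hV h hb h' le_rfl]
    exact E.prod_mem hV h' _ (E.res_mem hU hV h hz)
  | zero => rw [map_zero]; exact zero_mem _
  | add y z _ _ hy hz => rw [map_add]; exact add_mem hy hz
  | neg y _ hy => rw [map_neg]; exact neg_mem hy

variable (hP : IsRelProj 𝒮 p chart)

include hP in
theorem smul_memK {U : S.Opens} (hU : IsAffineOpen U) (r : Γ(S, U)) (l : ℕ) {n : ℕ}
    {x : Γ(G.G n, p ⁻¹ᵁ U)} (hx : x ∈ E.K U hU n) : (p.app U r : Γ(P, p ⁻¹ᵁ U)) ^ l • x ∈ E.K U hU n := by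
  have h : (n : ℤ) + (0 : ℕ) = n := by simp
  have h1 := act_str_pow G hP U hU r l (SubSys.str_pow_mem hU r l) h le_rfl x
  rw [resO_rfl] at h1
  rw [← h1]
  exact E.act_mem hU _ _ hx

include hP in
theorem surjK {U : S.Opens} (hU : IsAffineOpen U) (r : Γ(S, U)) {n : ℕ} {x : Γ(G.G n, p ⁻¹ᵁ (S.basicOpen r))}
    (hx : x ∈ E.K (S.basicOpen r) (hU.basicOpen r) n) : ∃ (k : ℕ) (y : Γ(G.G n, p ⁻¹ᵁ U)), y ∈ E.K U hU n ∧
      res (G.G n) (p.preimage_mono (S.basicOpen_le r)) y =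
        resO (p.preimage_mono (S.basicOpen_le r)) (p.app U r) ^ k • x := by
  induction hx using AddSubgroup.closure_induction with
  | mem x hx =>
    obtain ⟨d, h', a, ha, z, hz, rfl⟩ := hx
    obtain ⟨l, a', ha', e⟩ := exists_deg_lift hU r ha
    obtain ⟨k, y, hy, e'⟩ := E.surj hU r hz
    refine ⟨l + k, G.act U hU ha' h' le_rfl y, E.prod_mem hU h' ha' hy, ?_⟩
    have h0 : (n : ℤ) + (0 : ℕ) = n := by simp
    have hm : str 𝒮.toQCAlg (S.basicOpen r) (resO (S.basicOpen_le r) r) ^ l * a ∈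
        𝒮.deg (S.basicOpen r) (hU.basicOpen r) d := by
      rw [← e]
      exact rho_mem hU (hU.basicOpen r) (S.basicOpen_le r) ha'
    have e2 : p.app (S.basicOpen r) (resO (S.basicOpen_le r) r) =
        resO (p.preimage_mono (S.basicOpen_le r)) (p.app U r) :=
      congr($(p.naturality (homOfLE (S.basicOpen_le r)).op) r)
    rw [res_act, ← act_le G hU (hU.basicOpen r) (S.basicOpen_le r) ha' h' le_rfl, e', G.act_smul,
      G.act_congr _ _ e (rho_mem hU (hU.basicOpen r) (S.basicOpen_le r) ha') hm h' h',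
      G.act_mul _ _ (SubSys.str_pow_mem (hU.basicOpen r) (resO (S.basicOpen_le r) r) l) ha hm h' h' h0,
      act_str_pow G hP _ _ (resO (S.basicOpen_le r) r) l _ h0, resO_rfl, e2, ← mul_smul, ← pow_add, add_comm k l]
  | zero => exact ⟨0, 0, zero_mem _, by rw [map_zero, smul_zero]⟩
  | add x x' _ _ hx hx' =>
    obtain ⟨k, y, hy, e⟩ := hx
    obtain ⟨k', y', hy', e'⟩ := hx'
    refine ⟨k + k', (p.app U r : Γ(P, p ⁻¹ᵁ U)) ^ k' • y + (p.app U r : Γ(P, p ⁻¹ᵁ U)) ^ k • y',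
      add_mem (E.smul_memK hP hU r k' hy) (E.smul_memK hP hU r k hy'), ?_⟩
    rw [map_add, res_smul, res_smul, e, e', map_pow, map_pow, ← mul_smul, ← mul_smul, smul_add, ← pow_add,
      ← pow_add, add_comm k' k]
  | neg x _ hx =>
    obtain ⟨k, y, hy, e⟩ := hx
    exact ⟨k, -y, neg_mem hy, by rw [map_neg, e, smul_neg]⟩

/-- The system of the subgroups `𝒮(U)_d · E U`. -/
def genSys : SubSys G where
  K := E.K
  act_mem hU _ _ ha _ _ h _ hx := E.act_mem hU ha h hx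
  res_mem hU hV h _ _ hx := E.res_memK hU hV h hx
  surj hU r _ _ hx := E.surjK hP hU r hx

variable (hq : ∀ n, Coh.IsQCoh (G.G n)) (hc : HasCov p chart)

include hq hc in
/-- The sections `K U n`, `n ≥ N`, generate `G n` over `p⁻¹(U)`. -/
theorem genK {U : S.Opens} (hU : IsAffineOpen U) {n : ℕ} (hn : N ≤ n) {V : P.Opens} (hV : V ≤ p ⁻¹ᵁ U)
    (t : Γ(G.G n, V)) (x : P) (hx : x ∈ V) : ∃ (W : P.Opens) (hW : W ≤ V), x ∈ W ∧
      res (G.G n) hW t ∈ Submodule.span Γ(P, W) (res (G.G n) (hW.trans hV) '' (E.K U hU n : Set Γ(G.G n, p ⁻¹ᵁ U))) := by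
  obtain ⟨I, hI, f, hf, hcov⟩ := hc U hU
  obtain ⟨i, hi⟩ := Opens.mem_iSup.mp (hcov (hV hx))
  obtain ⟨W₀, hW₀, hxW₀, hW₀a, hspan⟩ := E.gen U hU x (hV hx)
  obtain ⟨φ, hφ, hxφ⟩ := hW₀a.exists_basicOpen_le (V := V ⊓ PB p chart U hU (f i)) ⟨x, hx, hi⟩ hxW₀
  have h1 : Submodule.span Γ(P, P.basicOpen φ) (res (G.G N) ((P.basicOpen_le φ).trans hW₀) ''
      (E.E U hU : Set Γ(G.G N, p ⁻¹ᵁ U))) = ⊤ := K34.GenOn.span_basicOpen (hq N) _ hW₀ hW₀a hspan φ
  have hWV : P.basicOpen φ ≤ V := hφ.trans inf_le_left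
  refine ⟨P.basicOpen φ, hWV, hxφ, ?_⟩
  have hh : (N : ℤ) + ((n - N : ℕ) : ℤ) = n := by omega
  have hfm : f i ^ (n - N) ∈ 𝒮.deg U hU (n - N) := pow_mem1 (hf i) _
  have hbij := G.act_bij U hU hfm hh (hWV.trans hV) (nv_of_le ((hφ.trans inf_le_right).trans (PB_le_pow _ _)))
  obtain ⟨z, hz⟩ := hbij.2 (res (G.G n) hWV t)
  rw [← hz]
  have hz' : z ∈ Submodule.span Γ(P, P.basicOpen φ) (res (G.G N) ((P.basicOpen_le φ).trans hW₀) ''
      (E.E U hU : Set Γ(G.G N, p ⁻¹ᵁ U))) := h1 ▸ Submodule.mem_top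
  clear hz
  induction hz' using Submodule.span_induction with
  | mem z hz =>
    obtain ⟨e, he, rfl⟩ := hz
    refine Submodule.subset_span ⟨G.act U hU hfm hh le_rfl e, E.prod_mem hU hh hfm he, ?_⟩
    rw [res_act]
  | zero => rw [map_zero]; exact zero_mem _
  | add z z' _ _ hz hz' => rw [map_add]; exact add_mem hz hz'
  | smul c z _ hz => rw [G.act_smul]; exact Submodule.smul_mem _ _ hz

include hq hc in
theorem hex {U : S.Opens} (hU : IsAffineOpen U) {d : ℕ} (hd : 0 < d) {g : 𝒮.presheaf.obj (op U)}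
    (hg : g ∈ 𝒮.deg U hU d) (s : Γ(G.G 0, PB p chart U hU g)) : ∃ (k : ℕ) (x : Γ(G.G ((k * d : ℕ) : ℤ), p ⁻¹ᵁ U)),
    x ∈ E.K U hU (k * d) ∧ res _ (PB_le g) x = G.act U hU (pow_mem' hg k) (zero_add _) (PB_le g) s := by
  have hNd : N ≤ N * d := Nat.le_mul_of_pos_right N hd
  have hspan := span_eq_top (hq ((N * d : ℕ) : ℤ)) (E.K U hU (N * d) : Set Γ(G.G ((N * d : ℕ) : ℤ), p ⁻¹ᵁ U))
    (PB_le (chart := chart) g) (isAffineOpen_PB hg hd) (fun t x hx => E.genK hq hc hU hNd (PB_le g) t x hx)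
  have key : ∀ t ∈ Submodule.span Γ(P, PB p chart U hU g) (res (G.G ((N * d : ℕ) : ℤ)) (PB_le (chart := chart) (hU := hU) g) ''
      (E.K U hU (N * d) : Set Γ(G.G ((N * d : ℕ) : ℤ), p ⁻¹ᵁ U))),
      ∃ k₀ : ℕ, ∀ k, k₀ ≤ k → ∀ {m : ℕ} (h : ((N * d : ℕ) : ℤ) + ((k * d : ℕ) : ℤ) = m),
        ∃ x : Γ(G.G m, p ⁻¹ᵁ U), x ∈ E.K U hU m ∧
          res _ (PB_le g) x = G.act U hU (pow_mem' hg k) h (PB_le g) t := by
    intro t ht
    induction ht using Submodule.span_induction with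
    | mem t ht =>
      obtain ⟨e, he, rfl⟩ := ht
      refine ⟨0, fun k _ m h => ⟨G.act U hU (pow_mem' hg k) h le_rfl e, E.act_mem hU _ h he, ?_⟩⟩
      rw [res_act]
    | zero => exact ⟨0, fun k _ m h => ⟨0, zero_mem _, by rw [map_zero, map_zero]⟩⟩
    | add t t' _ _ ht ht' =>
      obtain ⟨k, hk⟩ := ht
      obtain ⟨k', hk'⟩ := ht'
      refine ⟨max k k', fun l hl m h => ?_⟩
      obtain ⟨x, hx, e⟩ := hk l (le_trans (le_max_left _ _) hl) h
      obtain ⟨x', hx', e'⟩ := hk' l (le_trans (le_max_right _ _) hl) h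
      exact ⟨x + x', add_mem hx hx', by rw [map_add, map_add, e, e']⟩
    | smul c t _ ht =>
      obtain ⟨k₀, hk₀⟩ := ht
      obtain ⟨j, a, ha, hc⟩ := exists_isFrac_PB hg hd c
      refine ⟨k₀ + j, fun k hk m h => ?_⟩
      obtain ⟨l, rfl⟩ := Nat.exists_eq_add_of_le hk
      have h1 : ((N * d : ℕ) : ℤ) + (((k₀ + l) * d : ℕ) : ℤ) = ((N * d + (k₀ + l) * d : ℕ) : ℤ) := by push_cast; ring
      obtain ⟨x, hx, e⟩ := hk₀ (k₀ + l) (Nat.le_add_right _ _) h1
      have h2 : ((N * d + (k₀ + l) * d : ℕ) : ℤ) + ((j * d : ℕ) : ℤ) = m := by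
        rw [← h]
        push_cast
        ring
      refine ⟨G.act U hU ha h2 le_rfl x, E.act_mem hU ha h2 hx, ?_⟩
      have hp : g ^ j * g ^ (k₀ + l) ∈ 𝒮.deg U hU ((k₀ + j + l) * d) := by
        have := pow_mem' hg (k₀ + j + l)
        rwa [show k₀ + j + l = j + (k₀ + l) by ring, pow_add, show j + (k₀ + l) = k₀ + j + l by ring] at this
      rw [res_act, e, act_frac' G ha (pow_mem' hg j) h2 _ hc, G.act_smul,
        G.act_congr U hU (show g ^ (k₀ + j + l) = g ^ j * g ^ (k₀ + l) by rw [← pow_add]; congr 1; ring)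
          (pow_mem' hg (k₀ + j + l)) hp h h, G.act_mul U hU (pow_mem' hg j) (pow_mem' hg (k₀ + l)) hp h h1 h2]
  obtain ⟨k₀, hk₀⟩ := key (G.act U hU (pow_mem' hg N) (zero_add _) (PB_le g) s) (hspan ▸ Submodule.mem_top)
  have h1 : ((N * d : ℕ) : ℤ) + ((k₀ * d : ℕ) : ℤ) = (((k₀ + N) * d : ℕ) : ℤ) := by push_cast; ring
  obtain ⟨x, hx, e⟩ := hk₀ k₀ le_rfl h1
  refine ⟨k₀ + N, x, hx, e.trans ?_⟩
  have hp : g ^ k₀ * g ^ N ∈ 𝒮.deg U hU ((k₀ + N) * d) := by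
    rw [← pow_add]
    exact pow_mem' hg _
  rw [← G.act_mul U hU (pow_mem' hg k₀) (pow_mem' hg N) hp (zero_add _) (zero_add _) h1]
  exact G.act_congr U hU (pow_add g k₀ N).symm _ _ _ _ _ _

/-- The graded module. -/
abbrev grMod : GrModule 𝒮 := (E.genSys hP).grMod hP hq hc

/-- The graded module is finitely generated. -/
theorem finite_grMod (U : S.Opens) (hU : IsAffineOpen U) :
    Module.Finite (𝒮.presheaf.obj (op U)) ((E.grMod hP hq hc).mod.val.obj (op U)) := by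
  classical
  obtain ⟨I, hI, t, ht, hgen⟩ := E.fin U hU
  have h1 : (1 : 𝒮.presheaf.obj (op U)) ∈ 𝒮.deg U hU 0 := SetLike.GradedOne.one_mem
  have h0 : (N : ℤ) + (0 : ℕ) = N := by simp
  have htK : ∀ i, t i ∈ (E.genSys hP).K U hU N := fun i => by
    have := E.prod_mem hU h0 h1 (ht i)
    rwa [G.act_one] at this
  choose x hx hxt using fun i => (E.genSys hP).exists_cmp hP hq hc U hU N (htK i)
  obtain ⟨Q, hQ⟩ : ∃ Q : Submodule (𝒮.presheaf.obj (op U)) ((E.grMod hP hq hc).mod.val.obj (op U)),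
      Q = Submodule.span _ (Set.range x) := ⟨_, rfl⟩
  have hxQ : ∀ i, x i ∈ Q := fun i => hQ ▸ Submodule.subset_span ⟨i, rfl⟩
  -- every element of `K U n` comes from `Q`
  have key : ∀ (n : ℕ) (y : Γ(G.G n, p ⁻¹ᵁ U)), y ∈ E.K U hU n → ∃ z : (E.grMod hP hq hc).mod.val.obj (op U),
      z ∈ Q ∧ z ∈ (E.grMod hP hq hc).deg U hU n ∧ (E.genSys hP).cmp hP hq hc U hU n z = y := by
    intro n y hy
    induction hy using AddSubgroup.closure_induction with
    | mem y hy =>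
      obtain ⟨d, h, a, ha, e, he, rfl⟩ := hy
      obtain ⟨c, hc'⟩ := hgen e he
      have hm : ∀ i, a * str 𝒮.toQCAlg U (c i) ∈ 𝒮.deg U hU d := fun i => by
        have := SetLike.mul_mem_graded ha (SubSys.str_pow_mem hU (c i) 1)
        rwa [add_zero, pow_one] at this
      refine ⟨∑ i, (a * str 𝒮.toQCAlg U (c i)) • x i, Submodule.sum_mem _ fun i _ => Q.smul_mem _ (hxQ i),
        sum_mem fun i _ => ?_, ?_⟩
      · have h2 : d + N = n := by omega
        exact h2 ▸ ((E.grMod hP hq hc).gradedSMul U hU).smul_mem (hm i) (hx i)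
      · rw [map_sum, hc', map_sum]
        refine Finset.sum_congr rfl fun i _ => ?_
        rw [(E.genSys hP).cmp_smul hP hq hc U hU (hm i) h, hxt]
        have h3 := act_str_pow G hP U hU (c i) 1 (SubSys.str_pow_mem hU (c i) 1) h0 le_rfl (t i)
        rw [resO_rfl, pow_one (p.app U (c i))] at h3
        rw [← h3]
        have hm' : a * str 𝒮.toQCAlg U (c i) ^ 1 ∈ 𝒮.deg U hU d := by rw [pow_one]; exact hm i
        rw [← G.act_mul U hU ha (SubSys.str_pow_mem hU (c i) 1) hm' h h0 h]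
        exact G.act_congr U hU (by rw [pow_one]) _ _ _ _ _ _
    | zero => exact ⟨0, Q.zero_mem, zero_mem _, map_zero _⟩
    | add y y' _ _ hy hy' =>
      obtain ⟨z, hz, hz', e⟩ := hy
      obtain ⟨w, hw, hw', e'⟩ := hy'
      exact ⟨z + w, Q.add_mem hz hw, add_mem hz' hw', by rw [map_add, e, e']⟩
    | neg y _ hy =>
      obtain ⟨z, hz, hz', e⟩ := hy
      exact ⟨-z, Q.neg_mem hz, neg_mem hz', by rw [map_neg, e]⟩
  have htop : ∀ z : (E.grMod hP hq hc).mod.val.obj (op U), z ∈ Q := by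
    intro z
    induction z using DirectSum.Decomposition.inductionOn ((E.grMod hP hq hc).deg U hU) with
    | zero => exact Q.zero_mem
    | add z z' hz hz' => exact Q.add_mem hz hz'
    | @homogeneous n z =>
      obtain ⟨w, hw, hw', e⟩ := key n _ ((E.genSys hP).cmp_mem hP hq hc U hU n z.1)
      have h2 : w = z.1 := (E.genSys hP).cmp_ext hP hq hc U hU fun m => by
        by_cases hm : n = m
        · subst hm
          exact e
        · rw [(E.genSys hP).cmp_of_mem_ne hP hq hc U hU hm hw', (E.genSys hP).cmp_of_mem_ne hP hq hc U hU hm z.2]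
      rw [← h2]
      exact hw
  refine ⟨?_⟩
  have h2 : (⊤ : Submodule (𝒮.presheaf.obj (op U)) ((E.grMod hP hq hc).mod.val.obj (op U))) =
      Submodule.span _ (Set.range x) := by
    rw [← hQ, eq_comm, eq_top_iff]
    exact fun z _ => htop z
  rw [h2]
  exact Submodule.fg_span (Set.finite_range x)

theorem exists_isRelTilde : ∃ lam : ∀ (U : S.Opens) (hU : IsAffineOpen U),
    G.G 0 ⟶ (Scheme.Modules.pushforward (RelProj.emb p chart U hU)).obj
      (GrMod.tilde (𝒮.deg U hU) ((E.grMod hP hq hc).deg U hU) 0),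
      RelProj.IsRelTilde 𝒮 p chart (E.grMod hP hq hc) 0 (G.G 0) lam :=
  (E.genSys hP).exists_isRelTilde hP hq hc (fun _ hU _ hd _ hg s => E.hex hq hc hU hd hg s)

end GenSub

end K39.FinGam
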