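import Groth.Agent.EGA2.K39.GamMod
import Groth.Agent.EGA2.K40.RelQuot
import Groth.Agent.EGA2.K31.RelPow
import Groth.Agent.ProjDual.K273.InvHom
import Groth.Agent.CurvSt.K903.HomIso
import Groth.Agent.CohqB.HomPost

/-!
# The system `F(n)` on a relative Proj generated in degree one, and the graded module of all its sections

* `hasCov`; `exists_twData`: all the `O_P(n)` with their charts;
* `nonempty_homIso`: `ℋom(O_P(-n), F) ≅ F ⊗ O_P(n)`; `isQCoh_hom`; `nonempty_iso_zero`;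
* `topSys`: all sections; `exists_isRelTilde_of_isQCoh`: `F` is the module attached to a graded module.
-/

set_option autoImplicit false
set_option linter.unusedSectionVars false
universe u

open CategoryTheory AlgebraicGeometry TopologicalSpace Opposite
open scoped HomogeneousIdeal

noncomputable section

namespace K39.Gam

open K39.GrFrac K39.GrQCoh K39.Sys K39.PBasic K39.Ext K39.GamMod RelProj
open Groth.Agent.Ega1.QCohLoc
open Groth.Agent.CohqB.HomSheaf (homSheaf)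
open K27.QCAlgBasic (str)

variable {S P : Scheme.{u}} {𝒮 : RelProj.QCGrAlg S} {p : P ⟶ S}
  {chart : ∀ (U : S.Opens) (hU : IsAffineOpen U), (((p ⁻¹ᵁ U : P.Opens) : Scheme.{u}) ≅ Proj (𝒮.deg U hU))}

theorem hasCov (hgen : 𝒮.IsGenDegOne) (hft : 𝒮.IsFTDeg 1) : HasCov p chart := by
  intro U hU
  obtain ⟨T, hT, h⟩ := hft U hU
  refine ⟨Fin T.card, inferInstance, fun i => (T.equivFin.symm i).1, fun i => hT (T.equivFin.symm i).2, ?_⟩
  intro x hx
  obtain ⟨y, rfl⟩ := exists_of_mem (chart := chart) hx hU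
  obtain ⟨f, hf⟩ := K40.RelQuot.exists_deg_one_notMem hgen U hU y
  obtain ⟨c, hc⟩ := h f.1 f.2
  obtain ⟨t, ht, hty⟩ : ∃ t ∈ T, t ∉ (y : ProjectiveSpectrum (𝒮.deg U hU)).asHomogeneousIdeal := by
    by_contra hcon
    push Not at hcon
    refine hf ?_
    rw [hc]
    exact Ideal.sum_mem _ fun t ht => Ideal.mul_mem_left _ _ (hcon t ht)
  refine Opens.mem_iSup.mpr ⟨T.equivFin ⟨t, ht⟩, ?_⟩
  change emb p chart U hU y ∈ PB p chart U hU (T.equivFin.symm (T.equivFin ⟨t, ht⟩)).1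
  rw [Equiv.symm_apply_apply]
  exact (mem_PB t y).2 hty

theorem exists_twData (hP : IsRelProj 𝒮 p chart) : Nonempty (TwData chart) := by
  choose L lam h using fun n : ℤ => K36.TildeEx.exists_isRelTwist (p := p) (chart := chart) hP n
  exact ⟨⟨L, lam, h⟩⟩

theorem isInvertible (hgen : 𝒮.IsGenDegOne) {n : ℤ} {L : P.Modules} {lam : ∀ (U : S.Opens) (hU : IsAffineOpen U),
      L ⟶ (Scheme.Modules.pushforward (emb p chart U hU)).obj (GrTwist.twist (𝒮.deg U hU) n)}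
    (hL : IsRelTwist 𝒮 p chart n L lam) : PicF.IsInvertible L := by
  rw [Groth.Agent.Fdesc.LocGen.isInvertible_iff]
  intro x
  obtain ⟨U, hU, f, W, hx, hWU, hW⟩ := K40.RelMul.exists_degOne (p := p) (chart := chart) hgen x
  obtain ⟨e, -, he⟩ := K40.RelMul.exists_powFrac hL U hU f n (by simp) W hWU hW
  exact ⟨W, e, hx, he⟩

/-- The system `ℋom(O_P(-n), F)`. -/
abbrev sys (T : TwData chart) (hP : IsRelProj 𝒮 p chart) (F : P.Modules) : ActSys 𝒮 p chart := (T.toSys hP).hom F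

theorem sys_G (T : TwData chart) (hP : IsRelProj 𝒮 p chart) (F : P.Modules) (n : ℤ) :
    (sys T hP F).G n = homSheaf (T.L (-n)) F := rfl

/-- `ℋom(O_P(-n), F) ≅ F ⊗ O_P(n)`. -/
theorem nonempty_homIso (T : TwData chart) (hP : IsRelProj 𝒮 p chart) (hgen : 𝒮.IsGenDegOne) (F : P.Modules) (n : ℤ)
    {L : P.Modules} {lam : ∀ (U : S.Opens) (hU : IsAffineOpen U),
      L ⟶ (Scheme.Modules.pushforward (emb p chart U hU)).obj (GrTwist.twist (𝒮.deg U hU) n)}
    (hL : IsRelTwist 𝒮 p chart n L lam) : Nonempty ((sys T hP F).G n ≅ CohB1.tensorMod F L) := by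
  obtain ⟨e⟩ := K40.RelMul.nonempty_iso_twist hP hgen (neg_add_cancel n) (T.isRel (-n)) hL
    (K40.RelZero.isRelTwist_zero hP)
  exact ⟨K273.InvHom.homIso e F⟩

theorem isQCoh_sys (T : TwData chart) (hP : IsRelProj 𝒮 p chart) (hgen : 𝒮.IsGenDegOne) {F : P.Modules}
    (hF : Coh.IsQCoh F) (n : ℤ) : Coh.IsQCoh ((sys T hP F).G n) := by
  obtain ⟨e⟩ := nonempty_homIso T hP hgen F n (T.isRel n)
  exact isQCoh_of_iso e.symm (Groth.Agent.Ega2.TensGen.isQCoh_tensor hF (isInvertible hgen (T.isRel n)))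

theorem nonempty_iso_zero (T : TwData chart) (hP : IsRelProj 𝒮 p chart) (hgen : 𝒮.IsGenDegOne) (F : P.Modules) :
    Nonempty (F ≅ (sys T hP F).G 0) := by
  obtain ⟨e⟩ := nonempty_homIso T hP hgen F 0 (K40.RelZero.isRelTwist_zero hP)
  exact ⟨(Groth.Agent.Ega2.Tens.runit F).symm ≪≫ e.symm⟩

/-- Transport along an isomorphism. -/
theorem isRelTilde_of_iso {ℳ : GrModule 𝒮} {n : ℤ} {F F' : P.Modules}
    {lam : ∀ (U : S.Opens) (hU : IsAffineOpen U),
      F' ⟶ (Scheme.Modules.pushforward (emb p chart U hU)).obj (GrMod.tilde (𝒮.deg U hU) (ℳ.deg U hU) n)}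
    (h : IsRelTilde 𝒮 p chart ℳ n F' lam) (e : F ≅ F') :
    IsRelTilde 𝒮 p chart ℳ n F (fun U hU => e.hom ≫ lam U hU) where
  bijective U hU W hW := by
    have h1 : Function.Bijective (e.hom.app W) := by
      refine Function.bijective_iff_has_inverse.2 ⟨e.inv.app W, fun x => ?_, fun x => ?_⟩
      · have := congrArg (fun φ => φ.app W x) e.hom_inv_id
        exact this
      · have := congrArg (fun φ => φ.app W x) e.inv_hom_id
        exact this
    exact (h.bijective U hU W hW).comp h1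
  compat U hU r W s y hy hy' := h.compat U hU r W (e.hom.app W s) y hy hy'

section top

variable (G : ActSys 𝒮 p chart) (hP : IsRelProj 𝒮 p chart) (hq : ∀ n, Coh.IsQCoh (G.G n)) (hc : HasCov p chart)

include hq hc in
theorem extend' {U : S.Opens} (hU : IsAffineOpen U) {n : ℤ} {d : ℕ} {g : 𝒮.presheaf.obj (op U)}
    (hg : g ∈ 𝒮.deg U hU d) (x : Γ(G.G n, PB p chart U hU g)) :
    ∃ k : ℕ, ∀ {m : ℤ} (h : n + ((k * d : ℕ) : ℤ) = m), ∃ w : Γ(G.G m, p ⁻¹ᵁ U),
      res (G.G m) (PB_le g) w = G.act U hU (pow_mem' hg k) h (PB_le g) x := by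
  obtain ⟨I, hI, f, hf, hcov⟩ := hc U hU
  exact extend G hq f hf hcov hg x

include hP hq hc in
theorem surj_str {U : S.Opens} (hU : IsAffineOpen U) (r : Γ(S, U)) {n : ℤ}
    (x : Γ(G.G n, p ⁻¹ᵁ (S.basicOpen r))) : ∃ (k : ℕ) (y : Γ(G.G n, p ⁻¹ᵁ U)),
      res (G.G n) (p.preimage_mono (S.basicOpen_le r)) y =
        resO (p.preimage_mono (S.basicOpen_le r)) (p.app U r) ^ k • x := by
  have hle : PB p chart U hU ((𝒮.str.app (op U)).hom r) ≤ p ⁻¹ᵁ (S.basicOpen r) := (PB_str hP r).le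
  have hge : p ⁻¹ᵁ (S.basicOpen r) ≤ PB p chart U hU ((𝒮.str.app (op U)).hom r) := (PB_str hP r).ge
  obtain ⟨k, hk⟩ := extend' G hq hc hU (𝒮.str_mem U hU r) (res (G.G n) hle x)
  obtain ⟨y, hy⟩ := hk (m := n) (by simp)
  refine ⟨k, y, ?_⟩
  have h2 : n + (0 : ℕ) = n := by simp
  have h3 := act_str_pow G hP U hU r k (SubSys.str_pow_mem hU r k) h2 (PB_le _) (res (G.G n) hle x)
  have h4 := congrArg (res (G.G n) hge) (hy.trans ((G.act_congr U hU
    (rfl : str 𝒮.toQCAlg U r ^ k = (𝒮.str.app (op U)).hom r ^ k) (SubSys.str_pow_mem hU r k) _ h2 _ _ _).symm.trans h3))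
  rw [res_res, res_smul, map_pow, resO_resO, res_res] at h4
  rw [h4, res_rfl]

/-- All the sections. -/
def topSys : SubSys G where
  K U hU n := ⊤
  act_mem hU _ _ ha _ _ h _ _ := trivial
  res_mem hU hV h _ _ _ := trivial
  surj hU r _ x _ := by
    obtain ⟨k, y, hy⟩ := surj_str G hP hq hc hU r x
    exact ⟨k, y, trivial, hy⟩

end top

/-- `F` is the module attached to the graded module of its twisted sections. -/
theorem exists_isRelTilde_of_isQCoh (hP : IsRelProj 𝒮 p chart) (hgen : 𝒮.IsGenDegOne) (hft : 𝒮.IsFTDeg 1)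
    {F : P.Modules} (hF : Coh.IsQCoh F) :
    ∃ (ℳ : RelProj.GrModule 𝒮) (lam : ∀ (U : S.Opens) (hU : IsAffineOpen U),
      F ⟶ (Scheme.Modules.pushforward (RelProj.emb p chart U hU)).obj (GrMod.tilde (𝒮.deg U hU) (ℳ.deg U hU) 0)),
      Coh.IsQCoh ((AMod.toOS 𝒮.toQCAlg).obj ℳ.mod) ∧ RelProj.IsRelTilde 𝒮 p chart ℳ 0 F lam := by
  obtain ⟨T⟩ := exists_twData hP
  have hc : HasCov p chart := hasCov hgen hft
  have hq := isQCoh_sys T hP hgen hF
  obtain ⟨e⟩ := nonempty_iso_zero T hP hgen F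
  obtain ⟨lam, hlam⟩ := (topSys (sys T hP F) hP hq hc).exists_isRelTilde hP hq hc (fun U hU d hd g hg s => by
    obtain ⟨k, hk⟩ := extend' (sys T hP F) hq hc hU hg s
    obtain ⟨x, hx⟩ := hk (m := ((k * d : ℕ) : ℤ)) (zero_add _)
    exact ⟨k, x, trivial, hx⟩)
  exact ⟨_, _, (topSys (sys T hP F) hP hq hc).isQCoh_grMod hP hq hc, isRelTilde_of_iso hlam e⟩

end K39.Gam
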