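import Groth.Agent.EGA2.K39.FinGam
import Groth.Agent.EGA2.K39.Gam

/-!
# Existence of the finitely generated submodules generating `F(n)`; finite type modules on a relative Proj
-/

set_option autoImplicit false
set_option linter.unusedSectionVars false
universe u

open CategoryTheory AlgebraicGeometry TopologicalSpace Opposite
open scoped HomogeneousIdeal

noncomputable section

namespace K39.FinGam2

open K39.GrFrac K39.GrQCoh K39.Sys K39.PBasic K39.Ext K39.GamMod K39.SpanLoc K39.FinGam K39.Gam RelProj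
open Groth.Agent.Ega1.QCohLoc
open K27.QCAlgBasic (Sec rho str rho_str rho_rho rho_self isUnit_str)

variable {S P : Scheme.{u}} {𝒮 : RelProj.QCGrAlg S} {p : P ⟶ S}
  {chart : ∀ (U : S.Opens) (hU : IsAffineOpen U), (((p ⁻¹ᵁ U : P.Opens) : Scheme.{u}) ≅ Proj (𝒮.deg U hU))}

section sub

variable {M : P.Modules} {F : S.Modules} (j : F ⟶ (Scheme.Modules.pushforward p).obj M)

/-- The value of `j` at a section, as a section of `M`. -/
def jv (U : S.Opens) : Γ(F, U) →+ Γ(M, p ⁻¹ᵁ U) where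
  toFun f := j.app U f
  map_zero' := map_zero (j.app U).hom
  map_add' f f' := map_add (j.app U).hom f f'

theorem jv_res {U V : S.Opens} (h : V ≤ U) (f : Γ(F, U)) :
    jv j V (res F h f) = res M (p.preimage_mono h) (jv j U f) := res_app j h f

theorem jv_smul (U : S.Opens) (c : Γ(S, U)) (f : Γ(F, U)) :
    jv j U (c • f) = (p.app U c : Γ(P, p ⁻¹ᵁ U)) • jv j U f := Scheme.Modules.Hom.app_smul j c f

theorem app_resO {U V : S.Opens} (h : V ≤ U) (r : Γ(S, U)) :
    p.app V (resO h r) = resO (p.preimage_mono h) (p.app U r) := congr($(p.naturality (homOfLE h).op) r)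

end sub

theorem nonempty_genSub (G : ActSys 𝒮 p chart) (N : ℕ) [CompactSpace S] [QuasiSeparatedSpace S] [QuasiCompact p]
    [QuasiSeparated p] (hM : Coh.IsQCoh (G.G N)) (hM' : CohB1.IsFT (G.G N))
    (h : ∀ y : S, ∃ V : S.Opens, y ∈ V ∧ IsAffineOpen V ∧
      K34.GenOn.GenOn (G.G N) (Set.univ : Set Γ(G.G N, p ⁻¹ᵁ V))) : Nonempty (GenSub G N) := by
  classical
  choose V hzV hV hg using h
  choose T _ hT hTg using fun z => (hg z).exists_finite hM hM' (p.isCompact_preimage (hV z).isCompact)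
  obtain ⟨t, ht⟩ := isCompact_univ.elim_finite_subcover (fun z : S => ((V z : S.Opens) : Set S))
    (fun z => (V z).isOpen) (fun z _ => Set.mem_iUnion.2 ⟨z, hzV z⟩)
  let ι := Σ z : t, T z.1
  have : ∀ z, Finite (T z) := fun z => (hT z)
  obtain ⟨F, j, -, hF, hF', hj⟩ := K34.FtSub.exists_ft_sub (G := (Scheme.Modules.pushforward p).obj (G.G N))
    (Groth.Agent.Ega1.QcqsPush.isQCoh_pushforward p (G.G N) hM) (ι := ι) (fun i => V i.1.1) (fun i => hV _)
    (fun i => (i.2.1 : Γ(G.G N, p ⁻¹ᵁ (V i.1.1))))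
  have hj' : ∀ (z : S) (_ : z ∈ t) (s : Γ(G.G N, p ⁻¹ᵁ (V z))) (_ : s ∈ T z), ∃ f : Γ(F, V z), jv j (V z) f = s :=
    fun z hz s hs => hj ⟨⟨z, hz⟩, ⟨s, hs⟩⟩
  have hlift : ∀ {U : S.Opens} (hU : IsAffineOpen U) (r : Γ(S, U)) (f : Γ(F, S.basicOpen r)),
      ∃ (k : ℕ) (y : Γ(F, U)), res (G.G N) (p.preimage_mono (S.basicOpen_le r)) (jv j U y) =
        resO (p.preimage_mono (S.basicOpen_le r)) (p.app U r) ^ k • jv j (S.basicOpen r) f := by
    intro U hU r f
    obtain ⟨k, y, hy⟩ := (isLocAt_of_isQCoh hF hU r).surj f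
    refine ⟨k, y, ?_⟩
    rw [← jv_res j (S.basicOpen_le r), hy, jv_smul, map_pow, app_resO]
  refine ⟨{ E := fun U hU => (jv j U).range
            res_mem := ?_
            surj := ?_
            gen := ?_
            fin := ?_ }⟩
  · rintro U V' hU hV' h _ ⟨f, rfl⟩
    exact ⟨res F h f, jv_res j h f⟩
  · rintro U hU r _ ⟨f, rfl⟩
    obtain ⟨k, y, hy⟩ := hlift hU r f
    exact ⟨k, _, ⟨y, rfl⟩, hy⟩
  · intro U hU x hx
    obtain ⟨z, hz, hxz⟩ := Set.mem_iUnion₂.1 (ht (Set.mem_univ (p x)))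
    obtain ⟨W, hW, hxW, hWa, hspan⟩ := hTg z x hxz
    obtain ⟨r, r', e, hxr⟩ := exists_basicOpen_le_affine_inter hU (hV z) (p x) ⟨hx, hxz⟩
    obtain ⟨φ, hφ, hxφ⟩ := hWa.exists_basicOpen_le (V := p ⁻¹ᵁ (S.basicOpen r)) ⟨x, hxr⟩ hxW
    have h1 : Submodule.span Γ(P, P.basicOpen φ) (res (G.G N) ((P.basicOpen_le φ).trans hW) '' T z) = ⊤ :=
      K34.GenOn.span_basicOpen hM (T z) hW hWa hspan φ
    have hφU : P.basicOpen φ ≤ p ⁻¹ᵁ U := hφ.trans (p.preimage_mono (S.basicOpen_le r))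
    refine ⟨P.basicOpen φ, hφU, hxφ, hWa.basicOpen φ, ?_⟩
    rw [eq_top_iff, ← h1, Submodule.span_le]
    rintro _ ⟨s, hs, rfl⟩
    obtain ⟨f, rfl⟩ := hj' z hz s hs
    have hDV : S.basicOpen r ≤ V z := e.trans_le (S.basicOpen_le r')
    obtain ⟨k, y, hy⟩ := hlift hU r (res F hDV f)
    have h2 := congrArg (res (G.G N) hφ) hy
    rw [jv_res, res_res, res_smul, res_res, map_pow, resO_resO] at h2
    have hu : IsUnit (resO hφU (p.app U r) ^ k) := by
      refine IsUnit.pow k ?_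
      have h3 : IsUnit (resO (P.basicOpen_le (p.app U r)) (p.app U r)) := RingedSpace.isUnit_res_basicOpen _ _
      have h4 : P.basicOpen φ ≤ P.basicOpen (p.app U r) := by
        rw [← Scheme.preimage_basicOpen]
        exact hφ
      have h5 := h3.map (resO h4)
      rwa [resO_resO] at h5
    obtain ⟨u, hu⟩ := hu
    have h6 : res (G.G N) ((P.basicOpen_le φ).trans hW) (jv j (V z) f) =
        (↑u⁻¹ : Γ(P, P.basicOpen φ)) • res (G.G N) hφU (jv j U y) := by
      rw [h2, ← hu, smul_smul, Units.inv_mul, one_smul]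
    change res (G.G N) ((P.basicOpen_le φ).trans hW) (jv j (V z) f) ∈ _
    rw [h6]
    exact Submodule.smul_mem _ _ (Submodule.subset_span ⟨_, ⟨y, rfl⟩, rfl⟩)
  · intro U hU
    have hfin : Module.Finite Γ(S, U) Γ(F, U) := Groth.Agent.CohqB.FiniteType2.finite_sections_of_isFT F hF' hU
    obtain ⟨n, s, hs⟩ := Module.Finite.exists_fin (R := Γ(S, U)) (M := Γ(F, U))
    refine ⟨Fin n, inferInstance, fun i => jv j U (s i), fun i => ⟨s i, rfl⟩, ?_⟩
    rintro _ ⟨f, rfl⟩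
    have hf : f ∈ Submodule.span Γ(S, U) (Set.range s) := hs ▸ Submodule.mem_top
    obtain ⟨c, rfl⟩ := (Submodule.mem_span_range_iff_exists_fun _).1 hf
    refine ⟨c, ?_⟩
    rw [map_sum]
    exact Finset.sum_congr rfl fun i _ => jv_smul j U (c i) (s i)

/-- For `n` large the direct image of `F(n)` has a quasi-coherent submodule of finite type generating `F(n)`. -/
theorem exists_genSub [CompactSpace S] [QuasiSeparatedSpace S] (T : TwData chart) (hP : IsRelProj 𝒮 p chart)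
    (hgen : 𝒮.IsGenDegOne) (hft : 𝒮.IsFTDeg 1) {F : P.Modules} (hF : Coh.IsQCoh F) (hF' : CohB1.IsFT F) :
    ∃ N : ℕ, Nonempty (GenSub (sys T hP F) N) := by
  have hpr : IsProper p := Groth.Agent.EGA2.K32.ProjProper.isProper_of_isRelProj hP hgen hft
  obtain ⟨N, hN⟩ := K31.RelPow.exists_forall_genOn hP hgen hft (fun m => ⟨_, _, T.isRel m⟩) ⟨hF, hF'⟩
  obtain ⟨-, h2⟩ := hN N le_rfl (T.L N) (T.lam N) (T.isRel N)
  obtain ⟨e⟩ := nonempty_homIso T hP hgen F N (T.isRel N)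
  have hcoh := Groth.Agent.Ega2.GlobGenCrit.isCoh_tensor (F := F) ⟨hF, hF'⟩ (isInvertible hgen (T.isRel N))
  refine ⟨N, nonempty_genSub (sys T hP F) N (isQCoh_sys T hP hgen hF N)
    (Groth.Agent.CohqB.LocalQC.isFT_of_iso e.symm hcoh.2) fun y => ?_⟩
  obtain ⟨V, hy, hV, hg⟩ := h2 y
  exact ⟨V, hy, hV, K31.RelPow.genOn_of_iso e.symm hg⟩

/-- A quasi-coherent module of finite type is the module attached to a graded module of finite type. -/
theorem exists_isRelTilde_finite [CompactSpace S] [QuasiSeparatedSpace S] (hP : IsRelProj 𝒮 p chart)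
    (hgen : 𝒮.IsGenDegOne) (hft : 𝒮.IsFTDeg 1) {F : P.Modules} (hF : Coh.IsQCoh F) (hF' : CohB1.IsFT F) :
    ∃ (ℳ : RelProj.GrModule 𝒮) (lam : ∀ (U : S.Opens) (hU : IsAffineOpen U),
      F ⟶ (Scheme.Modules.pushforward (RelProj.emb p chart U hU)).obj (GrMod.tilde (𝒮.deg U hU) (ℳ.deg U hU) 0)),
      Coh.IsQCoh ((AMod.toOS 𝒮.toQCAlg).obj ℳ.mod) ∧ RelProj.IsRelTilde 𝒮 p chart ℳ 0 F lam ∧
        ∀ (U : S.Opens) (hU : IsAffineOpen U),
          Module.Finite (𝒮.presheaf.obj (op U)) (ℳ.mod.val.obj (op U)) := by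
  obtain ⟨T⟩ := exists_twData hP
  have hc : HasCov p chart := hasCov hgen hft
  have hq := isQCoh_sys T hP hgen hF
  obtain ⟨e⟩ := nonempty_iso_zero T hP hgen F
  obtain ⟨N, ⟨E⟩⟩ := exists_genSub T hP hgen hft hF hF'
  obtain ⟨lam, hlam⟩ := E.exists_isRelTilde hP hq hc
  exact ⟨_, _, (E.genSys hP).isQCoh_grMod hP hq hc, isRelTilde_of_iso hlam e, E.finite_grMod hP hq hc⟩

end K39.FinGam2
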