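import Mathlib.RingTheory.GradedAlgebra.Basic
import Mathlib.Algebra.DirectSum.Decomposition
import Mathlib.Algebra.Module.GradedModule

/-!
# The graded module `⨁ N n` over a graded ring

`NAct 𝒜 N`: maps `N n → N (n + d)` for the elements of `𝒜 d`, additive and multiplicative.  `GSum C`: the direct sum
`⨁ N n` as an `A`-module; `smul_of`, `proj_smul`; `piece`: its grading.
-/

set_option autoImplicit false
set_option linter.unusedSectionVars false
universe u v

open DirectSum

noncomputable section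

namespace K39.GrSum

variable {A : Type u} {σ : Type v} [CommRing A] [SetLike σ A] [AddSubgroupClass σ A] (𝒜 : ℕ → σ) [GradedRing 𝒜]
variable (N : ℕ → Type u) [∀ n, AddCommGroup (N n)]

/-- Multiplications by homogeneous elements on a sequence of groups. -/
structure NAct where
  act : ∀ {d : ℕ} {a : A} (_ : a ∈ 𝒜 d) {n k : ℕ} (_ : n + d = k), N n →+ N k
  act_add : ∀ {d : ℕ} {a b : A} (ha : a ∈ 𝒜 d) (hb : b ∈ 𝒜 d) (hab : a + b ∈ 𝒜 d) {n k : ℕ} (h : n + d = k) (x : N n),
    act hab h x = act ha h x + act hb h x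
  act_mul : ∀ {d e f : ℕ} {a b : A} (ha : a ∈ 𝒜 d) (hb : b ∈ 𝒜 e) (hab : a * b ∈ 𝒜 f) {n l k : ℕ}
    (h : n + f = k) (h1 : n + e = l) (h2 : l + d = k) (x : N n), act hab h x = act ha h2 (act hb h1 x)
  act_one : ∀ (h1 : (1 : A) ∈ 𝒜 0) {n : ℕ} (h : n + 0 = n) (x : N n), act h1 h x = x

variable {𝒜 N}

/-- The direct sum. -/
def GSum (_ : NAct 𝒜 N) : Type u := ⨁ n, N n

variable (C : NAct 𝒜 N)

instance : AddCommGroup (GSum C) := inferInstanceAs (AddCommGroup (⨁ n, N n))

/-- The inclusion of a summand. -/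
def of (n : ℕ) : N n →+ GSum C := DirectSum.of N n

/-- The components. -/
def proj (n : ℕ) : GSum C →+ N n where
  toFun x := (show ⨁ n, N n from x) n
  map_zero' := rfl
  map_add' _ _ := rfl

variable {C}

theorem ext' {x y : GSum C} (h : ∀ n, proj C n x = proj C n y) : x = y := DFinsupp.ext h

theorem proj_of_self (n : ℕ) (x : N n) : proj C n (of C n x) = x := DirectSum.of_eq_same n x

theorem proj_of_ne {n m : ℕ} (h : n ≠ m) (x : N n) : proj C m (of C n x) = 0 := DirectSum.of_eq_of_ne n m x h.symm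

theorem induction_on {motive : GSum C → Prop} (x : GSum C) (zero : motive 0)
    (of : ∀ (n : ℕ) (x : N n), motive (of C n x)) (add : ∀ x y, motive x → motive y → motive (x + y)) : motive x :=
  DirectSum.induction_on x zero of add

theorem hom_ext {B : Type*} [AddCommMonoid B] {f g : GSum C →+ B} (h : ∀ (n : ℕ) (x : N n), f (of C n x) = g (of C n x)) :
    f = g := DirectSum.addHom_ext h

theorem exists_bound (x : GSum C) : ∃ n₀ : ℕ, ∀ n, n₀ ≤ n → proj C n x = 0 := by
  induction x using induction_on with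
  | zero => exact ⟨0, fun n _ => map_zero _⟩
  | of n x => exact ⟨n + 1, fun m hm => proj_of_ne (by omega) x⟩
  | add x y hx hy =>
    obtain ⟨a, ha⟩ := hx
    obtain ⟨b, hb⟩ := hy
    exact ⟨max a b, fun n hn => by rw [map_add, ha n (le_trans (le_max_left _ _) hn),
      hb n (le_trans (le_max_right _ _) hn), add_zero]⟩

variable (C)

theorem of_act_congr {d n k k' : ℕ} {a : A} (ha : a ∈ 𝒜 d) (h : n + d = k) (h' : n + d = k') (x : N n) :
    of C k (C.act ha h x) = of C k' (C.act ha h' x) := by
  subst h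
  subst h'
  rfl

theorem act_zero {d n k : ℕ} (h0 : (0 : A) ∈ 𝒜 d) (h : n + d = k) (x : N n) : C.act h0 h x = 0 := by
  have h1 := C.act_add h0 h0 (show (0 : A) + 0 ∈ 𝒜 d by rwa [add_zero]) h x
  have h2 : C.act (show (0 : A) + 0 ∈ 𝒜 d by rwa [add_zero]) h x = C.act h0 h x := by
    congr 1
    simp only [add_zero]
  rw [h2] at h1
  exact (add_eq_left.1 h1.symm)

/-- The shift by an element of degree `d`. -/
def shift {d : ℕ} {a : A} (ha : a ∈ 𝒜 d) : GSum C →+ GSum C :=
  DirectSum.toAddMonoid fun n => (of C (n + d)).comp (C.act ha rfl)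

theorem shift_of {d : ℕ} {a : A} (ha : a ∈ 𝒜 d) {n k : ℕ} (h : n + d = k) (x : N n) :
    shift C ha (of C n x) = of C k (C.act ha h x) :=
  (DirectSum.toAddMonoid_of _ n x).trans (of_act_congr C ha rfl h x)

/-- The shifts by the elements of degree `d`. -/
def shiftHom (d : ℕ) : 𝒜 d →+ AddMonoid.End (GSum C) where
  toFun a := shift C a.2
  map_zero' := hom_ext fun n x => by
    rw [shift_of C _ rfl]
    exact (congrArg _ (act_zero C _ _ _)).trans (map_zero _)
  map_add' a b := hom_ext fun n x => by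
    rw [shift_of C _ rfl]
    refine (congrArg _ (C.act_add a.2 b.2 _ rfl x)).trans ?_
    rw [map_add]
    exact congrArg₂ (· + ·) (shift_of C a.2 rfl x).symm (shift_of C b.2 rfl x).symm

/-- The action, additively. -/
def actAdd : A →+ AddMonoid.End (GSum C) :=
  (DirectSum.toAddMonoid (shiftHom C)).comp (DirectSum.decomposeAddEquiv 𝒜).toAddMonoidHom

theorem actAdd_of_mem {d : ℕ} {a : A} (ha : a ∈ 𝒜 d) : actAdd C a = shift C ha := by
  change DirectSum.toAddMonoid (shiftHom C) (DirectSum.decompose 𝒜 a) = _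
  rw [DirectSum.decompose_of_mem 𝒜 ha]
  exact DirectSum.toAddMonoid_of _ d _

theorem actAdd_of {d : ℕ} {a : A} (ha : a ∈ 𝒜 d) {n k : ℕ} (h : n + d = k) (x : N n) :
    actAdd C a (of C n x) = of C k (C.act ha h x) := by
  rw [actAdd_of_mem C ha]
  exact shift_of C ha h x

theorem actAdd_one : actAdd C 1 = 1 := hom_ext fun n x =>
  (actAdd_of C (SetLike.GradedOne.one_mem (A := 𝒜)) (add_zero n) x).trans
    (congrArg (of C n) (C.act_one _ (add_zero n) x))

theorem actAdd_mul (a b : A) : actAdd C (a * b) = actAdd C a * actAdd C b := by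
  induction a using DirectSum.Decomposition.inductionOn 𝒜 with
  | zero => rw [zero_mul, map_zero, zero_mul]
  | add a a' ha ha' => rw [add_mul, map_add, map_add, add_mul, ha, ha']
  | @homogeneous i a =>
    induction b using DirectSum.Decomposition.inductionOn 𝒜 with
    | zero => rw [mul_zero, map_zero, mul_zero]
    | add b b' hb hb' => rw [mul_add, map_add, map_add, mul_add, hb, hb']
    | @homogeneous e b =>
      refine hom_ext fun n x => ?_
      have hk : n + (i + e) = n + e + i := by omega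
      refine (actAdd_of C (SetLike.mul_mem_graded a.2 b.2) hk x).trans ?_
      refine Eq.trans ?_ (congrArg (actAdd C a.1) (actAdd_of C b.2 (rfl : n + e = n + e) x)).symm
      refine Eq.trans ?_ (actAdd_of C a.2 (rfl : n + e + i = n + e + i) _).symm
      exact congrArg _ (C.act_mul a.2 b.2 _ hk rfl rfl x)

/-- The action as a ring homomorphism. -/
def actHom : A →+* AddMonoid.End (GSum C) where
  toFun := actAdd C
  map_one' := actAdd_one C
  map_mul' := actAdd_mul C
  map_zero' := map_zero _
  map_add' := map_add _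

instance : Module A (GSum C) := Module.compHom (GSum C) (actHom C)

theorem smul_of {d : ℕ} {a : A} (ha : a ∈ 𝒜 d) {n k : ℕ} (h : n + d = k) (x : N n) :
    a • of C n x = of C k (C.act ha h x) := actAdd_of C ha h x

theorem proj_smul {d : ℕ} {a : A} (ha : a ∈ 𝒜 d) {n k : ℕ} (h : n + d = k) (x : GSum C) :
    proj C k (a • x) = C.act ha h (proj C n x) := by
  induction x using induction_on with
  | zero => rw [smul_zero, map_zero, map_zero, map_zero]
  | add x y hx hy => rw [smul_add, map_add, map_add, map_add, hx, hy]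
  | of m x =>
    rw [smul_of C ha rfl]
    by_cases hm : m = n
    · subst hm
      subst h
      rw [proj_of_self, proj_of_self]
    · rw [proj_of_ne (by omega), proj_of_ne hm, map_zero]

/-- The grading. -/
def piece (n : ℕ) : AddSubgroup (GSum C) := (of C n).range

theorem of_mem_piece (n : ℕ) (x : N n) : of C n x ∈ piece C n := ⟨x, rfl⟩

theorem of_proj_of_mem {n : ℕ} {x : GSum C} (hx : x ∈ piece C n) : of C n (proj C n x) = x := by
  obtain ⟨y, rfl⟩ := hx
  rw [proj_of_self]

theorem proj_of_mem_ne {n m : ℕ} {x : GSum C} (hx : x ∈ piece C n) (h : n ≠ m) : proj C m x = 0 := by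
  obtain ⟨y, rfl⟩ := hx
  exact proj_of_ne h y

instance gradedSMul : SetLike.GradedSMul 𝒜 (piece C) where
  smul_mem {i n a x} ha hx := by
    obtain ⟨y, rfl⟩ := hx
    exact ⟨C.act ha (add_comm n i) y, (smul_of C ha (add_comm n i) y).symm⟩

/-- The decomposition map. -/
def dec : GSum C →+ ⨁ n, piece C n :=
  DirectSum.toAddMonoid fun n => (DirectSum.of (fun n => piece C n) n).comp (of C n).rangeRestrict

theorem dec_of (n : ℕ) (x : N n) : dec C (of C n x) = DirectSum.of (fun n => piece C n) n ⟨of C n x, x, rfl⟩ :=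
  DirectSum.toAddMonoid_of (β := N) _ n x

/-- The decomposition. -/
instance decomposition : DirectSum.Decomposition (piece C) :=
  DirectSum.Decomposition.ofAddHom (piece C) (dec C)
    (hom_ext fun n x => (congrArg (DirectSum.coeAddMonoidHom (piece C)) (dec_of C n x)).trans
      (DirectSum.coeAddMonoidHom_of _ _ _))
    (DirectSum.addHom_ext fun n x => by
      obtain ⟨_, y, rfl⟩ := x
      exact (congrArg (dec C) (DirectSum.coeAddMonoidHom_of (piece C) n _)).trans (dec_of C n y))

section map

variable {A' : Type u} {σ' : Type v} [CommRing A'] [SetLike σ' A'] [AddSubgroupClass σ' A'] {𝒜' : ℕ → σ'} [GradedRing 𝒜']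
variable {N' : ℕ → Type u} [∀ n, AddCommGroup (N' n)] (C' : NAct 𝒜' N')

/-- The map given by maps of the summands. -/
def map (φ : ∀ n, N n →+ N' n) : GSum C →+ GSum C' := DirectSum.toAddMonoid fun n => (of C' n).comp (φ n)

variable {C} {C'}

theorem map_of (φ : ∀ n, N n →+ N' n) (n : ℕ) (x : N n) : map C C' φ (of C n x) = of C' n (φ n x) :=
  DirectSum.toAddMonoid_of (β := N) _ n x

theorem proj_map (φ : ∀ n, N n →+ N' n) (n : ℕ) (x : GSum C) : proj C' n (map C C' φ x) = φ n (proj C n x) := by
  induction x using induction_on with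
  | zero => rw [map_zero, map_zero, map_zero, map_zero]
  | add x y hx hy => rw [map_add, map_add, map_add, map_add, hx, hy]
  | of m x =>
    rw [map_of]
    by_cases hm : m = n
    · subst hm
      rw [proj_of_self, proj_of_self]
    · rw [proj_of_ne hm, proj_of_ne hm, map_zero]

theorem map_smul' (φ : ∀ n, N n →+ N' n) (ρ : A →+* A') (hρ : ∀ {d : ℕ} {a : A}, a ∈ 𝒜 d → ρ a ∈ 𝒜' d)
    (hφ : ∀ {d : ℕ} {a : A} (ha : a ∈ 𝒜 d) {n k : ℕ} (h : n + d = k) (x : N n),
      φ k (C.act ha h x) = C'.act (hρ ha) h (φ n x)) (a : A) (x : GSum C) :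
    map C C' φ (a • x) = ρ a • map C C' φ x := by
  induction a using DirectSum.Decomposition.inductionOn 𝒜 with
  | zero => rw [zero_smul, map_zero, map_zero, zero_smul]
  | add a b ha hb => rw [add_smul, map_add, map_add, add_smul, ha, hb]
  | @homogeneous i a =>
    induction x using induction_on with
    | zero => rw [smul_zero, map_zero, smul_zero]
    | add x y hx hy => rw [smul_add, map_add, map_add, smul_add, hx, hy]
    | of m x => rw [smul_of C a.2 rfl, map_of, map_of, smul_of C' (hρ a.2) rfl, hφ a.2]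

end map

/-- A decomposition given by projections. -/
def ofProj {M : Type*} [AddCommGroup M] (ℳ : ℕ → AddSubgroup M) (π : ∀ _ : ℕ, M →+ M) (mem : ∀ n x, π n x ∈ ℳ n)
    (same : ∀ n x, x ∈ ℳ n → π n x = x) (ne : ∀ n m x, x ∈ ℳ n → n ≠ m → π m x = 0)
    (bound : ∀ x, ∃ n₀ : ℕ, ∀ n, n₀ ≤ n → π n x = 0) (ext : ∀ x, (∀ n, π n x = 0) → x = 0) :
    DirectSum.Decomposition ℳ :=
  have h1 : ∀ (z : ⨁ n, ℳ n) (m : ℕ), π m (DirectSum.coeAddMonoidHom ℳ z) = z m := by
    intro z m
    induction z using DirectSum.induction_on with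
    | zero => rw [map_zero, map_zero]; rfl
    | add x y hx hy => rw [map_add, map_add, hx, hy]; rfl
    | of n x =>
      rw [DirectSum.coeAddMonoidHom_of]
      by_cases hm : n = m
      · subst hm
        rw [same n _ x.2, DirectSum.of_eq_same]
      · rw [ne n m _ x.2 hm, DirectSum.of_eq_of_ne _ _ _ (fun h => hm h.symm)]
        rfl
  have h2 : ∀ x : M, ∃ z : ⨁ n, ℳ n, DirectSum.coeAddMonoidHom ℳ z = x := by
    intro x
    obtain ⟨n₀, hn⟩ := bound x
    refine ⟨∑ n ∈ Finset.range n₀, DirectSum.of (fun n => ℳ n) n ⟨π n x, mem n x⟩, ?_⟩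
    rw [← sub_eq_zero]
    refine ext _ fun m => ?_
    rw [map_sub, sub_eq_zero, map_sum, map_sum]
    simp only [DirectSum.coeAddMonoidHom_of]
    by_cases hm : m < n₀
    · rw [Finset.sum_eq_single m (fun n _ h => ne n m _ (mem n x) h)
        (fun h => absurd (Finset.mem_range.2 hm) h), same m _ (mem m x)]
    · rw [hn m (not_lt.1 hm)]
      exact Finset.sum_eq_zero fun n h' => ne n m _ (mem n x) (fun h => hm (h ▸ Finset.mem_range.1 h'))
  DirectSum.IsInternal.chooseDecomposition ℳ ⟨fun z z' h => DFinsupp.ext fun m => Subtype.ext (by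
    rw [← h1 z m, ← h1 z' m, h]), h2⟩

end K39.GrSum
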