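import Groth.Agent.EGA2.K39.ChartLam
import Groth.Agent.EGA2.K39.Ext
import Groth.Prelude.Def_RelProj3

/-!
# A module given by multiplications is the module attached to a graded module: relative form

`Real G ℳ`: for every chart a realization `CReal` of the graded module `ℳ(U)` in the system `G`, compatible with
restriction to basic opens.  `isRelTilde`: then `G.G 0` is `ℳ~`.
-/

set_option autoImplicit false
set_option linter.unusedSectionVars false
universe u

open CategoryTheory AlgebraicGeometry TopologicalSpace Opposite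
open scoped HomogeneousIdeal

noncomputable section

namespace K39.RelReal

open K39.GrFrac K39.Sys K39.PBasic K39.ChartLam RelProj Groth.Agent.FormalB.GlueHom

variable {S P : Scheme.{u}} {𝒮 : RelProj.QCGrAlg S} {p : P ⟶ S}
  {chart : ∀ (U : S.Opens) (hU : IsAffineOpen U), (((p ⁻¹ᵁ U : P.Opens) : Scheme.{u}) ≅ Proj (𝒮.deg U hU))}
  (G : ActSys 𝒮 p chart)

theorem range_le (U : S.Opens) (hU : IsAffineOpen U) : (emb p chart U hU).opensRange ≤ p ⁻¹ᵁ U :=
  (K35.RelProjBasic.opensRange_emb U hU).le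

/-- The local system of a chart. -/
def chartAct (U : S.Opens) (hU : IsAffineOpen U) : CAct (𝒜 := 𝒮.deg U hU) (emb p chart U hU) where
  G := G.G
  act ha _ _ h _ hW := G.act U hU ha h (hW.trans (range_le U hU))
  act_smul ha _ _ h _ hW c x := G.act_smul U hU ha h (hW.trans (range_le U hU)) c x
  act_res ha _ _ h _ _ hW hV x := G.act_res U hU ha h (hW.trans (range_le U hU)) hV x
  act_mul ha hb hab _ _ _ h h1 h2 _ hW x := G.act_mul U hU ha hb hab h h1 h2 (hW.trans (range_le U hU)) x
  act_frac ha hb _ _ h _ hW c hc x := G.act_frac U hU ha hb h (hW.trans (range_le U hU)) c hc x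
  act_bij ha _ _ h _ hW hnv := G.act_bij U hU ha h (hW.trans (range_le U hU)) hnv

/-- Compatible realizations of a graded module. -/
structure Real (ℳ : GrModule 𝒮) where
  R : ∀ (U : S.Opens) (hU : IsAffineOpen U), CReal (chartAct G U hU) (ℳ.deg U hU)
  res_T : ∀ (U : S.Opens) (hU : IsAffineOpen U) (r : Γ(S, U)) (n : ℕ) (x : ℳ.mod.val.obj (op U))
    (h : (emb p chart (S.basicOpen r) (hU.basicOpen r)).opensRange ≤ (emb p chart U hU).opensRange),
    (R (S.basicOpen r) (hU.basicOpen r)).T n (ℳ.res hU (hU.basicOpen r) (S.basicOpen_le r) x) =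
      res (G.G n) h ((R U hU).T n x)

variable {G} {ℳ : GrModule 𝒮} (R : Real G ℳ)

/-- The chartwise identifications. -/
def lam (U : S.Opens) (hU : IsAffineOpen U) : G.G 0 ⟶
    (Scheme.Modules.pushforward (emb p chart U hU)).obj (GrMod.tilde (𝒮.deg U hU) (ℳ.deg U hU) 0) :=
  lamC (R.R U hU)

theorem rep_basicOpen (hP : IsRelProj 𝒮 p chart) (U : S.Opens) (hU : IsAffineOpen U) (r : Γ(S, U)) {W : P.Opens}
    (s : Γ(G.G 0, W)) (y : ProjectiveSpectrum (𝒮.deg (S.basicOpen r) (hU.basicOpen r)))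
    {z : GrMod.LocMod (𝒮.deg U hU) (M := ℳ.mod.val.obj (op U)) (ProjectiveSpectrum.comap
      (𝒮.res hU (hU.basicOpen r) (S.basicOpen_le r)) (𝒮.irrelevant_le_map U hU r) y)}
    (hz : Rep (R.R U hU) s _ z) :
    Rep (R.R (S.basicOpen r) (hU.basicOpen r)) s y
      (GrMod.locModMap (𝒮.res hU (hU.basicOpen r) (S.basicOpen_le r)) (𝒮.irrelevant_le_map U hU r)
        (ℳ.res hU (hU.basicOpen r) (S.basicOpen_le r)) y z) := by
  obtain ⟨d, g, hg, hgy, x, hx, V, hVW, hVr, hyV, rfl, e⟩ := hz
  have hyV' : emb p chart (S.basicOpen r) (hU.basicOpen r) y ∈ V := by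
    rw [← map_res_emb hP U hU r]
    exact hyV
  have hle : (emb p chart (S.basicOpen r) (hU.basicOpen r)).opensRange ≤ (emb p chart U hU).opensRange := by
    rw [K35.RelProjBasic.opensRange_emb, K35.RelProjBasic.opensRange_emb]
    exact p.preimage_mono (S.basicOpen_le r)
  have hV' : V ⊓ (emb p chart (S.basicOpen r) (hU.basicOpen r)).opensRange ≤ V := inf_le_left
  refine ⟨d, 𝒮.res hU (hU.basicOpen r) (S.basicOpen_le r) g, (𝒮.res hU (hU.basicOpen r) (S.basicOpen_le r)).map_mem hg,
    hgy, ℳ.res hU (hU.basicOpen r) (S.basicOpen_le r) x, ℳ.res_mem hU (hU.basicOpen r) (S.basicOpen_le r) d x hx,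
    V ⊓ (emb p chart (S.basicOpen r) (hU.basicOpen r)).opensRange, hV'.trans hVW, inf_le_right, ⟨hyV', ⟨y, rfl⟩⟩, ?_, ?_⟩
  · exact GrMod.locModMap_mk _ _ _ _ _ _
  · rw [R.res_T U hU r d x hle]
    refine (res_res (G.G d) hle inf_le_right _).trans ?_
    refine (res_res (G.G d) hVr hV' _).symm.trans ?_
    refine (congrArg (res (G.G d) hV') e).trans ?_
    refine (G.act_res U hU hg _ (hVr.trans (range_le U hU)) hV' _).trans ?_
    refine Eq.trans ?_ (G.act_chart U hU r hg ((𝒮.res hU (hU.basicOpen r) (S.basicOpen_le r)).map_mem hg) (zero_add _)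
      ((hV'.trans hVr).trans (range_le U hU)) (inf_le_right.trans (range_le _ _)) _).symm
    exact congrArg _ (res_res (G.G 0) hVW hV' s)

/-- The zeroth module of the system is the module attached to `ℳ`. -/
theorem isRelTilde (hP : IsRelProj 𝒮 p chart) : IsRelTilde 𝒮 p chart ℳ 0 (G.G 0) (lam R) where
  bijective U hU W hW := lamC_bijective (R.R U hU) (by rwa [K35.RelProjBasic.opensRange_emb])
  compat U hU r W s y hy hy' :=
    Rep.unique (R.R (S.basicOpen r) (hU.basicOpen r)) (rep_lamSec (R.R _ (hU.basicOpen r)) s ⟨y, hy⟩)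
      (rep_basicOpen R hP U hU r s y (rep_lamSec (R.R U hU) s ⟨_, hy'⟩))

end K39.RelReal
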