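import Groth.Agent.EGA2.K39.AffMod
import Groth.Agent.EGA2.K39.GrSum
import Groth.Agent.EGA2.K39.RelReal

/-!
# The graded module of the sections of the `G n`

`G : ActSys 𝒮 p chart`.  `SubSys G`: subgroups `K U n ⊆ Γ(G n, p⁻¹(U))` for the affine opens `U`, stable under the
multiplications and the restrictions and compatible with localization.  `SubSys.grMod`: the graded `𝒮`-module with
`ℳ(U) = ⊕ K U n`; it is quasi-coherent, and `SubSys.real` is its realization in `G`.
-/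

set_option autoImplicit false
set_option linter.unusedSectionVars false
universe u

open CategoryTheory AlgebraicGeometry TopologicalSpace Opposite
open scoped HomogeneousIdeal

noncomputable section

namespace K39.GamMod

open K39.GrFrac K39.GrQCoh K39.Sys K39.PBasic K39.Ext K39.ChartLam K39.RelReal K39.GrSum RelProj
open Groth.Agent.Ega1.QCohLoc
open K27.QCAlgBasic (Sec rho str rho_str rho_rho rho_self isUnit_str)

variable {S P : Scheme.{u}} {𝒮 : RelProj.QCGrAlg S} {p : P ⟶ S}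
  {chart : ∀ (U : S.Opens) (hU : IsAffineOpen U), (((p ⁻¹ᵁ U : P.Opens) : Scheme.{u}) ≅ Proj (𝒮.deg U hU))}
  (G : ActSys 𝒮 p chart)

section actle

theorem rho_mem {U V : S.Opens} (hU : IsAffineOpen U) (hV : IsAffineOpen V) (h : V ≤ U) {d : ℕ}
    {a : 𝒮.presheaf.obj (op U)} (ha : a ∈ 𝒮.deg U hU d) : rho 𝒮.toQCAlg h a ∈ 𝒮.deg V hV d := 𝒮.map_mem hU hV h ha

theorem act_basic {U D : S.Opens} (hU : IsAffineOpen U) (hD : IsAffineOpen D) (h : D ≤ U) (r : Γ(S, U))
    (e : S.basicOpen r = D) {d : ℕ} {a : 𝒮.presheaf.obj (op U)} (ha : a ∈ 𝒮.deg U hU d) {m k : ℤ} (hk : m + d = k)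
    {W : P.Opens} (hW : W ≤ p ⁻¹ᵁ U) (hW' : W ≤ p ⁻¹ᵁ D) (x : Γ(G.G m, W)) :
    G.act D hD (rho_mem hU hD h ha) hk hW' x = G.act U hU ha hk hW x := by
  subst e
  exact G.act_chart U hU r ha _ hk hW hW' x

/-- The action does not depend on the affine open. -/
theorem act_le {U V : S.Opens} (hU : IsAffineOpen U) (hV : IsAffineOpen V) (h : V ≤ U) {d : ℕ}
    {a : 𝒮.presheaf.obj (op U)} (ha : a ∈ 𝒮.deg U hU d) {m k : ℤ} (hk : m + d = k)
    {W : P.Opens} (hW : W ≤ p ⁻¹ᵁ V) (x : Γ(G.G m, W)) :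
    G.act V hV (rho_mem hU hV h ha) hk hW x = G.act U hU ha hk (hW.trans (p.preimage_mono h)) x := by
  have key : ∀ w : W, ∃ D : S.Opens, w.1 ∈ p ⁻¹ᵁ D ∧ ∃ (hD : IsAffineOpen D) (hDU : D ≤ U) (hDV : D ≤ V)
      (r : Γ(S, U)) (r' : Γ(S, V)), S.basicOpen r = D ∧ S.basicOpen r' = D := by
    intro w
    obtain ⟨r, r', e, hm⟩ := exists_basicOpen_le_affine_inter hU hV (p w.1) ⟨h (hW w.2), hW w.2⟩
    exact ⟨S.basicOpen r, hm, hU.basicOpen r, S.basicOpen_le r, e.trans_le (S.basicOpen_le r'), r, r', rfl, e.symm⟩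
  choose D hwD hD hDU hDV r r' e e' using key
  refine eq_of_locally_eq (G.G k) (fun w => W ⊓ p ⁻¹ᵁ (D w)) W (fun w => inf_le_left) (fun w hw =>
    Opens.mem_iSup.mpr ⟨⟨w, hw⟩, hw, hwD ⟨w, hw⟩⟩) _ _ fun w => ?_
  rw [res_act, res_act, ← act_basic G hU (hD w) (hDU w) (r w) (e w) ha hk _ inf_le_right,
    ← act_basic G hV (hD w) (hDV w) (r' w) (e' w) (rho_mem hU hV h ha) hk _ inf_le_right]
  exact G.act_congr _ _ (rho_rho h (hDV w) a) _ _ _ _ _ _

/-- The action of a power of a function of the base. -/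
theorem act_str_pow (hP : IsRelProj 𝒮 p chart) (U : S.Opens) (hU : IsAffineOpen U) (r : Γ(S, U)) (l : ℕ)
    (hl : str 𝒮.toQCAlg U r ^ l ∈ 𝒮.deg U hU 0) {m : ℤ}
    (h : m + (0 : ℕ) = m) {W : P.Opens} (hW : W ≤ p ⁻¹ᵁ U) (x : Γ(G.G m, W)) :
    G.act U hU hl h hW x = resO hW (p.app U r) ^ l • x := by
  have h1 : str 𝒮.toQCAlg U r ^ l = (𝒮.str.app (op U)).hom (r ^ l) := (map_pow _ r l).symm
  rw [G.act_congr U hU h1 hl (𝒮.str_mem U hU (r ^ l)) h h hW x, G.act_str hP U hU (r ^ l) h hW x]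
  have h2 : P.presheaf.map (homOfLE hW).op (p.app U (r ^ l)) = resO hW (p.app U r) ^ l := by
    rw [map_pow]
    exact map_pow (resO hW) _ _
  rw [h2]

end actle

/-- Subgroups of the sections of the `G n` over the `p⁻¹(U)`. -/
structure SubSys where
  K : ∀ (U : S.Opens) (_ : IsAffineOpen U) (n : ℕ), AddSubgroup Γ(G.G n, p ⁻¹ᵁ U)
  act_mem : ∀ {U : S.Opens} (hU : IsAffineOpen U) {d : ℕ} {a : 𝒮.presheaf.obj (op U)} (ha : a ∈ 𝒮.deg U hU d)
    {n k : ℕ} (h : (n : ℤ) + d = k) {x : Γ(G.G n, p ⁻¹ᵁ U)}, x ∈ K U hU n → G.act U hU ha h le_rfl x ∈ K U hU k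
  res_mem : ∀ {U V : S.Opens} (hU : IsAffineOpen U) (hV : IsAffineOpen V) (h : V ≤ U) {n : ℕ} {x : Γ(G.G n, p ⁻¹ᵁ U)},
    x ∈ K U hU n → res (G.G n) (p.preimage_mono h) x ∈ K V hV n
  surj : ∀ {U : S.Opens} (hU : IsAffineOpen U) (r : Γ(S, U)) {n : ℕ} {x : Γ(G.G n, p ⁻¹ᵁ (S.basicOpen r))},
    x ∈ K (S.basicOpen r) (hU.basicOpen r) n → ∃ (k : ℕ) (y : Γ(G.G n, p ⁻¹ᵁ U)), y ∈ K U hU n ∧
      res (G.G n) (p.preimage_mono (S.basicOpen_le r)) y =
        resO (p.preimage_mono (S.basicOpen_le r)) (p.app U r) ^ k • x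

/-- Finite covers of the `p⁻¹(U)` by the loci of nonvanishing of elements of degree one. -/
def HasCov (p : P ⟶ S)
    (chart : ∀ (U : S.Opens) (hU : IsAffineOpen U), (((p ⁻¹ᵁ U : P.Opens) : Scheme.{u}) ≅ Proj (𝒮.deg U hU))) : Prop :=
  ∀ (U : S.Opens) (hU : IsAffineOpen U), ∃ (I : Type) (_ : Finite I) (f : I → 𝒮.presheaf.obj (op U)),
    (∀ i, f i ∈ 𝒮.deg U hU 1) ∧ p ⁻¹ᵁ U ≤ ⨆ i, PB p chart U hU (f i)

namespace SubSys

variable {G} (K : SubSys G)

/-- The multiplications on the `K U n`. -/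
def nact (U : S.Opens) (hU : IsAffineOpen U) : NAct (𝒮.deg U hU) (fun n => ↥(K.K U hU n)) where
  act {d a} ha {n k} h :=
    { toFun := fun x => ⟨G.act U hU ha (by exact_mod_cast h : (n : ℤ) + d = k) le_rfl x.1, K.act_mem hU ha _ x.2⟩
      map_zero' := Subtype.ext (map_zero _)
      map_add' := fun x y => Subtype.ext (map_add _ _ _) }
  act_add := fun {_ _ _} ha hb hab {_ _} _ x => Subtype.ext (G.act_add U hU ha hb hab _ le_rfl x.1)
  act_mul := fun {_ _ _ _ _} ha hb hab {_ _ _} _ _ _ x => Subtype.ext (G.act_mul U hU ha hb hab _ _ _ le_rfl x.1)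
  act_one := fun h1 {_} _ x => Subtype.ext (G.act_one U hU h1 _ le_rfl x.1)

theorem nact_coe {U : S.Opens} (hU : IsAffineOpen U) {d : ℕ} {a : 𝒮.presheaf.obj (op U)} (ha : a ∈ 𝒮.deg U hU d)
    {n k : ℕ} (h : n + d = k) (h' : (n : ℤ) + d = k) (x : ↥(K.K U hU n)) :
    ((K.nact U hU).act ha h x).1 = G.act U hU ha h' le_rfl x.1 := rfl

/-- The sections over `U`. -/
abbrev MU (U : S.Opens) (hU : IsAffineOpen U) : Type u := GSum (K.nact U hU)

/-- Restriction in one degree. -/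
def resN {U V : S.Opens} (hU : IsAffineOpen U) (hV : IsAffineOpen V) (h : V ≤ U) (n : ℕ) :
    ↥(K.K U hU n) →+ ↥(K.K V hV n) where
  toFun x := ⟨res (G.G n) (p.preimage_mono h) x.1, K.res_mem hU hV h x.2⟩
  map_zero' := Subtype.ext (map_zero _)
  map_add' _ _ := Subtype.ext (map_add _ _ _)

/-- Restriction. -/
def resM {U V : S.Opens} (hU : IsAffineOpen U) (hV : IsAffineOpen V) (h : V ≤ U) : K.MU U hU →+ K.MU V hV :=
  GrSum.map _ _ (K.resN hU hV h)

theorem proj_resM {U V : S.Opens} (hU : IsAffineOpen U) (hV : IsAffineOpen V) (h : V ≤ U) (n : ℕ) (x : K.MU U hU) :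
    (proj _ n (K.resM hU hV h x)).1 = res (G.G n) (p.preimage_mono h) (proj _ n x).1 :=
  congrArg Subtype.val (proj_map (K.resN hU hV h) n x)

theorem resM_smul {U V : S.Opens} (hU : IsAffineOpen U) (hV : IsAffineOpen V) (h : V ≤ U) (b : Sec 𝒮.toQCAlg U)
    (x : K.MU U hU) : K.resM hU hV h (b • x) = rho 𝒮.toQCAlg h b • K.resM hU hV h x := by
  refine map_smul' (K.resN hU hV h) (rho 𝒮.toQCAlg h) (fun ha => rho_mem hU hV h ha) (fun {d a} ha {n k} h' x => ?_) b x
  refine Subtype.ext ?_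
  have h'' : (n : ℤ) + d = k := by exact_mod_cast h'
  change res (G.G k) _ (G.act U hU ha h'' le_rfl x.1) = G.act V hV _ h'' le_rfl (res (G.G n) _ x.1)
  rw [res_act, act_le G hU hV h ha h'' le_rfl]

theorem ext_proj {U : S.Opens} {hU : IsAffineOpen U} {x y : K.MU U hU}
    (h : ∀ n, (proj _ n x).1 = (proj _ n y).1) : x = y := ext' fun n => Subtype.ext (h n)

theorem resM_self (U : S.Opens) (hU : IsAffineOpen U) (x : K.MU U hU) : K.resM hU hU le_rfl x = x :=
  K.ext_proj fun n => (K.proj_resM hU hU le_rfl n x).trans (res_rfl _ _)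

theorem resM_resM {U V W : S.Opens} (hU : IsAffineOpen U) (hV : IsAffineOpen V) (hW : IsAffineOpen W)
    (h : V ≤ U) (h' : W ≤ V) (x : K.MU U hU) : K.resM hV hW h' (K.resM hU hV h x) = K.resM hU hW (h'.trans h) x :=
  K.ext_proj fun n => by rw [proj_resM, proj_resM, proj_resM, res_res]

theorem str_pow_mem {U : S.Opens} (hU : IsAffineOpen U) (r : Γ(S, U)) (l : ℕ) :
    str 𝒮.toQCAlg U r ^ l ∈ 𝒮.deg U hU 0 := by
  rw [← map_pow]
  exact 𝒮.str_mem U hU (r ^ l)

theorem proj_str_smul (hP : IsRelProj 𝒮 p chart) {U : S.Opens} (hU : IsAffineOpen U) (r : Γ(S, U)) (l n : ℕ)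
    (x : K.MU U hU) : (proj _ n (str 𝒮.toQCAlg U r ^ l • x)).1 = (p.app U r : Γ(P, p ⁻¹ᵁ U)) ^ l • (proj _ n x).1 := by
  rw [proj_smul (K.nact U hU) (str_pow_mem hU r l) (add_zero n) x, nact_coe K hU _ _ (by simp),
    act_str_pow G hP U hU r l _ (by simp), resO_rfl]

variable (hP : IsRelProj 𝒮 p chart) (hq : ∀ n, Coh.IsQCoh (G.G n)) (hc : HasCov p chart)

include hP hq hc in
theorem kill_str {U : S.Opens} (hU : IsAffineOpen U) (r : Γ(S, U)) (n : ℤ) (x : Γ(G.G n, p ⁻¹ᵁ U))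
    (hx : res (G.G n) (p.preimage_mono (S.basicOpen_le r)) x = 0) :
    ∃ k : ℕ, ∀ l, k ≤ l → (p.app U r : Γ(P, p ⁻¹ᵁ U)) ^ l • x = 0 := by
  obtain ⟨I, hI, f, hf, hcov⟩ := hc U hU
  have haff : ∀ i, IsAffineOpen (p ⁻¹ᵁ U ⊓ PB p chart U hU (f i)) := fun i => by
    rw [inf_eq_right.2 (PB_le (f i))]
    exact isAffineOpen_PB (hf i) Nat.one_pos
  have hle : p ⁻¹ᵁ U ⊓ PB p chart U hU ((𝒮.str.app (op U)).hom r) ≤ p ⁻¹ᵁ (S.basicOpen r) := by
    rw [PB_str hP]
    exact inf_le_right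
  obtain ⟨k, hk⟩ := kill G (hq n) le_rfl f hf hcov haff (𝒮.str_mem U hU r) x (by
    rw [← res_res (G.G n) (p.preimage_mono (S.basicOpen_le r)) hle, hx, map_zero])
  refine ⟨k, fun l hl => ?_⟩
  have h0 : n + ((l * 0 : ℕ) : ℤ) = n := by simp
  have h1 := hk l hl h0
  have h2 : n + (0 : ℕ) = n := by simp
  have h3 := act_str_pow G hP U hU r l (str_pow_mem hU r l) h2 le_rfl x
  rw [resO_rfl] at h3
  refine h3.symm.trans (Eq.trans ?_ h1)
  exact G.act_congr U hU (rfl : str 𝒮.toQCAlg U r ^ l = (𝒮.str.app (op U)).hom r ^ l) _ _ _ _ _ _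

/-- The module given by the data over the affine opens. -/
def datum : AffMod.Datum 𝒮.toQCAlg where
  M U hU := K.MU U hU
  res hU hV h := K.resM hU hV h
  res_smul hU hV h b m := K.resM_smul hU hV h b m
  res_self U hU m := K.resM_self U hU m
  res_res hU hV hW h h' m := K.resM_resM hU hV hW h h' m
  inj U hU r m hm := by
    obtain ⟨n₀, hn₀⟩ := exists_bound m
    have h1 : ∀ n : ℕ, res (G.G n) (p.preimage_mono (S.basicOpen_le r)) (proj _ n m).1 = 0 := fun n => by
      rw [← K.proj_resM hU (hU.basicOpen r) (S.basicOpen_le r) n m, hm, map_zero]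
      rfl
    choose k hk using fun n : ℕ => kill_str hP hq hc hU r n _ (h1 n)
    refine ⟨∑ n ∈ Finset.range n₀, k n, K.ext_proj fun n => ?_⟩
    rw [K.proj_str_smul hP, map_zero]
    by_cases hn : n < n₀
    · exact hk n _ (Finset.single_le_sum (f := k) (fun _ _ => Nat.zero_le _) (Finset.mem_range.2 hn))
    · rw [hn₀ n (not_lt.1 hn)]
      exact smul_zero _
  surj U hU r m := by
    induction m using induction_on with
    | zero => exact ⟨0, 0, by rw [map_zero, smul_zero]⟩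
    | add x y hx hy =>
      obtain ⟨k, x', hx⟩ := hx
      obtain ⟨l, y', hy⟩ := hy
      refine ⟨k + l, str 𝒮.toQCAlg U r ^ l • x' + str 𝒮.toQCAlg U r ^ k • y', ?_⟩
      rw [map_add, K.resM_smul, K.resM_smul, hx, hy, map_pow, map_pow, ← mul_smul, ← mul_smul, smul_add, ← pow_add,
        ← pow_add, add_comm l k]
    | of n x =>
      obtain ⟨k, y, hy, e⟩ := K.surj hU r x.2
      refine ⟨k, of _ n ⟨y, hy⟩, K.ext_proj fun m => ?_⟩
      rw [K.proj_resM]
      have h3 : rho 𝒮.toQCAlg (S.basicOpen_le r) (str 𝒮.toQCAlg U r) =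
          str 𝒮.toQCAlg _ (resO (S.basicOpen_le r) r) := rho_str _ r
      rw [h3, K.proj_str_smul hP]
      by_cases hm : n = m
      · subst hm
        rw [proj_of_self, proj_of_self]
        refine e.trans ?_
        congr 2
        exact (congr($(p.naturality (homOfLE (S.basicOpen_le r)).op) r)).symm
      · rw [proj_of_ne hm, proj_of_ne hm]
        exact (map_zero _).trans (smul_zero _).symm

end SubSys

theorem mem_of_eq {A : Type u} {σ : Type u} [CommRing A] [SetLike σ A] [AddSubgroupClass σ A] {𝒜 : ℕ → σ} [GradedRing 𝒜]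
    {N : ℕ → Type u} [∀ n, AddCommGroup (N n)] {C : NAct 𝒜 N} {n : ℕ} {x y : GSum C} (h : x = y)
    (hy : y ∈ piece C n) : x ∈ piece C n := by rwa [h]

/-- Transport of the decomposition. -/
@[instance_reducible]
def decTr {A : Type u} {σ : Type u} [CommRing A] [SetLike σ A] [AddSubgroupClass σ A] {𝒜 : ℕ → σ} [GradedRing 𝒜]
    {N : ℕ → Type u} [∀ n, AddCommGroup (N n)] (C : NAct 𝒜 N) {M : Type*} [AddCommGroup M] (e : M →+ GSum C)
    (he : Function.Bijective e) : DirectSum.Decomposition (fun n => (piece C n).comap e) :=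
  ofProj _ (fun n => (AddEquiv.ofBijective e he).symm.toAddMonoidHom.comp (((of C n).comp (proj C n)).comp e))
    (fun n x => by
      have h1 : e ((AddEquiv.ofBijective e he).symm (of C n (proj C n (e x)))) = of C n (proj C n (e x)) :=
        (AddEquiv.ofBijective e he).apply_symm_apply _
      exact mem_of_eq h1 (of_mem_piece C n _))
    (fun n x hx => by
      refine he.1 (((AddEquiv.ofBijective e he).apply_symm_apply _).trans ?_)
      exact of_proj_of_mem C hx)
    (fun n m x hx h => by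
      refine he.1 (((AddEquiv.ofBijective e he).apply_symm_apply _).trans ?_)
      change of C m (proj C m (e x)) = _
      rw [proj_of_mem_ne C hx h, map_zero, map_zero])
    (fun x => by
      obtain ⟨n₀, h⟩ := exists_bound (e x)
      refine ⟨n₀, fun n hn => he.1 (((AddEquiv.ofBijective e he).apply_symm_apply _).trans ?_)⟩
      change of C n (proj C n (e x)) = _
      rw [h n hn, map_zero, map_zero])
    (fun x h => by
      refine he.1 ?_
      rw [map_zero]
      refine ext' fun n => ?_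
      have h1 := congrArg e (h n)
      have h2 : e ((AddEquiv.ofBijective e he).symm (of C n (proj C n (e x)))) = of C n (proj C n (e x)) :=
        (AddEquiv.ofBijective e he).apply_symm_apply _
      have h3 : of C n (proj C n (e x)) = 0 := h2.symm.trans (h1.trans (map_zero e))
      rw [← proj_of_self (C := C) n (proj C n (e x)), h3])

namespace SubSys

variable {G} (K : SubSys G) (hP : IsRelProj 𝒮 p chart) (hq : ∀ n, Coh.IsQCoh (G.G n)) (hc : HasCov p chart)

/-- The graded module. -/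
def grMod : GrModule 𝒮 where
  mod := (K.datum hP hq hc).glued
  deg U hU n := (piece (K.nact U hU) n).comap ((K.datum hP hq hc).ev U hU)
  decomp U hU := decTr (K.nact U hU) ((K.datum hP hq hc).ev U hU) ((K.datum hP hq hc).ev_bijective U hU)
  gradedSMul U hU := ⟨fun {i n a x} ha hx => by
    refine (AddSubgroup.mem_comap).2 ?_
    exact mem_of_eq ((K.datum hP hq hc).ev_smul U hU a x) ((gradedSMul (K.nact U hU)).smul_mem ha hx)⟩
  map_mem {U V} hU hV h {n m} hm := by
    refine (AddSubgroup.mem_comap).2 ?_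
    obtain ⟨y, hy⟩ := hm
    exact mem_of_eq ((K.datum hP hq hc).ev_res hU hV h m)
      ⟨K.resN hU hV h n y, (map_of (K.resN hU hV h) n y).symm.trans (congrArg (K.resM hU hV h) hy)⟩

theorem isQCoh_grMod : Coh.IsQCoh ((AMod.toOS 𝒮.toQCAlg).obj (K.grMod hP hq hc).mod) :=
  (K.datum hP hq hc).isQCoh_glued

/-- The components of a section of the graded module. -/
def cmp (U : S.Opens) (hU : IsAffineOpen U) (n : ℕ) : (K.grMod hP hq hc).mod.val.obj (op U) →+ Γ(G.G n, p ⁻¹ᵁ U) :=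
  (K.K U hU n).subtype.comp ((proj (K.nact U hU) n).comp ((K.datum hP hq hc).ev U hU))

theorem cmp_mem (U : S.Opens) (hU : IsAffineOpen U) (n : ℕ) (x : (K.grMod hP hq hc).mod.val.obj (op U)) :
    K.cmp hP hq hc U hU n x ∈ K.K U hU n := (proj (K.nact U hU) n ((K.datum hP hq hc).ev U hU x)).2

theorem cmp_smul (U : S.Opens) (hU : IsAffineOpen U) {d n k : ℕ} {a : 𝒮.presheaf.obj (op U)} (ha : a ∈ 𝒮.deg U hU d)
    (h : (n : ℤ) + d = k) (x : (K.grMod hP hq hc).mod.val.obj (op U)) :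
    K.cmp hP hq hc U hU k (a • x) = G.act U hU ha h le_rfl (K.cmp hP hq hc U hU n x) := by
  have h1 : n + d = k := by exact_mod_cast h
  refine (congrArg (fun z => (proj (K.nact U hU) k z).1) ((K.datum hP hq hc).ev_smul U hU a x)).trans ?_
  exact (congrArg Subtype.val (proj_smul (K.nact U hU) ha h1 ((K.datum hP hq hc).ev U hU x))).trans
    (nact_coe K hU ha h1 h _)

theorem cmp_res {U V : S.Opens} (hU : IsAffineOpen U) (hV : IsAffineOpen V) (h : V ≤ U) (n : ℕ)
    (x : (K.grMod hP hq hc).mod.val.obj (op U)) :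
    K.cmp hP hq hc V hV n ((K.grMod hP hq hc).res hU hV h x) =
      res (G.G n) (p.preimage_mono h) (K.cmp hP hq hc U hU n x) :=
  (congrArg (fun z => (proj (K.nact V hV) n z).1) ((K.datum hP hq hc).ev_res hU hV h x)).trans
    (K.proj_resM hU hV h n ((K.datum hP hq hc).ev U hU x))

theorem cmp_ext (U : S.Opens) (hU : IsAffineOpen U) {x y : (K.grMod hP hq hc).mod.val.obj (op U)}
    (h : ∀ n, K.cmp hP hq hc U hU n x = K.cmp hP hq hc U hU n y) : x = y :=
  ((K.datum hP hq hc).ev_bijective U hU).1 (K.ext_proj h)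

theorem exists_cmp (U : S.Opens) (hU : IsAffineOpen U) (n : ℕ) {y : Γ(G.G n, p ⁻¹ᵁ U)} (hy : y ∈ K.K U hU n) :
    ∃ x ∈ (K.grMod hP hq hc).deg U hU n, K.cmp hP hq hc U hU n x = y := by
  obtain ⟨x, hx⟩ := ((K.datum hP hq hc).ev_bijective U hU).2 (of (K.nact U hU) n ⟨y, hy⟩)
  refine ⟨x, AddSubgroup.mem_comap.2 (mem_of_eq hx (of_mem_piece _ n _)), ?_⟩
  refine (congrArg (fun z => (proj (K.nact U hU) n z).1) hx).trans ?_
  exact congrArg Subtype.val (proj_of_self (C := K.nact U hU) n ⟨y, hy⟩)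

theorem cmp_of_mem_ne (U : S.Opens) (hU : IsAffineOpen U) {n m : ℕ} (h : n ≠ m)
    {x : (K.grMod hP hq hc).mod.val.obj (op U)} (hx : x ∈ (K.grMod hP hq hc).deg U hU n) :
    K.cmp hP hq hc U hU m x = 0 :=
  congrArg Subtype.val (proj_of_mem_ne (K.nact U hU) (AddSubgroup.mem_comap.1 hx) h)

variable (hex : ∀ (U : S.Opens) (hU : IsAffineOpen U) {d : ℕ} (_ : 0 < d) {g : 𝒮.presheaf.obj (op U)}
  (hg : g ∈ 𝒮.deg U hU d) (s : Γ(G.G 0, PB p chart U hU g)), ∃ (k : ℕ) (x : Γ(G.G ((k * d : ℕ) : ℤ), p ⁻¹ᵁ U)),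
    x ∈ K.K U hU (k * d) ∧ res _ (PB_le g) x = G.act U hU (pow_mem' hg k) (zero_add _) (PB_le g) s)

/-- The realization. -/
def real : Real G (K.grMod hP hq hc) where
  R U hU :=
    { T := fun n => (res (G.G n) (range_le U hU)).comp (K.cmp hP hq hc U hU n)
      smul := fun {d n k a} ha h x => by
        refine (congrArg (res (G.G k) (range_le U hU)) (K.cmp_smul hP hq hc U hU ha h x)).trans ?_
        exact res_act G ha h le_rfl (range_le U hU) _
      ex := fun {d} hd {g} hg s => by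
        obtain ⟨k, y, hy, e⟩ := hex U hU hd hg s
        obtain ⟨x, hx, rfl⟩ := K.exists_cmp hP hq hc U hU _ hy
        refine ⟨k, x, hx, Eq.trans ?_ e⟩
        exact res_res (G.G ((k * d : ℕ) : ℤ)) (range_le U hU) (DB_le (emb p chart U hU) g) _
      inj := fun {d} hd {g} hg {n x} hx h0 => by
        obtain ⟨I, hI, f, hf, hcov⟩ := hc U hU
        have haff : ∀ i, IsAffineOpen (p ⁻¹ᵁ U ⊓ PB p chart U hU (f i)) := fun i => by
          rw [inf_eq_right.2 (PB_le (f i))]
          exact isAffineOpen_PB (hf i) Nat.one_pos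
        have h1 : res (G.G n) (inf_le_left : p ⁻¹ᵁ U ⊓ PB p chart U hU g ≤ p ⁻¹ᵁ U) (K.cmp hP hq hc U hU n x) = 0 := by
          have h2 : res (G.G n) (PB_le g) (K.cmp hP hq hc U hU n x) = 0 :=
            (res_res (G.G n) (range_le U hU) (DB_le (emb p chart U hU) g) _).symm.trans h0
          rw [← res_res (G.G n) (PB_le g) inf_le_right, h2, map_zero]
        obtain ⟨k, hk⟩ := kill G (hq n) le_rfl f hf hcov haff hg _ h1
        refine ⟨k, K.cmp_ext hP hq hc U hU fun m => ?_⟩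
        rw [map_zero]
        have h3 : g ^ k • x ∈ (K.grMod hP hq hc).deg U hU (k * d + n) :=
          ((K.grMod hP hq hc).gradedSMul U hU).smul_mem (pow_mem' hg k) hx
        by_cases hm : k * d + n = m
        · subst hm
          have h4 : (n : ℤ) + ((k * d : ℕ) : ℤ) = ((k * d + n : ℕ) : ℤ) := by push_cast; ring
          rw [K.cmp_smul hP hq hc U hU (pow_mem' hg k) h4 x]
          exact hk k le_rfl h4
        · exact K.cmp_of_mem_ne hP hq hc U hU hm h3 }
  res_T U hU r n x h := by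
    refine (congrArg (res (G.G n) (range_le _ (hU.basicOpen r)))
      (K.cmp_res hP hq hc hU (hU.basicOpen r) (S.basicOpen_le r) n x)).trans ?_
    refine (res_res (G.G n) (p.preimage_mono (S.basicOpen_le r)) (range_le _ (hU.basicOpen r)) _).trans ?_
    exact (res_res (G.G n) (range_le U hU) h _).symm

include hex in
/-- The module `G 0` is the module attached to the graded module. -/
theorem exists_isRelTilde : ∃ lam : ∀ (U : S.Opens) (hU : IsAffineOpen U),
    G.G 0 ⟶ (Scheme.Modules.pushforward (RelProj.emb p chart U hU)).obj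
      (GrMod.tilde (𝒮.deg U hU) ((K.grMod hP hq hc).deg U hU) 0),
      RelProj.IsRelTilde 𝒮 p chart (K.grMod hP hq hc) 0 (G.G 0) lam :=
  ⟨lam (K.real hP hq hc hex), isRelTilde (K.real hP hq hc hex) hP⟩

end SubSys

end K39.GamMod
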