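import Groth.Agent.EGA2.K39.GrQCoh
import Groth.Prelude.Def_RelProj3

/-!
# The comparison `M(n)~ ⟶ (Proj.map ψ)_* N(n)~` for a localization at a degree-zero element

* `IsLocHom ψ v c`: `ψ : A → B` and `v : M → N` are the localizations at `c` (of degree `0`), elementwise;
* `locModMap_injective`, `exists_frac_eq`: fibres;
* `comap_app_bijective`: if moreover `Proj.map ψ` is an open immersion, `GrMod.comap` is bijective on sections over the
  opens contained in its range.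
-/

set_option autoImplicit false
set_option linter.unusedSectionVars false
universe u

open CategoryTheory CategoryTheory.Limits AlgebraicGeometry TopologicalSpace Opposite TopCat
open scoped HomogeneousIdeal

namespace K39.GrComap

open K39.GrSect K39.GrFrac K39.GrQCoh Groth.Agent Groth.Agent.FormalB.GlueHom

/-- A morphism which is injective on all smaller opens and locally surjective onto the restrictions of `t` hits `t`. -/
theorem exists_app_eq {X : Scheme.{u}} {F G : X.Modules} (φ : F ⟶ G) {W : X.Opens}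
    (hinj : ∀ V : X.Opens, V ≤ W → Function.Injective (φ.app V)) (t : Γ(G, W))
    (hloc : ∀ x ∈ W, ∃ (V : X.Opens) (h : V ≤ W) (s : Γ(F, V)), x ∈ V ∧ φ.app V s = res G h t) :
    ∃ s : Γ(F, W), φ.app W s = t := by
  choose V hV s hx hs using fun x : W => hloc x.1 x.2
  obtain ⟨y, hy⟩ := exists_glue F W V hV (fun x hxW => ⟨⟨x, hxW⟩, hx ⟨x, hxW⟩⟩) s (fun i j => by
    apply hinj _ (inf_le_left.trans (hV i))
    rw [app_res, app_res, hs, hs, res_res, res_res])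
  refine ⟨y, eq_of_local G fun x hxW => ⟨V ⟨x, hxW⟩, hV ⟨x, hxW⟩, hx ⟨x, hxW⟩, ?_⟩⟩
  rw [← app_res, hy, hs]

variable {A σ : Type u} [CommRing A] [SetLike σ A] [AddSubgroupClass σ A] {𝒜 : ℕ → σ} [GradedRing 𝒜]
variable {M τ : Type u} [AddCommGroup M] [Module A M] [SetLike τ M] [AddSubgroupClass τ M] {ℳ : ℕ → τ}
  [SetLike.GradedSMul 𝒜 ℳ] [DirectSum.Decomposition ℳ]
variable {B σ' : Type u} [CommRing B] [SetLike σ' B] [AddSubgroupClass σ' B] {ℬ : ℕ → σ'} [GradedRing ℬ]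
variable {N τ' : Type u} [AddCommGroup N] [Module B N] [SetLike τ' N] [AddSubgroupClass τ' N] {𝒩 : ℕ → τ'}
  [SetLike.GradedSMul ℬ 𝒩] [DirectSum.Decomposition 𝒩]
variable (ψ : 𝒜 →+*ᵍ ℬ) (hψ : ℬ₊ ≤ (𝒜₊).map ψ) (v : M →ₛₗ[ψ.toRingHom] N)
  (hv : ∀ (i : ℕ) (m : M), m ∈ ℳ i → v m ∈ 𝒩 i)

/-- `ψ : A → B` and the `ψ`-semilinear `v : M → N` are localizations at the element `c` of degree zero. -/
structure IsLocHom (c : A) : Prop where
  mem : c ∈ 𝒜 0
  unit : IsUnit (ψ c)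
  surj : ∀ b : B, ∃ (k : ℕ) (a : A), ψ c ^ k * b = ψ a
  surjM : ∀ n : N, ∃ (k : ℕ) (m : M), ψ c ^ k • n = v m
  injM : ∀ m : M, v m = 0 → ∃ k : ℕ, c ^ k • m = 0

variable {ψ v}

include hv in
omit [SetLike.GradedSMul 𝒜 ℳ] [SetLike.GradedSMul ℬ 𝒩] in
theorem map_decompose (m : M) (j : ℕ) :
    v (DirectSum.decompose ℳ m j : M) = (DirectSum.decompose 𝒩 (v m) j : N) := by
  classical
  induction m using DirectSum.Decomposition.inductionOn ℳ with
  | zero => simp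
  | @homogeneous i m =>
    by_cases h : i = j
    · subst h
      rw [DirectSum.decompose_of_mem_same ℳ m.2, DirectSum.decompose_of_mem_same 𝒩 (hv _ _ m.2)]
    · rw [DirectSum.decompose_of_mem_ne ℳ m.2 h, DirectSum.decompose_of_mem_ne 𝒩 (hv _ _ m.2) h, map_zero]
  | add m m' h h' =>
    rw [DirectSum.decompose_add, map_add, DirectSum.decompose_add]
    simp only [DirectSum.add_apply, AddMemClass.coe_add, map_add, h, h']

namespace IsLocHom

variable {c : A} (h : IsLocHom ψ v c)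

include h

theorem pow_mem (k : ℕ) : c ^ k ∈ 𝒜 0 := by
  simpa using SetLike.pow_mem_graded k h.mem

theorem map_pow_mem (k : ℕ) : ψ c ^ k ∈ ℬ 0 := by
  rw [← map_pow]
  exact ψ.map_mem (h.pow_mem k)

theorem exists_of_mem {j : ℕ} {b : B} (hb : b ∈ ℬ j) : ∃ (k : ℕ) (a : A), a ∈ 𝒜 j ∧ ψ c ^ k * b = ψ a := by
  obtain ⟨k, a, ha⟩ := h.surj b
  refine ⟨k, DirectSum.decompose 𝒜 a j, SetLike.coe_mem _, ?_⟩
  rw [GradedRingHom.map_directSumDecompose, ← ha, DirectSum.decompose_of_mem_same]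
  simpa using SetLike.mul_mem_graded (h.map_pow_mem k) hb

include hv in
theorem exists_of_memM {j : ℕ} {n : N} (hn : n ∈ 𝒩 j) : ∃ (k : ℕ) (m : M), m ∈ ℳ j ∧ ψ c ^ k • n = v m := by
  obtain ⟨k, m, hm⟩ := h.surjM n
  refine ⟨k, DirectSum.decompose ℳ m j, SetLike.coe_mem _, ?_⟩
  rw [map_decompose hv, ← hm, DirectSum.decompose_of_mem_same]
  have h1 : ψ c ^ k • n ∈ 𝒩 (0 + j) := smul_mem_add ℬ (h.map_pow_mem k) hn
  rwa [zero_add] at h1

include hv in
theorem exists_of_zdeg {j : ℤ} {n : N} (hn : n ∈ zdeg 𝒩 j) : ∃ (k : ℕ) (m : M), m ∈ zdeg ℳ j ∧ ψ c ^ k • n = v m := by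
  rcases mem_zdeg_iff.mp hn with ⟨i, rfl, hi⟩ | rfl
  · obtain ⟨k, m, hm, e⟩ := h.exists_of_memM hv hi
    exact ⟨k, m, hm, e⟩
  · exact ⟨0, 0, zero_mem _, by simp⟩

theorem unit_notMem (y : ProjectiveSpectrum ℬ) : ψ c ∉ y.asHomogeneousIdeal := fun hc' =>
  y.isPrime.ne_top (Ideal.eq_top_of_isUnit_mem _ hc' h.unit)

theorem notMem (y : ProjectiveSpectrum ℬ) : c ∉ (ProjectiveSpectrum.comap ψ hψ y).asHomogeneousIdeal :=
  fun hc => h.unit_notMem y hc

theorem pow_notMem (y : ProjectiveSpectrum ℬ) (k : ℕ) :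
    c ^ k ∉ (ProjectiveSpectrum.comap ψ hψ y).asHomogeneousIdeal :=
  GrSect.pow_notMem (h.notMem hψ y) k

theorem locModMap_injective (y : ProjectiveSpectrum ℬ) : Function.Injective (GrMod.locModMap ψ hψ v y) := by
  rw [injective_iff_map_eq_zero]
  intro q hq
  induction q using LocalizedModule.induction_on with
  | h m s =>
    rw [GrMod.locModMap_mk, ← LocalizedModule.zero_mk (1 : y.asHomogeneousIdeal.toIdeal.primeCompl),
      LocalizedModule.mk_eq] at hq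
    obtain ⟨⟨b, hb⟩, hbm⟩ := hq
    simp only [Submonoid.smul_def, smul_zero, one_smul] at hbm
    obtain ⟨k, a, ha⟩ := h.surj b
    have hva : v (a • m) = 0 := by
      rw [LinearMap.map_smulₛₗ]
      change ψ a • v m = 0
      rw [← ha, mul_smul, hbm, smul_zero]
    obtain ⟨l, hl⟩ := h.injM _ hva
    have hay : a ∉ (ProjectiveSpectrum.comap ψ hψ y).asHomogeneousIdeal := by
      intro hay
      have h1 : ψ a ∈ y.asHomogeneousIdeal.toIdeal := hay
      rw [← ha] at h1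
      exact mul_notMem (GrSect.pow_notMem (h.unit_notMem y) k) hb h1
    rw [← LocalizedModule.zero_mk (1 : (ProjectiveSpectrum.comap ψ hψ y).asHomogeneousIdeal.toIdeal.primeCompl),
      LocalizedModule.mk_eq]
    refine ⟨⟨c ^ l * a, mul_notMem (h.pow_notMem hψ y l) hay⟩, ?_⟩
    simp only [Submonoid.smul_def, smul_zero, one_smul]
    rw [mul_smul, hl]

include hv in
/-- Every fraction `n / t` upstairs is the image of a fraction `m / s` downstairs, at all points at once. -/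
theorem exists_frac_eq {j : ℕ} {d : ℤ} {t : B} (ht : t ∈ ℬ j) {n : N} (hn : n ∈ zdeg 𝒩 d) :
    ∃ (s : A) (m : M), s ∈ 𝒜 j ∧ m ∈ zdeg ℳ d ∧
      ∀ (y : ProjectiveSpectrum ℬ) (hy : t ∉ y.asHomogeneousIdeal),
        ∃ hs : ψ s ∉ y.asHomogeneousIdeal,
          (LocalizedModule.mk n ⟨t, hy⟩ : GrMod.LocMod ℬ (M := N) y) = LocalizedModule.mk (v m) ⟨ψ s, hs⟩ := by
  obtain ⟨k, a, haj, ha⟩ := h.exists_of_mem ht
  obtain ⟨l, m, hm, e⟩ := h.exists_of_zdeg hv hn
  have h0 : c ^ l * a ∈ 𝒜 j := by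
    simpa using SetLike.mul_mem_graded (h.pow_mem l) haj
  refine ⟨c ^ l * a, c ^ k • m, h0, ?_, fun y hy => ?_⟩
  · exact smul_mem_zdeg_of_eq 𝒜 (h.pow_mem k) hm (by simp)
  have hc : ψ c ∉ y.asHomogeneousIdeal := h.unit_notMem y
  have h1 : ψ (c ^ l * a) = ψ c ^ (l + k) * t := by
    rw [map_mul, map_pow, ← ha, pow_add, mul_assoc]
  have h2 : v (c ^ k • m) = ψ c ^ (l + k) • n := by
    rw [LinearMap.map_smulₛₗ]
    change ψ (c ^ k) • v m = _
    rw [map_pow, ← e, smul_smul, ← pow_add, add_comm]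
  have h3 : ψ (c ^ l * a) ∉ y.asHomogeneousIdeal := by
    rw [h1]
    exact mul_notMem (GrSect.pow_notMem hc _) hy
  refine ⟨h3, mk_eq_of_smul_eq 1 (one_notMem y) ?_⟩
  rw [one_smul, one_smul, h1, h2, smul_smul, mul_comm]

end IsLocHom

theorem gval_comap {n : ℤ} {U : (Proj 𝒜).Opens} (s : Γ(GrMod.tilde 𝒜 ℳ n, U))
    (y : (Proj.map ψ hψ ⁻¹ᵁ U : (Proj ℬ).Opens)) :
    gval (((GrMod.comap ψ hψ v hv n).app U) s) y =
      GrMod.locModMap ψ hψ v y.1 (gval s ⟨ProjectiveSpectrum.comap ψ hψ y.1, y.2⟩) := rfl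

theorem comap_app_injective {c : A} (h : IsLocHom ψ v c) (n : ℤ) [IsOpenImmersion (Proj.map ψ hψ)]
    {W : (Proj 𝒜).Opens} (hW : W ≤ (Proj.map ψ hψ).opensRange) :
    Function.Injective ((GrMod.comap ψ hψ v hv n).app W) := by
  intro s t hst
  refine gval_ext fun x => ?_
  obtain ⟨y, hy⟩ := hW x.2
  have hyW : y ∈ (Proj.map ψ hψ ⁻¹ᵁ W : (Proj ℬ).Opens) := by
    change Proj.map ψ hψ y ∈ W
    rw [hy]
    exact x.2
  have h1 := congrArg (fun z : Γ(GrMod.tilde ℬ 𝒩 n, Proj.map ψ hψ ⁻¹ᵁ W) => gval z ⟨y, hyW⟩) hst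
  have h2 := h.locModMap_injective hψ y h1
  obtain ⟨x, hxW⟩ := x
  obtain rfl : Proj.map ψ hψ y = x := hy
  exact h2

/-- `GrMod.comap` is bijective on sections over the opens contained in the range of `Proj.map ψ`, for `ψ` and `v` the
localizations at a degree-zero element. -/
theorem comap_app_bijective {c : A} (h : IsLocHom ψ v c) (n : ℤ) [IsOpenImmersion (Proj.map ψ hψ)]
    {W : (Proj 𝒜).Opens} (hW : W ≤ (Proj.map ψ hψ).opensRange) :
    Function.Bijective ((GrMod.comap ψ hψ v hv n).app W) := by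
  refine ⟨comap_app_injective hψ hv h n hW, fun t => ?_⟩
  refine exists_app_eq (GrMod.comap ψ hψ v hv n)
    (fun V hV => comap_app_injective hψ hv h n (hV.trans hW)) t fun x hx => ?_
  obtain ⟨y, rfl⟩ := hW hx
  obtain ⟨V, hV, e, g, n', hg, hVg, hn', -, hyV, -, hres⟩ :=
    exists_gfrac (show Γ(GrMod.tilde ℬ 𝒩 n, Proj.map ψ hψ ⁻¹ᵁ W) from t) y hx
  obtain ⟨s, m, hs, hm, hsm⟩ := h.exists_frac_eq hv hg hn'
  let V' : (Proj 𝒜).Opens := Proj.map ψ hψ ''ᵁ V
  have hV' : V' ≤ W := by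
    rintro _ ⟨z, hz, rfl⟩
    exact hV hz
  have hNV : NV V' s := by
    rintro _ ⟨z, hz, rfl⟩
    exact (hsm z (hVg z hz)).1
  refine ⟨V', hV', gfrac n V' hs hNV hm, ⟨y, hyV, rfl⟩, ?_⟩
  have hpre : ∀ z : Proj ℬ, z ∈ Proj.map ψ hψ ⁻¹ᵁ V' → z ∈ V := by
    rintro z ⟨w, hw, hwz⟩
    obtain rfl := (Proj.map ψ hψ).isOpenEmbedding.injective hwz
    exact hw
  refine gval_ext (𝒜 := ℬ) (ℳ := 𝒩) fun z => ?_
  have hzV := hpre z.1 z.2
  obtain ⟨h1, h2⟩ := hsm z.1 (hVg z.1 hzV)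
  have h3 := congrArg (fun w : Γ(GrMod.tilde ℬ 𝒩 n, V) => gval w ⟨z.1, hzV⟩) hres
  refine Eq.trans ?_ (h2.symm.trans h3.symm)
  rfl

end K39.GrComap
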