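import Groth.Agent.EGA2.K39.GrComap

/-!
# Composition of the comparison maps on values
-/

set_option autoImplicit false
set_option linter.unusedSectionVars false
universe u

open CategoryTheory CategoryTheory.Limits AlgebraicGeometry TopologicalSpace Opposite TopCat
open scoped HomogeneousIdeal

namespace K39.GrComap

open K39.GrSect K39.GrFrac

variable {A σ : Type u} [CommRing A] [SetLike σ A] [AddSubgroupClass σ A] {𝒜 : ℕ → σ} [GradedRing 𝒜]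
variable {M τ : Type u} [AddCommGroup M] [Module A M] [SetLike τ M] [AddSubgroupClass τ M] {ℳ : ℕ → τ}
  [SetLike.GradedSMul 𝒜 ℳ]
variable {B σ' : Type u} [CommRing B] [SetLike σ' B] [AddSubgroupClass σ' B] {ℬ : ℕ → σ'} [GradedRing ℬ]
variable {N : Type u} [AddCommGroup N] [Module B N]
variable {C σ'' : Type u} [CommRing C] [SetLike σ'' C] [AddSubgroupClass σ'' C] {𝒞 : ℕ → σ''} [GradedRing 𝒞]
variable {L : Type u} [AddCommGroup L] [Module C L]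

/-- Composition of two comparison maps, on the values of a section. -/
theorem locModMap_comp (ψ₁ : 𝒜 →+*ᵍ ℬ) (h₁ : ℬ₊ ≤ (𝒜₊).map ψ₁) (v₁ : M →ₛₗ[ψ₁.toRingHom] N)
    (ψ₂ : ℬ →+*ᵍ 𝒞) (h₂ : 𝒞₊ ≤ (ℬ₊).map ψ₂) (v₂ : N →ₛₗ[ψ₂.toRingHom] L)
    (ψ₃ : 𝒜 →+*ᵍ 𝒞) (h₃ : 𝒞₊ ≤ (𝒜₊).map ψ₃) (v₃ : M →ₛₗ[ψ₃.toRingHom] L)
    (hψ : ∀ a, ψ₂ (ψ₁ a) = ψ₃ a) (hv : ∀ m, v₂ (v₁ m) = v₃ m) {n : ℤ} {U : (Proj 𝒜).Opens}
    (s : Γ(GrMod.tilde 𝒜 ℳ n, U)) (y : ProjectiveSpectrum 𝒞)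
    (hy : ProjectiveSpectrum.comap ψ₁ h₁ (ProjectiveSpectrum.comap ψ₂ h₂ y) ∈ U)
    (hy' : ProjectiveSpectrum.comap ψ₃ h₃ y ∈ U) :
    GrMod.locModMap ψ₂ h₂ v₂ y (GrMod.locModMap ψ₁ h₁ v₁ (ProjectiveSpectrum.comap ψ₂ h₂ y) (gval s ⟨_, hy⟩)) =
      GrMod.locModMap ψ₃ h₃ v₃ y (gval s ⟨_, hy'⟩) := by
  obtain ⟨e, g, m, -, -, hg, -, hs⟩ := exists_frac_at n (show GrMod.sect 𝒜 ℳ n (op U) from s) ⟨_, hy'⟩
  obtain ⟨h1, h2⟩ := hs _ hg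
  have hg' : g ∉ (ProjectiveSpectrum.comap ψ₁ h₁ (ProjectiveSpectrum.comap ψ₂ h₂ y)).asHomogeneousIdeal := by
    intro h4
    have h5 : ψ₂ (ψ₁ g) ∈ y.asHomogeneousIdeal := h4
    rw [hψ] at h5
    exact hg h5
  obtain ⟨h5, h6⟩ := hs _ hg'
  have h7 : gval s ⟨_, hy⟩ = LocalizedModule.mk m ⟨g, hg'⟩ := h6
  have h8 : gval s ⟨_, hy'⟩ = LocalizedModule.mk m ⟨g, hg⟩ := h2
  rw [h7, h8, GrMod.locModMap_mk, GrMod.locModMap_mk, GrMod.locModMap_mk]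
  refine mk_eq_of_smul_eq 1 (one_notMem y) ?_
  simp only [hψ, hv]

/-- The comparison map of the identity, on the values of a section. -/
theorem locModMap_self (ψ : 𝒜 →+*ᵍ 𝒜) (h : 𝒜₊ ≤ (𝒜₊).map ψ) (v : M →ₛₗ[ψ.toRingHom] M)
    (hψ : ∀ a, ψ a = a) (hv : ∀ m, v m = m) {n : ℤ} {U : (Proj 𝒜).Opens}
    (s : Γ(GrMod.tilde 𝒜 ℳ n, U)) (y : ProjectiveSpectrum 𝒜)
    (hy : ProjectiveSpectrum.comap ψ h y ∈ U) (hy' : y ∈ U) :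
    GrMod.locModMap ψ h v y (gval s ⟨_, hy⟩) = gval s ⟨y, hy'⟩ := by
  obtain ⟨e, g, m, -, -, hg, -, hs⟩ := exists_frac_at n (show GrMod.sect 𝒜 ℳ n (op U) from s) ⟨_, hy⟩
  obtain ⟨h1, h2⟩ := hs _ hg
  have hg' : g ∉ y.asHomogeneousIdeal := by
    intro h4
    have h5 : ψ g ∈ y.asHomogeneousIdeal := by rwa [hψ]
    exact hg h5
  obtain ⟨h5, h6⟩ := hs _ hg'
  have h7 : gval s ⟨_, hy⟩ = LocalizedModule.mk m ⟨g, hg⟩ := h2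
  have h8 : gval s ⟨_, hy'⟩ = LocalizedModule.mk m ⟨g, hg'⟩ := h6
  rw [h7, h8, GrMod.locModMap_mk]
  refine mk_eq_of_smul_eq 1 (one_notMem y) ?_
  simp only [hψ, hv]

end K39.GrComap
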