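import Groth.Agent.EGA2.K39.GrSect
import Groth.Agent.FormalB.GlueHom

set_option autoImplicit false
set_option linter.unusedSectionVars false

universe u

open CategoryTheory CategoryTheory.Limits AlgebraicGeometry TopologicalSpace Opposite TopCat

/-!
# Fractions as functions on `Proj` and as sections of `M(n)~` (gradings by additive subgroups)

Port of `FormalB.TwistFrac` to `GrMod`: `NV U s` (`s` vanishes nowhere on `U`), `ofrac` (the function `a / b`), `oval`,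
`gfrac` (the section `m / s` of `M(n)~`), `gval`, and every section is locally such a fraction; also the stalks of
`M(n)~` (`surjective`, `injective`: evaluation is bijective onto the fractions of degree `n`).
-/

namespace K39.GrFrac

open K39.GrSect Groth.Agent.FormalB.GlueHom

variable {A σ : Type u} [CommRing A] [SetLike σ A] [AddSubgroupClass σ A] {𝒜 : ℕ → σ} [GradedRing 𝒜]
variable {M τ : Type u} [AddCommGroup M] [Module A M] [SetLike τ M] [AddSubgroupClass τ M] {ℳ : ℕ → τ}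

/-- `s` vanishes nowhere on the open `U` of `Proj 𝒜`. -/
def NV (U : (Proj 𝒜).Opens) (s : A) : Prop := ∀ x : ProjectiveSpectrum 𝒜, x ∈ U → s ∉ x.asHomogeneousIdeal

theorem NV.mono {U V : (Proj 𝒜).Opens} {s : A} (h : NV U s) (hV : V ≤ U) : NV V s := fun x hx => h x (hV hx)

theorem NV.mul {U : (Proj 𝒜).Opens} {s t : A} (hs : NV U s) (ht : NV U t) : NV U (s * t) :=
  fun x hx => mul_notMem (hs x hx) (ht x hx)

theorem NV.pow {U : (Proj 𝒜).Opens} {s : A} (hs : NV U s) (k : ℕ) : NV U (s ^ k) :=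
  fun x hx => pow_notMem (hs x hx) k

theorem NV.one (U : (Proj 𝒜).Opens) : NV U (1 : A) := fun x _ => one_notMem x

theorem NV.basicOpen (s : A) : NV (Proj.basicOpen 𝒜 s) s := fun _ hx => hx

theorem NV.of_le {U : (Proj 𝒜).Opens} {s : A} (h : U ≤ Proj.basicOpen 𝒜 s) : NV U s := fun _ hx => h hx

/-! ### Fractions as sections of the structure sheaf -/

/-- The function `a / b` on `U`. -/
def ofrac (U : (Proj 𝒜).Opens) {i : ℕ} {a b : A} (ha : a ∈ 𝒜 i) (hb : b ∈ 𝒜 i) (hU : NV U b) :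
    Γ(Proj 𝒜, U) :=
  show (ProjectiveSpectrum.Proj.structureSheaf 𝒜).1.obj (op U) from
  ⟨fun x => HomogeneousLocalization.mk ⟨i, ⟨a, ha⟩, ⟨b, hb⟩, hU x.1 x.2⟩,
    fun x => ⟨U, x.2, 𝟙 _, i, ⟨a, ha⟩, ⟨b, hb⟩, fun y => hU y.1 y.2, fun _ => rfl⟩⟩

/-- Value of a function at a point, in the localization. -/
def oval {U : (Proj 𝒜).Opens} (c : Γ(Proj 𝒜, U)) (x : U) : GrTwist.Loc 𝒜 x.1 :=
  HomogeneousLocalization.val ((show (ProjectiveSpectrum.Proj.structureSheaf 𝒜).1.obj (op U) from c).1 x)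

theorem oval_ofrac (U : (Proj 𝒜).Opens) {i : ℕ} {a b : A} (ha : a ∈ 𝒜 i) (hb : b ∈ 𝒜 i) (hU : NV U b) (x : U) :
    oval (ofrac U ha hb hU) x = Localization.mk a ⟨b, hU x.1 x.2⟩ := rfl

theorem oval_ext {U : (Proj 𝒜).Opens} {c d : Γ(Proj 𝒜, U)} (h : ∀ x : U, oval c x = oval d x) : c = d := by
  apply Subtype.ext
  funext x
  exact HomogeneousLocalization.val_injective _ (h x)

theorem map_ofrac {U V : (Proj 𝒜).Opens} (h : V ≤ U) {i : ℕ} {a b : A} (ha : a ∈ 𝒜 i) (hb : b ∈ 𝒜 i)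
    (hU : NV U b) : (Proj 𝒜).presheaf.map (homOfLE h).op (ofrac U ha hb hU) = ofrac V ha hb (hU.mono h) := rfl

theorem exists_ofrac {U : (Proj 𝒜).Opens} (c : Γ(Proj 𝒜, U)) (x : ProjectiveSpectrum 𝒜) (hx : x ∈ U) :
    ∃ (V : (Proj 𝒜).Opens) (h : V ≤ U) (i : ℕ) (a b : A) (ha : a ∈ 𝒜 i) (hb : b ∈ 𝒜 i) (hV : NV V b), x ∈ V ∧
      (Proj 𝒜).presheaf.map (homOfLE h).op c = ofrac V ha hb hV := by
  obtain ⟨V, hxV, iV, j, ⟨a, ha⟩, ⟨b, hb⟩, nin, w⟩ :=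
    (show (ProjectiveSpectrum.Proj.structureSheaf 𝒜).1.obj (op U) from c).2 ⟨x, hx⟩
  refine ⟨V, iV.le, j, a, b, ha, hb, fun y hy => nin ⟨y, hy⟩, hxV, ?_⟩
  apply Subtype.ext
  funext y
  exact w y

/-! ### Fractions as sections of `M(n)~` -/

section Mod

variable [SetLike.GradedSMul 𝒜 ℳ]

/-- The section `m / s` of `M(n)~`. -/
noncomputable def gfrac (n : ℤ) (U : (Proj 𝒜).Opens) {j : ℕ} {s : A} (hs : s ∈ 𝒜 j) (hU : NV U s) {m : M}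
    (hm : m ∈ zdeg ℳ (j + n)) : Γ(GrMod.tilde 𝒜 ℳ n, U) :=
  show GrMod.sect 𝒜 ℳ n (op U) from frac n U hs hU hm

/-- Value of a section of `M(n)~` at a point. -/
noncomputable def gval {n : ℤ} {U : (Proj 𝒜).Opens} (t : Γ(GrMod.tilde 𝒜 ℳ n, U)) (x : U) :
    GrMod.LocMod 𝒜 (M := M) x.1 :=
  ((show GrMod.sect 𝒜 ℳ n (op U) from t).1 x).1

theorem gval_gfrac (n : ℤ) (U : (Proj 𝒜).Opens) {j : ℕ} {s : A} (hs : s ∈ 𝒜 j) (hU : NV U s) {m : M}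
    (hm : m ∈ zdeg ℳ (j + n)) (x : U) :
    gval (gfrac n U hs hU hm) x = LocalizedModule.mk m ⟨s, hU x.1 x.2⟩ := rfl

theorem gval_ext {n : ℤ} {U : (Proj 𝒜).Opens} {s t : Γ(GrMod.tilde 𝒜 ℳ n, U)} (h : ∀ x : U, gval s x = gval t x) :
    s = t := sect_ext h

theorem gval_add {n : ℤ} {U : (Proj 𝒜).Opens} (s t : Γ(GrMod.tilde 𝒜 ℳ n, U)) (x : U) :
    gval (s + t) x = gval s x + gval t x := rfl

theorem gval_zero {n : ℤ} {U : (Proj 𝒜).Opens} (x : U) :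
    gval (0 : Γ(GrMod.tilde 𝒜 ℳ n, U)) x = 0 := rfl

theorem gval_smul {n : ℤ} {U : (Proj 𝒜).Opens} (c : Γ(Proj 𝒜, U)) (t : Γ(GrMod.tilde 𝒜 ℳ n, U)) (x : U) :
    gval (c • t) x = oval c x • gval t x := rfl

theorem gval_res {n : ℤ} {U V : (Proj 𝒜).Opens} (h : V ≤ U) (t : Γ(GrMod.tilde 𝒜 ℳ n, U)) (x : V) :
    gval (res _ h t) x = gval t ⟨x.1, h x.2⟩ := rfl

theorem res_gfrac (n : ℤ) {U V : (Proj 𝒜).Opens} (h : V ≤ U) {j : ℕ} {s : A} (hs : s ∈ 𝒜 j) (hU : NV U s) {m : M}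
    (hm : m ∈ zdeg ℳ (j + n)) : res _ h (gfrac n U hs hU hm) = gfrac n V hs (hU.mono h) hm := rfl

theorem exists_gfrac {n : ℤ} {U : (Proj 𝒜).Opens} (t : Γ(GrMod.tilde 𝒜 ℳ n, U)) (x : ProjectiveSpectrum 𝒜)
    (hx : x ∈ U) :
    ∃ (V : (Proj 𝒜).Opens) (h : V ≤ U) (e : ℕ) (g : A) (m : M) (hg : g ∈ 𝒜 e) (hV : NV V g)
      (hm : m ∈ zdeg ℳ (e + n)), 0 < e ∧ x ∈ V ∧ V = Proj.basicOpen 𝒜 g ∧ res _ h t = gfrac n V hg hV hm := by
  obtain ⟨e, g, m, he, hg, hgx, hm, h⟩ :=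
    exists_frac_at n (show GrMod.sect 𝒜 ℳ n (op U) from t) ⟨x, hx⟩
  refine ⟨Proj.basicOpen 𝒜 g, fun y hy => (h y hy).choose, e, g, m, hg, NV.basicOpen g, hm, he, hgx, rfl,
    gval_ext fun y => ?_⟩
  obtain ⟨h1, h2⟩ := h y.1 y.2
  exact h2

theorem gfrac_congr {n : ℤ} {U : (Proj 𝒜).Opens} {j j' : ℕ} {s s' : A} {hs : s ∈ 𝒜 j} {hU : NV U s} {m m' : M}
    {hm : m ∈ zdeg ℳ (j + n)} {hs' : s' ∈ 𝒜 j'} {hU' : NV U s'} {hm' : m' ∈ zdeg ℳ (j' + n)}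
    (h : s' • m = s • m') : gfrac n U hs hU hm = gfrac n U hs' hU' hm' :=
  gval_ext fun x => mk_eq_of_smul_eq 1 (one_notMem x.1) (by rw [one_smul, one_smul]; exact h)

theorem gfrac_add (n : ℤ) (U : (Proj 𝒜).Opens) {j : ℕ} {s : A} (hs : s ∈ 𝒜 j) (hU : NV U s) {m m' : M}
    (hm : m ∈ zdeg ℳ (j + n)) (hm' : m' ∈ zdeg ℳ (j + n)) :
    gfrac n U hs hU hm + gfrac n U hs hU hm' = gfrac n U hs hU (add_mem hm hm') := by
  apply gval_ext
  intro x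
  rw [gval_add, gval_gfrac, gval_gfrac, gval_gfrac, LocalizedModule.mk_add_mk]
  exact mk_eq_of_smul_eq (x := x.1) (hg := mul_notMem (hU x.1 x.2) (hU x.1 x.2)) (hg' := hU x.1 x.2) 1 (one_notMem x.1) (by
    simp only [Submonoid.smul_def, smul_add, smul_smul])

theorem ofrac_smul_gfrac (n : ℤ) (U : (Proj 𝒜).Opens) {i j : ℕ} {a b : A} (ha : a ∈ 𝒜 i) (hb : b ∈ 𝒜 i)
    (hbU : NV U b) {s : A} (hs : s ∈ 𝒜 j) (hU : NV U s) {m : M} (hm : m ∈ zdeg ℳ (j + n)) :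
    ofrac U ha hb hbU • gfrac n U hs hU hm =
      gfrac n U (SetLike.mul_mem_graded hb hs) (hbU.mul hU)
        (smul_mem_zdeg_of_eq 𝒜 ha hm (by push_cast; ring)) := by
  apply gval_ext
  intro x
  rw [gval_smul, oval_ofrac, gval_gfrac, gval_gfrac]
  exact LocalizedModule.mk_smul_mk _ _ _ _

end Mod

/-! ### Stalks -/

section Stalk

variable [SetLike.GradedSMul 𝒜 ℳ]

/-- Every element of the fibre of `M(n)~` at `p` is a single fraction. -/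
theorem exists_frac (n : ℤ) (p : ProjectiveSpectrum 𝒜) (q : GrMod.LocMod 𝒜 (M := M) p)
    (hq : q ∈ GrMod.tildeAt 𝒜 ℳ n p) :
    ∃ (j : ℕ) (s : A) (_ : s ∈ 𝒜 j) (hs : s ∉ p.asHomogeneousIdeal) (m : M) (_ : m ∈ zdeg ℳ (j + n)),
      q = LocalizedModule.mk m ⟨s, hs⟩ := by
  induction hq using Submodule.span_induction with
  | mem q hq =>
    obtain ⟨i, j, m, s, hs, h, rfl⟩ := hq
    exact ⟨j, s.1, s.2, hs, m.1, mem_zdeg_of_eq h m.2, rfl⟩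
  | zero =>
    exact ⟨0, 1, SetLike.GradedOne.one_mem, one_notMem p, 0, zero_mem _, (LocalizedModule.zero_mk _).symm⟩
  | add q q' _ _ hq hq' =>
    obtain ⟨j, s, hs, hsp, m, hm, rfl⟩ := hq
    obtain ⟨j', s', hs', hsp', m', hm', rfl⟩ := hq'
    refine ⟨j + j', s * s', SetLike.mul_mem_graded hs hs', mul_notMem hsp hsp', s' • m + s • m',
      add_mem ?_ ?_, ?_⟩
    · exact smul_mem_zdeg_of_eq 𝒜 hs' hm (by push_cast; ring)
    · exact smul_mem_zdeg_of_eq 𝒜 hs hm' (by push_cast; ring)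
    · rw [LocalizedModule.mk_add_mk]
      rfl
  | smul c q _ hq =>
    obtain ⟨j, s, hs, hsp, m, hm, rfl⟩ := hq
    obtain ⟨⟨i, ⟨r, hr⟩, ⟨t, ht⟩, htp⟩, rfl⟩ := HomogeneousLocalization.mk_surjective c
    refine ⟨i + j, t * s, SetLike.mul_mem_graded ht hs, mul_notMem htp hsp, r • m,
      smul_mem_zdeg_of_eq 𝒜 hr hm (by push_cast; ring), ?_⟩
    rw [GrMod.a0_smul_def, HomogeneousLocalization.val_mk, LocalizedModule.mk_smul_mk]
    rfl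

variable (𝒜 ℳ) in
theorem surjective (n : ℤ) (p : ProjectiveSpectrum.top 𝒜) :
    Function.Surjective (TopCat.stalkToFiber (GrMod.isLocFrac 𝒜 ℳ n) p) := by
  refine TopCat.stalkToFiber_surjective _ _ fun t => ?_
  obtain ⟨j, s, hs, hsp, m, hm, ht⟩ := exists_frac n p t.1 t.2
  let f := frac n (ProjectiveSpectrum.basicOpen 𝒜 s) hs (fun x hx => hx) hm
  exact ⟨⟨ProjectiveSpectrum.basicOpen 𝒜 s, hsp⟩, f.1, f.2, Subtype.ext ht.symm⟩

variable (𝒜 ℳ) in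
theorem injective (n : ℤ) (p : ProjectiveSpectrum.top 𝒜) :
    Function.Injective (TopCat.stalkToFiber (GrMod.isLocFrac 𝒜 ℳ n) p) := by
  refine TopCat.stalkToFiber_injective (X := ProjectiveSpectrum.top 𝒜) _ _ fun U V fU hU fV hV h => ?_
  obtain ⟨e, g, m, he, hg, hgp, hm, w⟩ := exists_frac_at n (⟨fU, hU⟩ : GrMod.sect 𝒜 ℳ n (op U.1)) ⟨p, U.2⟩
  obtain ⟨e', g', m', he', hg', hgp', hm', w'⟩ :=
    exists_frac_at n (⟨fV, hV⟩ : GrMod.sect 𝒜 ℳ n (op V.1)) ⟨p, V.2⟩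
  obtain ⟨hpU, h1⟩ := w p hgp
  obtain ⟨hpV, h2⟩ := w' p hgp'
  have h3 : (fU ⟨p, hpU⟩ : GrMod.tildeAt 𝒜 ℳ n p).1 = (fV ⟨p, hpV⟩ : GrMod.tildeAt 𝒜 ℳ n p).1 :=
    congrArg Subtype.val h
  obtain ⟨a, ha, hz⟩ := exists_of_mk_eq (h1.symm.trans (h3.trans h2))
  have hle : ∀ y : ProjectiveSpectrum 𝒜, y ∈ ProjectiveSpectrum.basicOpen 𝒜 (a * (g * g')) →
      a ∉ y.asHomogeneousIdeal ∧ g ∉ y.asHomogeneousIdeal ∧ g' ∉ y.asHomogeneousIdeal := by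
    intro y hy
    refine ⟨fun h' => hy ?_, fun h' => hy ?_, fun h' => hy ?_⟩
    · exact Ideal.mul_mem_right _ _ h'
    · exact Ideal.mul_mem_left _ _ (Ideal.mul_mem_right _ _ h')
    · exact Ideal.mul_mem_left _ _ (Ideal.mul_mem_left _ _ h')
  let W : OpenNhds (X := ProjectiveSpectrum.top 𝒜) p :=
    ⟨ProjectiveSpectrum.basicOpen 𝒜 (a * (g * g')), mul_notMem ha (mul_notMem hgp hgp')⟩
  let U' : OpenNhds (X := ProjectiveSpectrum.top 𝒜) p := U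
  let V' : OpenNhds (X := ProjectiveSpectrum.top 𝒜) p := V
  have iU : W ⟶ U' := homOfLE fun y hy => (w y (hle y hy).2.1).1
  have iV : W ⟶ V' := homOfLE fun y hy => (w' y (hle y hy).2.2).1
  refine ⟨W, iU, iV, fun y => ?_⟩
  obtain ⟨hy1, hy2, hy3⟩ := hle y.1 y.2
  obtain ⟨hyU, h4⟩ := w y.1 hy2
  obtain ⟨hyV, h5⟩ := w' y.1 hy3
  refine Subtype.ext ?_
  refine h4.trans (Eq.trans ?_ h5.symm)
  rw [smul_sub, sub_eq_zero] at hz
  exact mk_eq_of_smul_eq a hy1 hz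


end Stalk

end K39.GrFrac
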