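import Groth.Agent.EGA2.K39.GrFrac
import Groth.Agent.Ega1.QCohLoc

/-!
# The modules `M(n)~` on `Proj` are quasi-coherent (gradings by additive subgroups)

* `exists_ofrac_basicOpen`: functions on `D_+(f)` are the fractions `a / f ^ k`;
* `isLocAt_tilde`: `Γ(M(n)~, D(r)) = Γ(M(n)~, D_+(f))_r` for a function `r` on `D_+(f)`;
* `isQCoh_tilde`: `GrMod.tilde 𝒜 ℳ n` is quasi-coherent.
-/

set_option autoImplicit false
set_option linter.unusedSectionVars false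
universe u

open CategoryTheory CategoryTheory.Limits AlgebraicGeometry TopologicalSpace Opposite TopCat

namespace K39.GrQCoh

open K39.GrSect K39.GrFrac Groth.Agent

variable {A σ : Type u} [CommRing A] [SetLike σ A] [AddSubgroupClass σ A] {𝒜 : ℕ → σ} [GradedRing 𝒜]
variable {M τ : Type u} [AddCommGroup M] [Module A M] [SetLike τ M] [AddSubgroupClass τ M] {ℳ : ℕ → τ}

theorem pow_mem' {d : ℕ} {f : A} (hf : f ∈ 𝒜 d) (l : ℕ) : f ^ l ∈ 𝒜 (l * d) := by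
  simpa using SetLike.pow_mem_graded l hf

theorem oval_mul {U : (Proj 𝒜).Opens} (s t : Γ(Proj 𝒜, U)) (x : U) :
    oval (s * t) x = oval s x * oval t x :=
  HomogeneousLocalization.val_mul _ _

theorem oval_one {U : (Proj 𝒜).Opens} (x : U) : oval (1 : Γ(Proj 𝒜, U)) x = 1 :=
  HomogeneousLocalization.val_one

theorem oval_add {U : (Proj 𝒜).Opens} (s t : Γ(Proj 𝒜, U)) (x : U) :
    oval (s + t) x = oval s x + oval t x :=
  HomogeneousLocalization.val_add _ _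

theorem oval_zero {U : (Proj 𝒜).Opens} (x : U) : oval (0 : Γ(Proj 𝒜, U)) x = 0 :=
  HomogeneousLocalization.val_zero

theorem oval_pow {U : (Proj 𝒜).Opens} (c : Γ(Proj 𝒜, U)) (x : U) (n : ℕ) :
    oval (c ^ n) x = oval c x ^ n := by
  induction n with
  | zero => rw [pow_zero, pow_zero, oval_one]
  | succ n ih => rw [pow_succ, pow_succ, oval_mul, ih]

theorem oval_res {U V : (Proj 𝒜).Opens} (h : V ≤ U) (c : Γ(Proj 𝒜, U)) (x : V) :
    oval ((Proj 𝒜).presheaf.map (homOfLE h).op c) x = oval c ⟨x.1, h x.2⟩ := rfl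

/-- A function on `D_+(f)` is of the form `a / f ^ N`. -/
theorem exists_ofrac_basicOpen {f : A} {m : ℕ} (hf : f ∈ 𝒜 m) (hm : 0 < m) {U : (Proj 𝒜).Opens}
    (hU : U = Proj.basicOpen 𝒜 f) (s : Γ(Proj 𝒜, U)) :
    ∃ (N : ℕ) (a : A), a ∈ 𝒜 (N * m) ∧ ∀ (x : U)
      (hfx : f ^ N ∉ x.1.asHomogeneousIdeal), oval s x = Localization.mk a ⟨f ^ N, hfx⟩ := by
  subst hU
  have hbij : Function.Bijective (Proj.basicOpenIsoAway 𝒜 f hf hm).hom :=
    (ConcreteCategory.isIso_iff_bijective _).mp inferInstance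
  obtain ⟨z, rfl⟩ := hbij.2 s
  obtain ⟨N, a, ha, rfl⟩ := HomogeneousLocalization.Away.mk_surjective 𝒜 hf z
  refine ⟨N, a, by simpa using ha, fun x hfx => ?_⟩
  refine (ProjectiveSpectrum.Proj.awayToSection_apply 𝒜 f _ x).trans ?_
  rw [HomogeneousLocalization.Away.val_mk, Localization.mk_eq_mk', IsLocalization.map_mk',
    Localization.mk_eq_mk']
  rfl

theorem mem_basicOpen_iff {U : (Proj 𝒜).Opens} (r : Γ(Proj 𝒜, U)) (x : U) :
    (x.1 : Proj 𝒜) ∈ (Proj 𝒜).basicOpen r ↔ IsUnit (oval r x) := by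
  rw [Scheme.mem_basicOpen (X := Proj 𝒜) r x.1 x.2]
  have h1 := Proj.stalkIso'_germ 𝒜 U x.1 x.2 r
  have h2 := (MulEquiv.isUnit_map (Proj.stalkIso' 𝒜 x.1)
    (x := (ProjectiveSpectrum.Proj.structureSheaf 𝒜).presheaf.germ U x.1 x.2 r)).symm
  rw [h1, ← HomogeneousLocalization.isUnit_iff_isUnit_val] at h2
  exact h2

theorem isUnit_mk_iff (x : ProjectiveSpectrum 𝒜) (a s : A) (hs : s ∉ x.asHomogeneousIdeal.toIdeal) :
    IsUnit (Localization.mk a ⟨s, hs⟩ : GrTwist.Loc 𝒜 x) ↔ a ∉ x.asHomogeneousIdeal := by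
  rw [Localization.mk_eq_mk']
  exact IsLocalization.AtPrime.isUnit_mk'_iff (GrTwist.Loc 𝒜 x) _ a ⟨s, hs⟩

theorem basicOpen_eq {f c : A} {U : (Proj 𝒜).Opens} (hU : U = Proj.basicOpen 𝒜 f) (r : Γ(Proj 𝒜, U)) {k : ℕ}
    (hr : ∀ (x : U) (hfx : f ^ k ∉ x.1.asHomogeneousIdeal),
      oval r x = Localization.mk c ⟨f ^ k, hfx⟩) :
    (Proj 𝒜).basicOpen r = Proj.basicOpen 𝒜 (f * c) := by
  subst hU
  ext x
  simp only [SetLike.mem_coe]
  rw [Proj.basicOpen_mul]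
  constructor
  · intro hx
    have hxU : x ∈ Proj.basicOpen 𝒜 f := (Proj 𝒜).basicOpen_le r hx
    have hfk : f ^ k ∉ (x : ProjectiveSpectrum 𝒜).asHomogeneousIdeal :=
      fun h => hxU ((x : ProjectiveSpectrum 𝒜).isPrime.mem_of_pow_mem _ h)
    have hx' := (mem_basicOpen_iff r ⟨x, hxU⟩).1 hx
    rw [hr ⟨x, hxU⟩ hfk] at hx'
    exact ⟨hxU, (isUnit_mk_iff (𝒜 := 𝒜) x c _ hfk).1 hx'⟩
  · rintro ⟨hxU, hxc⟩
    have hfk : f ^ k ∉ (x : ProjectiveSpectrum 𝒜).asHomogeneousIdeal :=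
      fun h => hxU ((x : ProjectiveSpectrum 𝒜).isPrime.mem_of_pow_mem _ h)
    refine (mem_basicOpen_iff r ⟨x, hxU⟩).2 ?_
    rw [hr ⟨x, hxU⟩ hfk]
    exact (isUnit_mk_iff (𝒜 := 𝒜) x c _ hfk).2 hxc

/-- The homogeneous elements of positive degree give a cover. -/
theorem iSup_basicOpen_pos :
    IsOpenCover (fun i : (Σ m : ℕ, {f : A // f ∈ 𝒜 m ∧ 0 < m}) => Proj.basicOpen 𝒜 i.2.1) := by
  refine top_le_iff.mp fun x _ => ?_
  obtain ⟨d, h, hd, hh, hhx⟩ := exists_pos_notMem 𝒜 x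
  exact Opens.mem_iSup.mpr ⟨⟨d, h, hh, hd⟩, hhx⟩

variable [SetLike.GradedSMul 𝒜 ℳ] [DirectSum.Decomposition ℳ]

/-- Every section of `M(n)~` over an open equal to `D_+(f)` is a fraction `m / f ^ k`. -/
theorem exists_gfrac_basicOpen (n : ℤ) {d : ℕ} (hd : 0 < d) {f : A} (hf : f ∈ 𝒜 d) {U : (Proj 𝒜).Opens}
    (hU : U = Proj.basicOpen 𝒜 f) (s : Γ(GrMod.tilde 𝒜 ℳ n, U)) :
    ∃ (k : ℕ) (m : M) (hm : m ∈ zdeg ℳ (((k * d : ℕ) : ℤ) + n)) (hV : NV U (f ^ k)),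
      s = gfrac n U (pow_mem' hf k) hV hm := by
  subst hU
  obtain ⟨k, m, hm, h⟩ := exists_frac_basicOpen n hd hf (show GrMod.sect 𝒜 ℳ n _ from s)
  exact ⟨k, m, hm, (NV.basicOpen f).pow k, gval_ext fun x => h x⟩

theorem isLocAt_tilde (n : ℤ) {d : ℕ} (hd : 0 < d) {f : A} (hf : f ∈ 𝒜 d)
    (r : Γ(Proj 𝒜, Proj.basicOpen 𝒜 f)) :
    Ega1.QCohLoc.IsLocAt (GrMod.tilde 𝒜 ℳ n) (Proj.basicOpen 𝒜 f) r where
  surj s := by
    obtain ⟨k, c, hc, hr⟩ := exists_ofrac_basicOpen hf hd rfl r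
    have hU := basicOpen_eq rfl r hr
    have hfc : f * c ∈ 𝒜 (d + k * d) := SetLike.mul_mem_graded hf hc
    obtain ⟨l, m, hm, hV, rfl⟩ := exists_gfrac_basicOpen n (by omega) hfc hU s
    have hm' : m ∈ zdeg ℳ ((((k + 1) * l * d : ℕ) : ℤ) + n) := by
      have e : (((k + 1) * l * d : ℕ) : ℤ) + n = ((l * (d + k * d) : ℕ) : ℤ) + n := by push_cast; ring
      rw [e]; exact hm
    refine ⟨l, gfrac n (Proj.basicOpen 𝒜 f) (pow_mem' hf ((k + 1) * l)) ((NV.basicOpen f).pow _) hm',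
      gval_ext fun x => ?_⟩
    have hxf : f ∉ x.1.asHomogeneousIdeal := (Proj 𝒜).basicOpen_le r x.2
    have h1 : oval (Ega1.QCohLoc.resO ((Proj 𝒜).basicOpen_le r) r ^ l) x =
        Localization.mk c ⟨f ^ k, pow_notMem hxf k⟩ ^ l := by
      rw [oval_pow]
      exact congrArg (· ^ l) (hr ⟨x.1, hxf⟩ (pow_notMem hxf k))
    refine Eq.trans ?_ (gval_smul _ _ x).symm
    rw [h1, gval_gfrac, Localization.mk_pow]
    refine Eq.trans ?_ (LocalizedModule.mk_smul_mk _ _ _ _).symm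
    refine mk_eq_of_smul_eq 1 (one_notMem _) ?_
    simp only [SubmonoidClass.coe_pow, smul_smul]
    congr 1
    ring
  inj t ht := by
    obtain ⟨k, c, hc, hr⟩ := exists_ofrac_basicOpen hf hd rfl r
    have hU := basicOpen_eq rfl r hr
    have hfc : f * c ∈ 𝒜 (d + k * d) := SetLike.mul_mem_graded hf hc
    obtain ⟨l, m, hm, hV, rfl⟩ := exists_gfrac_basicOpen n hd hf rfl t
    obtain ⟨N, hN⟩ := exists_pow_smul_eq_zero 𝒜 (ℳ := ℳ) (d := d + k * d) (by omega) hfc hm (by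
      intro x hx
      have hx' : x ∈ (Proj 𝒜).basicOpen r := by rw [hU]; exact hx
      have h1 : gval (gfrac n (Proj.basicOpen 𝒜 f) (pow_mem' hf l) hV hm)
          ⟨x, (Proj 𝒜).basicOpen_le r hx'⟩ = 0 :=
        congrArg (fun z : Γ(GrMod.tilde 𝒜 ℳ n, (Proj 𝒜).basicOpen r) => gval z ⟨x, hx'⟩) ht
      rw [gval_gfrac, ← LocalizedModule.zero_mk (1 : x.asHomogeneousIdeal.toIdeal.primeCompl)] at h1
      obtain ⟨u, hu⟩ := LocalizedModule.mk_eq.mp h1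
      refine ⟨u.1, u.2, ?_⟩
      simpa [Submonoid.smul_def] using hu)
    refine ⟨N, gval_ext fun x => ?_⟩
    have hxf : f ∉ x.1.asHomogeneousIdeal := x.2
    have h1 : oval (r ^ N) x = Localization.mk c ⟨f ^ k, pow_notMem hxf k⟩ ^ N := by
      rw [oval_pow]
      exact congrArg (· ^ N) (hr x (pow_notMem hxf k))
    refine (gval_smul _ _ x).trans ?_
    rw [h1, gval_gfrac, Localization.mk_pow]
    refine (LocalizedModule.mk_smul_mk _ _ _ _).trans ?_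
    rw [gval_zero, ← LocalizedModule.zero_mk
      (1 : (show ProjectiveSpectrum 𝒜 from x.1).asHomogeneousIdeal.toIdeal.primeCompl)]
    refine mk_eq_of_smul_eq (f ^ N) (pow_notMem hxf N) ?_
    simp only [smul_zero, smul_smul]
    rw [one_mul, ← mul_pow]
    exact hN

/-- The modules `M(n)~` on `Proj` are quasi-coherent. -/
theorem isQCoh_tilde (n : ℤ) : Coh.IsQCoh (GrMod.tilde 𝒜 ℳ n) := by
  refine Ega1.QCohLoc.isQCoh_of_affine_cover _ (fun i : (Σ m : ℕ, {f : A // f ∈ 𝒜 m ∧ 0 < m}) =>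
    Proj.basicOpen 𝒜 i.2.1) iSup_basicOpen_pos
    (fun i => Proj.isAffineOpen_basicOpen 𝒜 i.2.1 i.2.2.1 i.2.2.2)
    (fun i r => isLocAt_tilde n i.2.2.2 i.2.2.1 r)

end K39.GrQCoh
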