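import Groth.Prelude.Def_GrMod3
import Mathlib.RingTheory.GradedAlgebra.Radical

set_option autoImplicit false
set_option linter.unusedSectionVars false

universe u

open CategoryTheory CategoryTheory.Limits AlgebraicGeometry TopologicalSpace Opposite TopCat

/-!
# Sections of the modules `M(n)~` on `Proj` (gradings by additive subgroups)

Port of `FormalB.GrTildeSect` from `GrTilde` (gradings by submodules) to `GrMod` (gradings by any `SetLike` family of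
additive subgroups, the setting of `RelProj.QCGrAlg`):
* `exists_pow_smul_eq_zero`: a homogeneous element vanishing at all points of `D_+(f)` is killed by a power of `f`;
* `frac`, `exists_frac_at`, `exists_frac_basicOpen`: the sections of `M(n)~` over `D_+(f)` are the fractions `m / f^k`.
-/

namespace K39.GrSect

section Algebra

variable {A σ : Type u} [CommRing A] [SetLike σ A] [AddSubgroupClass σ A] (𝒜 : ℕ → σ) [GradedRing 𝒜]
variable {M τ : Type u} [AddCommGroup M] [Module A M] [SetLike τ M] [AddSubgroupClass τ M] (ℳ : ℕ → τ)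

/-- The degree-`k` part of `ℳ`, for an integer `k` (zero for negative `k`). -/
def zdeg : ℤ → AddSubgroup M
  | Int.ofNat k =>
    { carrier := ℳ k
      add_mem' := add_mem
      zero_mem' := zero_mem _
      neg_mem' := neg_mem }
  | Int.negSucc _ => ⊥

@[simp] theorem mem_zdeg_natCast (k : ℕ) (m : M) : m ∈ zdeg ℳ (k : ℤ) ↔ m ∈ ℳ k := Iff.rfl

variable {ℳ}

theorem zdeg_of_neg {k : ℤ} (hk : k < 0) : zdeg ℳ k = ⊥ := by
  obtain ⟨j, rfl⟩ := Int.eq_negSucc_of_lt_zero hk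
  rfl

theorem mem_zdeg_iff {k : ℤ} {m : M} :
    m ∈ zdeg ℳ k ↔ (∃ i : ℕ, (i : ℤ) = k ∧ m ∈ ℳ i) ∨ m = 0 := by
  rcases lt_or_ge k 0 with hk | hk
  · rw [zdeg_of_neg hk, AddSubgroup.mem_bot]
    refine ⟨Or.inr, ?_⟩
    rintro (⟨i, hi, -⟩ | h)
    · omega
    · exact h
  · lift k to ℕ using hk
    rw [mem_zdeg_natCast]
    refine ⟨fun h => Or.inl ⟨k, rfl, h⟩, ?_⟩
    rintro (⟨i, hi, h⟩ | h)
    · obtain rfl : i = k := by exact_mod_cast hi
      exact h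
    · rw [h]; exact zero_mem _

theorem mem_zdeg_of_eq {k : ℤ} {i : ℕ} (h : (i : ℤ) = k) {m : M} (hm : m ∈ ℳ i) : m ∈ zdeg ℳ k := by
  subst h; exact hm

theorem mem_of_mem_zdeg {k : ℤ} {i : ℕ} (h : (i : ℤ) = k) {m : M} (hm : m ∈ zdeg ℳ k) : m ∈ ℳ i := by
  subst h; exact hm

theorem smul_mem_add [SetLike.GradedSMul 𝒜 ℳ] {i j : ℕ} {a : A} {m : M} (ha : a ∈ 𝒜 i) (hm : m ∈ ℳ j) :
    a • m ∈ ℳ (i + j) := SetLike.GradedSMul.smul_mem ha hm

theorem smul_mem_zdeg [SetLike.GradedSMul 𝒜 ℳ] {i : ℕ} {k : ℤ} {a : A} {m : M} (ha : a ∈ 𝒜 i)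
    (hm : m ∈ zdeg ℳ k) : a • m ∈ zdeg ℳ (i + k) := by
  rcases mem_zdeg_iff.mp hm with ⟨j, rfl, hj⟩ | rfl
  · exact mem_zdeg_of_eq (by simp) (SetLike.GradedSMul.smul_mem ha hj : a • m ∈ ℳ (i + j))
  · rw [smul_zero]; exact zero_mem _

theorem smul_mem_zdeg_of_eq [SetLike.GradedSMul 𝒜 ℳ] {i : ℕ} {k l : ℤ} {a : A} {m : M} (ha : a ∈ 𝒜 i)
    (hm : m ∈ zdeg ℳ k) (h : i + k = l) : a • m ∈ zdeg ℳ l := h ▸ smul_mem_zdeg 𝒜 ha hm

theorem decompose_smul_of_mem [SetLike.GradedSMul 𝒜 ℳ] [DirectSum.Decomposition ℳ] (a : A) {i : ℕ} {m : M}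
    (hm : m ∈ ℳ i) (j : ℕ) :
    (DirectSum.decompose ℳ (a • m) (j + i) : M) = (DirectSum.decompose 𝒜 a j : A) • m := by
  classical
  conv_lhs => rw [← DirectSum.sum_support_decompose 𝒜 a, Finset.sum_smul, DirectSum.decompose_sum]
  rw [DFinsupp.finsetSum_apply, AddSubmonoidClass.coe_finsetSum]
  rw [Finset.sum_eq_single j]
  · exact DirectSum.decompose_of_mem_same ℳ (smul_mem_add 𝒜 (SetLike.coe_mem _) hm)
  · intro k _ hk
    exact DirectSum.decompose_of_mem_ne ℳ (i := k + i)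
      (smul_mem_add 𝒜 (SetLike.coe_mem _) hm) (by omega)
  · intro hj
    rw [DFinsupp.notMem_support_iff.mp hj]
    simp

theorem proj_smul_eq_zero [SetLike.GradedSMul 𝒜 ℳ] [DirectSum.Decomposition ℳ] {a : A} {i : ℕ} {m : M}
    (hm : m ∈ ℳ i) (h : a • m = 0) (j : ℕ) : (DirectSum.decompose 𝒜 a j : A) • m = 0 := by
  rw [← decompose_smul_of_mem 𝒜 a hm j, h, DirectSum.decompose_zero]
  rfl

theorem exists_decompose_notMem (x : ProjectiveSpectrum 𝒜) {a : A} (ha : a ∉ x.asHomogeneousIdeal) :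
    ∃ j, (DirectSum.decompose 𝒜 a j : A) ∉ x.asHomogeneousIdeal := by
  classical
  by_contra! H
  apply ha
  rw [← DirectSum.sum_support_decompose 𝒜 a]
  exact sum_mem fun j _ => H j

theorem exists_pos_notMem (x : ProjectiveSpectrum 𝒜) :
    ∃ (d : ℕ) (h : A), 0 < d ∧ h ∈ 𝒜 d ∧ h ∉ x.asHomogeneousIdeal := by
  obtain ⟨a, ha, hax⟩ := SetLike.not_le_iff_exists.mp x.not_irrelevant_le
  obtain ⟨j, hj⟩ := exists_decompose_notMem 𝒜 x hax
  refine ⟨j, _, Nat.pos_of_ne_zero ?_, SetLike.coe_mem _, hj⟩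
  rintro rfl
  apply hj
  have := (HomogeneousIdeal.mem_irrelevant_iff 𝒜 a).mp ha
  rw [GradedRing.proj_apply] at this
  rw [this]
  exact zero_mem _

theorem exists_basicOpen_le (x : ProjectiveSpectrum 𝒜) {V : Opens (ProjectiveSpectrum.top 𝒜)} (hx : x ∈ V) :
    ∃ (d : ℕ) (g : A), 0 < d ∧ g ∈ 𝒜 d ∧ g ∉ x.asHomogeneousIdeal ∧
      ∀ y : ProjectiveSpectrum 𝒜, g ∉ y.asHomogeneousIdeal → y ∈ V := by
  obtain ⟨_, ⟨a, rfl⟩, hax, haV⟩ :=
    (ProjectiveSpectrum.isTopologicalBasis_basic_opens 𝒜).exists_subset_of_mem_open hx V.2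
  obtain ⟨j, hj⟩ := exists_decompose_notMem 𝒜 x hax
  obtain ⟨d, h, hd, hh, hhx⟩ := exists_pos_notMem 𝒜 x
  refine ⟨j + d, (DirectSum.decompose 𝒜 a j : A) * h, by omega, SetLike.mul_mem_graded (SetLike.coe_mem _) hh,
    fun hmem => (x.isPrime.mem_or_mem hmem).elim hj hhx, fun y hy => haV ?_⟩
  intro hay
  apply hy
  exact Ideal.mul_mem_right _ _ (y.asHomogeneousIdeal.2 j hay)

theorem mem_radical_of_forall {I : Ideal A} (hI : I.IsHomogeneous 𝒜) {d : ℕ} (hd : 0 < d) {f : A} (hf : f ∈ 𝒜 d)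
    (H : ∀ x : ProjectiveSpectrum 𝒜, f ∉ x.asHomogeneousIdeal → ∃ a ∈ I, a ∉ x.asHomogeneousIdeal) :
    f ∈ I.radical := by
  rw [Ideal.IsHomogeneous.radical_eq hI, Ideal.mem_sInf]
  rintro J ⟨hJ, hIJ, hJp⟩
  by_contra hfJ
  obtain ⟨a, haI, haJ⟩ := H ⟨⟨J, hJ⟩, hJp, fun h => hfJ (h (by
    show f ∈ HomogeneousIdeal.irrelevant 𝒜
    rw [HomogeneousIdeal.mem_irrelevant_iff, GradedRing.proj_apply]
    exact DirectSum.decompose_of_mem_ne 𝒜 hf (by omega)))⟩ hfJ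
  exact haJ (hIJ haI)

/-- If a homogeneous element `m` vanishes in every localization `M_x`, `x ∈ D_+(f)`, then it is killed by a power
of `f`. -/
theorem exists_pow_smul_eq_zero [SetLike.GradedSMul 𝒜 ℳ] [DirectSum.Decomposition ℳ] {d : ℕ} (hd : 0 < d) {f : A}
    (hf : f ∈ 𝒜 d) {k : ℤ} {m : M} (hm : m ∈ zdeg ℳ k)
    (H : ∀ x : ProjectiveSpectrum 𝒜, f ∉ x.asHomogeneousIdeal → ∃ a : A, a ∉ x.asHomogeneousIdeal ∧ a • m = 0) :
    ∃ N : ℕ, f ^ N • m = 0 := by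
  rcases mem_zdeg_iff.mp hm with ⟨i, -, hi⟩ | rfl
  · let I : Ideal A := LinearMap.ker (LinearMap.toSpanSingleton A M m)
    have memI : ∀ a : A, a ∈ I ↔ a • m = 0 := fun a => by
      simp only [I, LinearMap.mem_ker, LinearMap.toSpanSingleton_apply]
    have hI : I.IsHomogeneous 𝒜 := by
      intro j a ha
      rw [memI] at ha ⊢
      exact proj_smul_eq_zero 𝒜 hi ha j
    obtain ⟨N, hN⟩ := mem_radical_of_forall 𝒜 hI hd hf (fun x hx => by
      obtain ⟨a, hax, ha⟩ := H x hx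
      exact ⟨a, (memI a).mpr ha, hax⟩)
    exact ⟨N, (memI _).mp hN⟩
  · exact ⟨0, by simp⟩

end Algebra

section Sections

variable {A σ : Type u} [CommRing A] [SetLike σ A] [AddSubgroupClass σ A] {𝒜 : ℕ → σ} [GradedRing 𝒜]
variable {M τ : Type u} [AddCommGroup M] [Module A M] [SetLike τ M] [AddSubgroupClass τ M] {ℳ : ℕ → τ}

theorem locMk_mem_tildeAt {n : ℤ} {x : ProjectiveSpectrum 𝒜} {j : ℕ} {s : A} (hs : s ∈ 𝒜 j)
    (hx : s ∉ x.asHomogeneousIdeal) {m : M} (hm : m ∈ zdeg ℳ (j + n)) :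
    (LocalizedModule.mk m ⟨s, hx⟩ : GrMod.LocMod 𝒜 (M := M) x) ∈ GrMod.tildeAt 𝒜 ℳ n x := by
  rcases mem_zdeg_iff.mp hm with ⟨i, h, hi⟩ | rfl
  · exact Submodule.subset_span ⟨i, j, ⟨m, hi⟩, ⟨s, hs⟩, hx, h, rfl⟩
  · rw [LocalizedModule.zero_mk]; exact zero_mem _

variable [SetLike.GradedSMul 𝒜 ℳ]

/-- The section `m / s` of `M(n)~` over `U`. -/
noncomputable def frac (n : ℤ) (U : Opens (ProjectiveSpectrum.top 𝒜)) {j : ℕ} {s : A} (hs : s ∈ 𝒜 j)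
    (hU : ∀ x : ProjectiveSpectrum 𝒜, x ∈ U → s ∉ x.asHomogeneousIdeal) {m : M} (hm : m ∈ zdeg ℳ (j + n)) :
    GrMod.sect 𝒜 ℳ n (op U) :=
  ⟨fun x => ⟨LocalizedModule.mk m ⟨s, hU x.1 x.2⟩, locMk_mem_tildeAt hs (hU x.1 x.2) hm⟩, by
    intro x
    rcases mem_zdeg_iff.mp hm with ⟨i, h, hi⟩ | h0
    · exact ⟨U, x.2, 𝟙 _, i, j, ⟨m, hi⟩, ⟨s, hs⟩, fun y => hU y.1 y.2, Or.inl h, fun y => rfl⟩
    · exact ⟨U, x.2, 𝟙 _, 0, j, ⟨m, by rw [h0]; exact zero_mem _⟩, ⟨s, hs⟩, fun y => hU y.1 y.2, Or.inr h0,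
        fun y => rfl⟩⟩

theorem frac_val (n : ℤ) (U : Opens (ProjectiveSpectrum.top 𝒜)) {j : ℕ} {s : A} (hs : s ∈ 𝒜 j)
    (hU : ∀ x : ProjectiveSpectrum 𝒜, x ∈ U → s ∉ x.asHomogeneousIdeal) {m : M} (hm : m ∈ zdeg ℳ (j + n))
    (x : U) : ((frac n U hs hU hm).1 x).1 = LocalizedModule.mk m ⟨s, hU x.1 x.2⟩ := rfl

theorem sect_ext {n : ℤ} {U : Opens (ProjectiveSpectrum.top 𝒜)} {s t : GrMod.sect 𝒜 ℳ n (op U)}
    (h : ∀ x : U, (s.1 x).1 = (t.1 x).1) : s = t :=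
  Subtype.ext (funext fun x => Subtype.ext (h x))

/-- Every section is locally a fraction with denominator of positive degree, on a basic open. -/
theorem exists_frac_at (n : ℤ) {U : Opens (ProjectiveSpectrum.top 𝒜)} (s : GrMod.sect 𝒜 ℳ n (op U)) (x : U) :
    ∃ (e : ℕ) (g : A) (m : M) (_ : 0 < e) (_ : g ∈ 𝒜 e) (_ : g ∉ x.1.asHomogeneousIdeal) (_ : m ∈ zdeg ℳ (e + n)),
      ∀ (y : ProjectiveSpectrum 𝒜) (hy : g ∉ y.asHomogeneousIdeal), ∃ hyU : y ∈ U,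
        (s.1 ⟨y, hyU⟩).1 = LocalizedModule.mk m ⟨g, hy⟩ := by
  obtain ⟨V, hxV, i, k, j, m, t, nin, h, w⟩ := s.2 x
  obtain ⟨e, g, he, hg, hgx, hgV⟩ := exists_basicOpen_le 𝒜 x.1 hxV
  have hm : m.1 ∈ zdeg ℳ (j + n) := by
    rcases h with h | h
    · exact mem_zdeg_of_eq h m.2
    · rw [h]; exact zero_mem _
  refine ⟨e + j, g * t.1, g • m.1, by omega, SetLike.mul_mem_graded hg t.2,
    fun hmem => (x.1.isPrime.mem_or_mem hmem).elim hgx (nin ⟨x.1, hxV⟩),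
    smul_mem_zdeg_of_eq 𝒜 hg hm (by push_cast; ring), fun y hy => ?_⟩
  have hgy : g ∉ y.asHomogeneousIdeal := fun h' => hy (Ideal.mul_mem_right _ _ h')
  have hyV := hgV y hgy
  refine ⟨i.le hyV, ?_⟩
  refine (w ⟨y, hyV⟩).trans ?_
  exact (LocalizedModule.mk_cancel_common_left (⟨g, hgy⟩ : y.asHomogeneousIdeal.toIdeal.primeCompl)
    ⟨t.1, nin ⟨y, hyV⟩⟩ m.1).symm

theorem exists_of_mk_eq {x : ProjectiveSpectrum 𝒜} {m m' : M} {g g' : A} {hg : g ∉ x.asHomogeneousIdeal}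
    {hg' : g' ∉ x.asHomogeneousIdeal}
    (h : (LocalizedModule.mk m ⟨g, hg⟩ : GrMod.LocMod 𝒜 (M := M) x) = LocalizedModule.mk m' ⟨g', hg'⟩) :
    ∃ a : A, a ∉ x.asHomogeneousIdeal ∧ a • (g' • m - g • m') = 0 := by
  obtain ⟨u, hu⟩ := LocalizedModule.mk_eq.mp h
  refine ⟨u.1, u.2, ?_⟩
  rw [smul_sub, sub_eq_zero]
  exact hu

theorem mk_eq_of_smul_eq {x : ProjectiveSpectrum 𝒜} {m m' : M} {g g' : A} {hg : g ∉ x.asHomogeneousIdeal}
    {hg' : g' ∉ x.asHomogeneousIdeal} (a : A) (ha : a ∉ x.asHomogeneousIdeal)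
    (h : a • g' • m = a • g • m') :
    (LocalizedModule.mk m ⟨g, hg⟩ : GrMod.LocMod 𝒜 (M := M) x) = LocalizedModule.mk m' ⟨g', hg'⟩ :=
  LocalizedModule.mk_eq.mpr ⟨⟨a, ha⟩, h⟩

theorem one_notMem (x : ProjectiveSpectrum 𝒜) : (1 : A) ∉ x.asHomogeneousIdeal := fun h =>
  x.isPrime.ne_top ((Ideal.eq_top_iff_one _).mpr h)

theorem pow_notMem {x : ProjectiveSpectrum 𝒜} {f : A} (h : f ∉ x.asHomogeneousIdeal) (k : ℕ) :
    f ^ k ∉ x.asHomogeneousIdeal := fun h' => h (x.isPrime.mem_of_pow_mem k h')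

theorem mul_notMem {x : ProjectiveSpectrum 𝒜} {f g : A} (h : f ∉ x.asHomogeneousIdeal)
    (h' : g ∉ x.asHomogeneousIdeal) : f * g ∉ x.asHomogeneousIdeal := fun h'' =>
  (x.isPrime.mem_or_mem h'').elim h h'

variable [DirectSum.Decomposition ℳ]

/-- Every section of `M(n)~` over `D_+(f)` (with `f` homogeneous of positive degree) is a fraction `m / f^k`. -/
theorem exists_frac_basicOpen (n : ℤ) {d : ℕ} (hd : 0 < d) {f : A} (hf : f ∈ 𝒜 d)
    (s : GrMod.sect 𝒜 ℳ n (op (ProjectiveSpectrum.basicOpen 𝒜 f))) :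
    ∃ (k : ℕ) (m : M) (_ : m ∈ zdeg ℳ (((k * d : ℕ) : ℤ) + n)),
      ∀ x : ProjectiveSpectrum.basicOpen 𝒜 f, (s.1 x).1 = LocalizedModule.mk m ⟨f ^ k, pow_notMem x.2 k⟩ := by
  classical
  choose e g m he hg hgx hm hs using exists_frac_at n s
  -- finite subcover
  have hcpt : IsCompact (ProjectiveSpectrum.basicOpen 𝒜 f : Set (ProjectiveSpectrum 𝒜)) :=
    (Proj.isAffineOpen_basicOpen 𝒜 f hf hd).isCompact
  obtain ⟨t, ht⟩ := hcpt.elim_finite_subcover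
    (fun x : ProjectiveSpectrum.basicOpen 𝒜 f => (ProjectiveSpectrum.basicOpen 𝒜 (g x) : Set (ProjectiveSpectrum 𝒜)))
    (fun x => (ProjectiveSpectrum.basicOpen 𝒜 (g x)).2)
    (fun x hx => Set.mem_iUnion.mpr ⟨⟨x, hx⟩, hgx ⟨x, hx⟩⟩)
  have ht' : ∀ x : ProjectiveSpectrum 𝒜, f ∉ x.asHomogeneousIdeal → ∃ z ∈ t, g z ∉ x.asHomogeneousIdeal := by
    intro x hx
    obtain ⟨z, hz⟩ := Set.mem_iUnion.mp (ht hx)
    obtain ⟨hzt, hz⟩ := Set.mem_iUnion.mp hz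
    exact ⟨z, hzt, hz⟩
  -- pairwise compatibility
  have key : ∀ x y : ProjectiveSpectrum.basicOpen 𝒜 f, ∃ N : ℕ, (g x * g y) ^ N • (g y • m x - g x • m y) = 0 := by
    intro x y
    refine exists_pow_smul_eq_zero 𝒜 (ℳ := ℳ) (k := (e x : ℤ) + e y + n) (Nat.add_pos_left (he x) (e y))
      (SetLike.mul_mem_graded (hg x) (hg y)) (sub_mem ?_ ?_) ?_
    · exact smul_mem_zdeg_of_eq 𝒜 (hg y) (hm x) (by ring)
    · exact smul_mem_zdeg_of_eq 𝒜 (hg x) (hm y) (by ring)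
    · intro z hz
      have hzx : g x ∉ z.asHomogeneousIdeal := fun h => hz (Ideal.mul_mem_right _ _ h)
      have hzy : g y ∉ z.asHomogeneousIdeal := fun h => hz (Ideal.mul_mem_left _ _ h)
      obtain ⟨h1, h2⟩ := hs x z hzx
      obtain ⟨h3, h4⟩ := hs y z hzy
      exact exists_of_mk_eq (h2.symm.trans h4)
  choose N₀ hN₀ using key
  obtain ⟨N, hN⟩ : ∃ N : ℕ, ∀ x ∈ t, ∀ y ∈ t, (g x * g y) ^ N • (g y • m x - g x • m y) = 0 := by
    refine ⟨t.sup (fun x => t.sup (fun y => N₀ x y)), fun x hx y hy => ?_⟩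
    have hle : N₀ x y ≤ t.sup (fun x => t.sup (fun y => N₀ x y)) :=
      (Finset.le_sup (f := fun y => N₀ x y) hy).trans (Finset.le_sup (f := fun x => t.sup (fun y => N₀ x y)) hx)
    obtain ⟨c, hc⟩ := Nat.exists_eq_add_of_le' hle
    rw [hc, pow_add, mul_smul, hN₀, smul_zero]
  let G : ProjectiveSpectrum.basicOpen 𝒜 f → A := fun x => g x ^ (N + 1)
  let E : ProjectiveSpectrum.basicOpen 𝒜 f → ℕ := fun x => (N + 1) * e x
  let m' : ProjectiveSpectrum.basicOpen 𝒜 f → M := fun x => g x ^ N • m x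
  have hGE : ∀ x, G x ∈ 𝒜 (E x) := fun x => by
    simpa [E, G, smul_eq_mul] using SetLike.pow_mem_graded (N + 1) (hg x)
  have hm' : ∀ x, m' x ∈ zdeg ℳ (E x + n) := fun x => by
    refine smul_mem_zdeg_of_eq 𝒜 (SetLike.pow_mem_graded N (hg x)) (hm x) ?_
    simp only [E, smul_eq_mul]
    push_cast
    ring
  have hcomp : ∀ x ∈ t, ∀ y ∈ t, G y • m' x = G x • m' y := by
    intro x hx y hy
    have := hN x hx y hy
    rw [smul_sub, sub_eq_zero] at this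
    simp only [G, m', smul_smul] at this ⊢
    calc (g y ^ (N + 1) * g x ^ N) • m x = ((g x * g y) ^ N * g y) • m x := by congr 1; ring
      _ = ((g x * g y) ^ N * g x) • m y := this
      _ = _ := by congr 1; ring
  -- partition
  have hrad : f ∈ (Ideal.span (G '' (t : Set _))).radical := by
    refine mem_radical_of_forall 𝒜 (Ideal.homogeneous_span 𝒜 _ ?_) hd hf ?_
    · rintro _ ⟨x, -, rfl⟩
      exact ⟨E x, hGE x⟩
    · intro x hx
      obtain ⟨z, hz, hzx⟩ := ht' x hx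
      exact ⟨G z, Ideal.subset_span ⟨z, hz, rfl⟩, pow_notMem hzx _⟩
  obtain ⟨K, hK⟩ := hrad
  obtain ⟨c, hc⟩ : ∃ c : ProjectiveSpectrum.basicOpen 𝒜 f → A, ∑ x ∈ t, c x * G x = f ^ K := by
    rw [Ideal.span, Submodule.mem_span_image_finset_iff_exists_fun'] at hK
    obtain ⟨c, hc⟩ := hK
    exact ⟨c, hc⟩
  let c' : ProjectiveSpectrum.basicOpen 𝒜 f → A := fun x =>
    if E x ≤ K * d then (DirectSum.decompose 𝒜 (c x) (K * d - E x) : A) else 0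
  have hfK : f ^ K ∈ 𝒜 (K * d) := by simpa [smul_eq_mul] using SetLike.pow_mem_graded K hf
  have hc' : ∑ x ∈ t, c' x * G x = f ^ K := by
    have h1 := DirectSum.decompose_of_mem_same 𝒜 hfK
    rw [← hc, DirectSum.decompose_sum, DFinsupp.finsetSum_apply, AddSubmonoidClass.coe_finsetSum] at h1
    rw [← hc, ← h1]
    refine Finset.sum_congr rfl fun x _ => ?_
    rw [DirectSum.coe_decompose_mul_of_right_mem 𝒜 _ (hGE x)]
    simp only [c']
    split_ifs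
    · rfl
    · rw [zero_mul]
  refine ⟨K, ∑ x ∈ t, c' x • m' x, sum_mem fun x _ => ?_, fun y => ?_⟩
  · by_cases h : E x ≤ K * d
    · simp only [c', if_pos h]
      exact smul_mem_zdeg_of_eq 𝒜 (SetLike.coe_mem _) (hm' x) (by push_cast [Nat.cast_sub h]; ring)
    · simp only [c', if_neg h, zero_smul]
      exact zero_mem _
  · obtain ⟨z, hz, hzy⟩ := ht' y.1 y.2
    obtain ⟨h1, h2⟩ := hs z y.1 hzy
    refine h2.trans (mk_eq_of_smul_eq (g z ^ N) (pow_notMem hzy N) ?_)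
    have h3 : G z • ∑ x ∈ t, c' x • m' x = f ^ K • m' z := by
      rw [Finset.smul_sum, ← hc', Finset.sum_smul]
      refine Finset.sum_congr rfl fun x hx => ?_
      rw [smul_comm, hcomp x hx z hz, smul_smul]
    calc g z ^ N • f ^ K • m z = f ^ K • m' z := smul_comm _ _ _
      _ = G z • ∑ x ∈ t, c' x • m' x := h3.symm
      _ = g z ^ N • g z • ∑ x ∈ t, c' x • m' x := by rw [smul_smul, ← pow_succ]

end Sections

end K39.GrSect
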