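import Groth.Agent.EGA2.K39.Sys
import Groth.Agent.EGA2.K39.GrQCoh
import Groth.Agent.EGA2.K35.RelProjBasic
import Groth.Agent.EGA2.K43.RelTw

/-!
# The open sets `D_+(a)` of a chart of a relative Proj, and fractions as functions on them

* `PB p chart U hU a`: the image in `P` of `D_+(a) ⊆ Proj 𝒮(U)`; `mem_PB`, `PB_mul`, `isAffineOpen_PB`, `PB_str`;
* `exists_pfrac`: for `a, b ∈ 𝒮(U)_d` a function `c` on an open `W` where `b` does not vanish with `c b = a`;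
  `basicOpen_pfrac`: its nonvanishing locus.
-/

set_option autoImplicit false
set_option linter.unusedSectionVars false
universe u

open CategoryTheory AlgebraicGeometry TopologicalSpace Opposite
open scoped HomogeneousIdeal

noncomputable section

namespace K39.PBasic

open K39.GrFrac K39.GrQCoh K39.Sys RelProj

variable {S P : Scheme.{u}} {𝒮 : RelProj.QCGrAlg S} (p : P ⟶ S)
  (chart : ∀ (U : S.Opens) (hU : IsAffineOpen U), (((p ⁻¹ᵁ U : P.Opens) : Scheme.{u}) ≅ Proj (𝒮.deg U hU)))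

/-- The image in `P` of the open `D_+(a)` of `Proj 𝒮(U)`. -/
def PB (U : S.Opens) (hU : IsAffineOpen U) (a : 𝒮.presheaf.obj (op U)) : P.Opens :=
  emb p chart U hU ''ᵁ Proj.basicOpen (𝒮.deg U hU) a

variable {p} {chart} {U : S.Opens} {hU : IsAffineOpen U}

theorem preimage_PB (a : 𝒮.presheaf.obj (op U)) :
    emb p chart U hU ⁻¹ᵁ (PB p chart U hU a) = Proj.basicOpen (𝒮.deg U hU) a :=
  Scheme.Hom.preimage_image_eq _ _

theorem PB_le (a : 𝒮.presheaf.obj (op U)) : PB p chart U hU a ≤ p ⁻¹ᵁ U := by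
  rw [← K35.RelProjBasic.opensRange_emb (chart := chart) U hU]
  exact Scheme.Hom.image_le_opensRange _ _

theorem mem_PB (a : 𝒮.presheaf.obj (op U)) (y : Proj (𝒮.deg U hU)) :
    emb p chart U hU y ∈ PB p chart U hU a ↔ a ∉ (y : ProjectiveSpectrum (𝒮.deg U hU)).asHomogeneousIdeal := by
  change y ∈ emb p chart U hU ⁻¹ᵁ (PB p chart U hU a) ↔ _
  rw [preimage_PB]
  exact Iff.rfl

theorem exists_of_mem {x : P} (hx : x ∈ p ⁻¹ᵁ U) (hU : IsAffineOpen U) :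
    ∃ y : Proj (𝒮.deg U hU), emb p chart U hU y = x := by
  rw [← K35.RelProjBasic.opensRange_emb (chart := chart) U hU] at hx
  exact hx

theorem nv_PB (a : 𝒮.presheaf.obj (op U)) : NV (emb p chart U hU ⁻¹ᵁ PB p chart U hU a) a := by
  rw [preimage_PB]
  exact NV.basicOpen a

theorem le_PB {W : P.Opens} (hW : W ≤ p ⁻¹ᵁ U) {a : 𝒮.presheaf.obj (op U)}
    (h : NV (emb p chart U hU ⁻¹ᵁ W) a) : W ≤ PB p chart U hU a := by
  intro x hx
  obtain ⟨y, rfl⟩ := exists_of_mem (chart := chart) (hW hx) hU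
  exact (mem_PB a y).2 (h y hx)

theorem nv_of_le {W : P.Opens} {a : 𝒮.presheaf.obj (op U)} (h : W ≤ PB p chart U hU a) :
    NV (emb p chart U hU ⁻¹ᵁ W) a :=
  (nv_PB a).mono ((emb p chart U hU).preimage_mono h)

theorem PB_mul (a b : 𝒮.presheaf.obj (op U)) :
    PB p chart U hU (a * b) = PB p chart U hU a ⊓ PB p chart U hU b := by
  ext x
  constructor
  · intro hx
    obtain ⟨y, rfl⟩ := exists_of_mem (chart := chart) (PB_le _ hx) hU
    have h := (mem_PB (a * b) y).1 hx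
    exact ⟨(mem_PB a y).2 fun h' => h (Ideal.mul_mem_right _ _ h'),
      (mem_PB b y).2 fun h' => h (Ideal.mul_mem_left _ _ h')⟩
  · rintro ⟨hx, hx'⟩
    obtain ⟨y, rfl⟩ := exists_of_mem (chart := chart) (PB_le _ hx) hU
    have h := (mem_PB a y).1 hx
    have h' := (mem_PB b y).1 hx'
    exact (mem_PB (a * b) y).2 fun hm => (y.isPrime.mem_or_mem hm).elim h h'

theorem PB_le_pow (a : 𝒮.presheaf.obj (op U)) (k : ℕ) : PB p chart U hU a ≤ PB p chart U hU (a ^ k) :=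
  le_PB (PB_le a) ((nv_PB a).pow k)

theorem isAffineOpen_PB {d : ℕ} {a : 𝒮.presheaf.obj (op U)} (ha : a ∈ 𝒮.deg U hU d) (hd : 0 < d) :
    IsAffineOpen (PB p chart U hU a) :=
  (Proj.isAffineOpen_basicOpen (𝒮.deg U hU) a ha hd).image_of_isOpenImmersion _

/-- Fractions as functions. -/
theorem exists_pfrac {d : ℕ} {a b : 𝒮.presheaf.obj (op U)} (ha : a ∈ 𝒮.deg U hU d) (hb : b ∈ 𝒮.deg U hU d)
    {W : P.Opens} (hW : W ≤ PB p chart U hU b) : ∃ c : Γ(P, W),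
    ∀ y : ↥(emb p chart U hU ⁻¹ᵁ W), oval ((emb p chart U hU).app W c : Γ(Proj (𝒮.deg U hU), emb p chart U hU ⁻¹ᵁ W)) y *
      algebraMap _ (GrTwist.Loc (𝒮.deg U hU) y.1) b = algebraMap _ (GrTwist.Loc (𝒮.deg U hU) y.1) a := by
  have hr : W ≤ (emb p chart U hU).opensRange := by
    rw [K35.RelProjBasic.opensRange_emb]
    exact hW.trans (PB_le b)
  obtain ⟨c, hc⟩ := (Groth.Agent.Ega2.Ample.app_bijective (emb p chart U hU) hr).2
    (ofrac (emb p chart U hU ⁻¹ᵁ W) ha hb (nv_of_le hW))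
  refine ⟨c, fun y => ?_⟩
  have h1 : oval ((emb p chart U hU).app W c : Γ(Proj (𝒮.deg U hU), emb p chart U hU ⁻¹ᵁ W)) y =
      Localization.mk a ⟨b, nv_of_le hW y.1 y.2⟩ := congrArg (fun c => oval c y) hc
  rw [h1, ← Localization.mk_one_eq_algebraMap, ← Localization.mk_one_eq_algebraMap, Localization.mk_mul,
    Localization.mk_eq_mk_iff, Localization.r_iff_exists]
  exact ⟨1, by simp [mul_comm]⟩

theorem mem_basicOpen_iff_oval {W : P.Opens} (c : Γ(P, W)) (y : ↥(emb p chart U hU ⁻¹ᵁ W)) :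
    emb p chart U hU y.1 ∈ P.basicOpen c ↔
      IsUnit (oval ((emb p chart U hU).app W c : Γ(Proj (𝒮.deg U hU), emb p chart U hU ⁻¹ᵁ W)) y) := by
  rw [← mem_basicOpen_iff]
  change y.1 ∈ emb p chart U hU ⁻¹ᵁ (P.basicOpen c) ↔ _
  rw [Scheme.preimage_basicOpen]

theorem isUnit_algebraMap_iff (y : ProjectiveSpectrum (𝒮.deg U hU)) (a : 𝒮.presheaf.obj (op U)) :
    IsUnit (algebraMap _ (GrTwist.Loc (𝒮.deg U hU) y) a) ↔ a ∉ y.asHomogeneousIdeal := by
  rw [← Localization.mk_one_eq_algebraMap]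
  exact isUnit_mk_iff y a 1 (K43.GrFrac.one_notMem y)

theorem basicOpen_pfrac {a b : 𝒮.presheaf.obj (op U)} {W : P.Opens} (hW : W ≤ PB p chart U hU b) {c : Γ(P, W)}
    (hc : ∀ y : ↥(emb p chart U hU ⁻¹ᵁ W), oval ((emb p chart U hU).app W c : Γ(Proj (𝒮.deg U hU), emb p chart U hU ⁻¹ᵁ W)) y *
      algebraMap _ (GrTwist.Loc (𝒮.deg U hU) y.1) b = algebraMap _ (GrTwist.Loc (𝒮.deg U hU) y.1) a) :
    P.basicOpen c = W ⊓ PB p chart U hU a := by
  ext x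
  have key : ∀ y : ↥(emb p chart U hU ⁻¹ᵁ W), emb p chart U hU y.1 ∈ P.basicOpen c ↔
      emb p chart U hU y.1 ∈ PB p chart U hU a := by
    intro y
    rw [mem_basicOpen_iff_oval, mem_PB, ← isUnit_algebraMap_iff, ← hc y, IsUnit.mul_iff]
    have : IsUnit (algebraMap _ (GrTwist.Loc (𝒮.deg U hU) y.1) b) :=
      (isUnit_algebraMap_iff _ _).2 (nv_of_le hW y.1 y.2)
    exact (and_iff_left this).symm
  constructor
  · intro hx
    have hxW : x ∈ W := P.basicOpen_le c hx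
    obtain ⟨y, rfl⟩ := exists_of_mem (chart := chart) (PB_le _ (hW hxW)) hU
    exact ⟨hxW, (key ⟨y, hxW⟩).1 hx⟩
  · rintro ⟨hxW, hx⟩
    obtain ⟨y, rfl⟩ := exists_of_mem (chart := chart) (PB_le _ (hW hxW)) hU
    exact (key ⟨y, hxW⟩).2 hx

/-- Around a point of `W ≤ p⁻¹(U)` there is some `PB g ≤ W`, with `g` homogeneous of positive degree. -/
theorem exists_PB_le {W : P.Opens} (y : Proj (𝒮.deg U hU)) (hy : emb p chart U hU y ∈ W) :
    ∃ (d : ℕ) (g : 𝒮.presheaf.obj (op U)), 0 < d ∧ g ∈ 𝒮.deg U hU d ∧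
      g ∉ (y : ProjectiveSpectrum (𝒮.deg U hU)).asHomogeneousIdeal ∧ PB p chart U hU g ≤ W := by
  obtain ⟨d, g, hd, hg, hgy, hle⟩ := K39.GrSect.exists_basicOpen_le (𝒮.deg U hU) y (V := emb p chart U hU ⁻¹ᵁ W) hy
  refine ⟨d, g, hd, hg, hgy, ?_⟩
  refine ((emb p chart U hU).image_mono (show Proj.basicOpen (𝒮.deg U hU) g ≤ emb p chart U hU ⁻¹ᵁ W from
    fun y hy => hle y hy)).trans ?_
  exact (emb p chart U hU).image_preimage_le W

theorem oval_fun (hP : IsRelProj 𝒮 p chart) {W : P.Opens} (hW : W ≤ p ⁻¹ᵁ U) (r : Γ(S, U))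
    (y : ↥(emb p chart U hU ⁻¹ᵁ W)) :
    oval ((emb p chart U hU).app W (P.presheaf.map (homOfLE hW).op (p.app U r)) :
      Γ(Proj (𝒮.deg U hU), emb p chart U hU ⁻¹ᵁ W)) y =
      algebraMap _ (GrTwist.Loc (𝒮.deg U hU) y.1) ((𝒮.str.app (op U)).hom r) :=
  K43.RelTw.val_fun hU hP hW r y

theorem PB_str (hP : IsRelProj 𝒮 p chart) (r : Γ(S, U)) :
    PB p chart U hU ((𝒮.str.app (op U)).hom r) = p ⁻¹ᵁ (S.basicOpen r) := by
  have hcond : ∀ y : ↥(emb p chart U hU ⁻¹ᵁ (p ⁻¹ᵁ U)),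
      oval ((emb p chart U hU).app (p ⁻¹ᵁ U) (p.app U r) : Γ(Proj (𝒮.deg U hU), emb p chart U hU ⁻¹ᵁ (p ⁻¹ᵁ U))) y *
      algebraMap _ (GrTwist.Loc (𝒮.deg U hU) y.1) (1 : 𝒮.presheaf.obj (op U)) =
        algebraMap _ (GrTwist.Loc (𝒮.deg U hU) y.1) ((𝒮.str.app (op U)).hom r) := by
    intro y
    have h1 := oval_fun hP le_rfl r y
    have h2 : P.presheaf.map (homOfLE (le_refl (p ⁻¹ᵁ U))).op (p.app U r) = p.app U r :=
      Groth.Agent.Ega1.QCohLoc.resO_rfl (p.app U r)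
    rw [h2] at h1
    rw [h1, map_one, mul_one]
  have h1 : p ⁻¹ᵁ U ≤ PB p chart U hU 1 := le_PB le_rfl (NV.one _)
  have h2 := basicOpen_pfrac h1 hcond
  rw [← Scheme.preimage_basicOpen] at h2
  rw [h2]
  exact (inf_eq_right.2 (PB_le _)).symm

end K39.PBasic

namespace K39.Sys.ActSys

open K39.PBasic K39.GrFrac RelProj

variable {S P : Scheme.{u}} {𝒮 : RelProj.QCGrAlg S} {p : P ⟶ S}
  {chart : ∀ (U : S.Opens) (hU : IsAffineOpen U), (((p ⁻¹ᵁ U : P.Opens) : Scheme.{u}) ≅ Proj (𝒮.deg U hU))}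
  (G : ActSys 𝒮 p chart)

/-- The action of a function of the base. -/
theorem act_str (hP : IsRelProj 𝒮 p chart) (U : S.Opens) (hU : IsAffineOpen U) (r : Γ(S, U)) {m : ℤ}
    (h : m + (0 : ℕ) = m) {W : P.Opens} (hW : W ≤ p ⁻¹ᵁ U) (x : Γ(G.G m, W)) :
    G.act U hU (𝒮.str_mem U hU r) h hW x = P.presheaf.map (homOfLE hW).op (p.app U r) • x := by
  have h1 : (1 : 𝒮.presheaf.obj (op U)) ∈ 𝒮.deg U hU 0 := SetLike.GradedOne.one_mem
  rw [G.act_frac U hU (𝒮.str_mem U hU r) h1 h hW (P.presheaf.map (homOfLE hW).op (p.app U r)) (fun y => ?_) x,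
    G.act_one U hU h1 h hW]
  rw [oval_fun hP, map_one, mul_one]

end K39.Sys.ActSys
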