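import Groth.Agent.EGA2.K39.RelTr

/-!
# The gluing datum of the modules `ℳ(U)(n)~` on a relative Proj
-/

set_option autoImplicit false
set_option linter.unusedSectionVars false
universe u

open CategoryTheory CategoryTheory.Limits AlgebraicGeometry TopologicalSpace Opposite TopCat
open scoped HomogeneousIdeal

noncomputable section

namespace K39.RelBase

open K39.GrSect K39.GrFrac K39.GrComap Groth.Agent.FormalB.GlueHom

/-! Transport along equalities (these keep the kernel from comparing compositions up to unfolding). -/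
section transport

variable {X : Scheme.{u}}

theorem id_transport {M M' : X.Modules} (e : M = M') {c : M ⟶ M} {c' : M' ⟶ M'} (hc : HEq c c')
    (h : c' = 𝟙 M') : c = 𝟙 M := by
  subst e
  cases hc
  exact h

theorem comp_transport {M M' N N' K K' : X.Modules} (e : M = M') (e' : N = N') (e'' : K = K')
    {f : M ⟶ N} {f' : M' ⟶ N'} (hf : HEq f f') {g : N ⟶ K} {g' : N' ⟶ K'} (hg : HEq g g')
    {k : M ⟶ K} {k' : M' ⟶ K'} (hk : HEq k k') (h : f' ≫ g' = k') : f ≫ g = k := by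
  subst e e' e''
  cases hf
  cases hg
  cases hk
  exact h

theorem bij_transport {M M' N N' : X.Modules} (e : M = M') (e' : N = N')
    {f : M ⟶ N} {f' : M' ⟶ N'} (hf : HEq f f') {W : X.Opens} (h : Function.Bijective (f'.app W)) :
    Function.Bijective (f.app W) := by
  subst e e'
  cases hf
  exact h

theorem supp_transport {M M' : X.Modules} (e : M = M') {W W' : X.Opens} (hW : W' ≤ W)
    (h : Function.Bijective (res M' hW)) : Function.Bijective (res M hW) := by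
  subst e
  exact h

end transport

variable {Y P : Scheme.{u}} {𝒮 : RelProj.QCGrAlg Y}
variable {p : P ⟶ Y}
  {chart : ∀ (U : Y.Opens) (hU : IsAffineOpen U), (((p ⁻¹ᵁ U : P.Opens) : Scheme.{u}) ≅ Proj (𝒮.deg U hU))}
variable (hP : RelProj.IsRelProj 𝒮 p chart)

theorem isBasic_of_le {U V : Y.AffineZariskiSite} (h : V ≤ U) : IsBasic V.toOpens U.toOpens := h

theorem le_of_isBasic {U V : Y.AffineZariskiSite} (h : IsBasic V.toOpens U.toOpens) : V ≤ U := h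

theorem IsBasic.refl (U : Y.Opens) : IsBasic U U := ⟨1, by simp⟩

theorem IsBasic.trans {U V W : Y.Opens} (hU : IsAffineOpen U) (hV : IsAffineOpen V) (hW : IsAffineOpen W)
    (h : IsBasic V U) (h' : IsBasic W V) : IsBasic W U :=
  le_trans (α := Y.AffineZariskiSite) (a := ⟨W, hW⟩) (b := ⟨V, hV⟩) (c := ⟨U, hU⟩) h' h

theorem rmap_self {C : Type u} [Category.{u} C] (F : Cᵒᵖ ⥤ CommRingCat.{u}) {U : Cᵒᵖ}
    (f : U ⟶ U) (hf : f = 𝟙 U) (x : F.obj U) : (F.map f).hom x = x := by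
  subst hf
  exact CategoryTheory.congr_fun (F.map_id U) x

theorem rmap_comp {C : Type u} [Category.{u} C] (F : Cᵒᵖ ⥤ CommRingCat.{u}) {U V W : Cᵒᵖ}
    (f : U ⟶ V) (g : V ⟶ W) (h : U ⟶ W) (hf : h = f ≫ g) (x : F.obj U) :
    (F.map g).hom ((F.map f).hom x) = (F.map h).hom x := by
  subst hf
  exact (CategoryTheory.congr_fun (F.map_comp f g) x).symm

theorem sres_self {U : Y.Opens} (hU : IsAffineOpen U) (i : U ≤ U) (x : 𝒮.presheaf.obj (op U)) :
    𝒮.res hU hU i x = x :=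
  rmap_self 𝒮.presheaf (homOfLE i).op rfl x

theorem sres_comp {U V W : Y.Opens} (hU : IsAffineOpen U) (hV : IsAffineOpen V) (hW : IsAffineOpen W)
    (i : V ≤ U) (j : W ≤ V) (k : W ≤ U) (x : 𝒮.presheaf.obj (op U)) :
    𝒮.res hV hW j (𝒮.res hU hV i x) = 𝒮.res hU hW k x :=
  rmap_comp 𝒮.presheaf (homOfLE i).op (homOfLE j).op (homOfLE k).op rfl x

theorem pmap_self {C : Type u} [Category.{u} C] {R : Cᵒᵖ ⥤ RingCat.{u}} (M : PresheafOfModules.{u} R) {U : Cᵒᵖ}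
    (f : U ⟶ U) (hf : f = 𝟙 U) (x : M.obj U) : (M.map f).hom x = x := by
  subst hf
  exact CategoryTheory.congr_fun (M.presheaf.map_id U) x

theorem pmap_comp {C : Type u} [Category.{u} C] {R : Cᵒᵖ ⥤ RingCat.{u}} (M : PresheafOfModules.{u} R) {U V W : Cᵒᵖ}
    (f : U ⟶ V) (g : V ⟶ W) (h : U ⟶ W) (hf : h = f ≫ g) (x : M.obj U) :
    (M.map g).hom ((M.map f).hom x) = (M.map h).hom x := by
  subst hf
  exact (CategoryTheory.congr_fun (M.presheaf.map_comp f g) x).symm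

theorem mres_self (ℳ : RelProj.GrModule 𝒮) {U : Y.Opens} (hU : IsAffineOpen U) (i : U ≤ U)
    (x : ℳ.mod.val.obj (op U)) : ℳ.res hU hU i x = x :=
  pmap_self ℳ.mod.val (homOfLE i).op rfl x

theorem mres_comp (ℳ : RelProj.GrModule 𝒮) {U V W : Y.Opens} (hU : IsAffineOpen U) (hV : IsAffineOpen V)
    (hW : IsAffineOpen W) (i : V ≤ U) (j : W ≤ V) (k : W ≤ U) (x : ℳ.mod.val.obj (op U)) :
    ℳ.res hV hW j (ℳ.res hU hV i x) = ℳ.res hU hW k x :=
  pmap_comp ℳ.mod.val (homOfLE i).op (homOfLE j).op (homOfLE k).op rfl x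

theorem cval_self (ℳ : RelProj.GrModule 𝒮) (n : ℤ) {U : Y.Opens} (hU : IsAffineOpen U) (h : IsBasic U U)
    (W : P.Opens) (s : Γ(chartMod p chart ℳ n U hU, W)) (y : ProjectiveSpectrum (𝒮.deg U hU))
    (hy : RelProj.emb p chart U hU y ∈ W) :
    GrMod.locModMap (𝒮.res hU hU h.le) (irr 𝒮 hU hU h) (ℳ.res hU hU h.le) y
        (cval s _ (mem_of_mem hP hU hU h W hy)) = cval s y hy :=
  locModMap_self (𝒮.res hU hU h.le) (irr 𝒮 hU hU h) (ℳ.res hU hU h.le)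
    (sres_self hU h.le) (mres_self ℳ hU h.le) (n := n) (ℳ := ℳ.deg U hU) (U := RelProj.emb p chart U hU ⁻¹ᵁ W) s y
    (mem_of_mem hP hU hU h W hy) hy

theorem tr_self_app (ℳ : RelProj.GrModule 𝒮) (n : ℤ) {U : Y.Opens} (hU : IsAffineOpen U) (h : IsBasic U U)
    (W : P.Opens) (s : Γ(chartMod p chart ℳ n U hU, W)) : (tr hP ℳ n hU hU h).app W s = s := by
  refine cval_ext fun y hy => ?_
  rw [cval_tr]
  exact cval_self hP ℳ n hU h W s y hy

theorem tr_self (ℳ : RelProj.GrModule 𝒮) (n : ℤ) {U : Y.Opens} (hU : IsAffineOpen U) (h : IsBasic U U) :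
    tr hP ℳ n hU hU h = 𝟙 _ := by
  refine Scheme.Modules.hom_ext _ _ fun W => ?_
  refine ConcreteCategory.hom_ext _ _ fun s => ?_
  rw [id_app_apply]
  exact tr_self_app hP ℳ n hU h W s

theorem cval_comp (ℳ : RelProj.GrModule 𝒮) (n : ℤ) {U V W : Y.Opens} (hU : IsAffineOpen U) (hV : IsAffineOpen V)
    (hW : IsAffineOpen W) (h : IsBasic V U) (h' : IsBasic W V) (h'' : IsBasic W U) (O : P.Opens)
    (s : Γ(chartMod p chart ℳ n U hU, O)) (y : ProjectiveSpectrum (𝒮.deg W hW))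
    (hy : RelProj.emb p chart W hW y ∈ O) :
    GrMod.locModMap (𝒮.res hV hW h'.le) (irr 𝒮 hV hW h') (ℳ.res hV hW h'.le) y
      (GrMod.locModMap (𝒮.res hU hV h.le) (irr 𝒮 hU hV h) (ℳ.res hU hV h.le) _
        (cval s _ (mem_of_mem hP hU hV h O (mem_of_mem hP hV hW h' O hy)))) =
      GrMod.locModMap (𝒮.res hU hW h''.le) (irr 𝒮 hU hW h'') (ℳ.res hU hW h''.le) y
        (cval s _ (mem_of_mem hP hU hW h'' O hy)) :=
  locModMap_comp (𝒮.res hU hV h.le) (irr 𝒮 hU hV h) (ℳ.res hU hV h.le)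
    (𝒮.res hV hW h'.le) (irr 𝒮 hV hW h') (ℳ.res hV hW h'.le)
    (𝒮.res hU hW h''.le) (irr 𝒮 hU hW h'') (ℳ.res hU hW h''.le)
    (sres_comp hU hV hW h.le h'.le h''.le) (mres_comp ℳ hU hV hW h.le h'.le h''.le)
    (n := n) (ℳ := ℳ.deg U hU) (U := RelProj.emb p chart U hU ⁻¹ᵁ O) s y
    (mem_of_mem hP hU hV h O (mem_of_mem hP hV hW h' O hy)) (mem_of_mem hP hU hW h'' O hy)

theorem tr_comp_app (ℳ : RelProj.GrModule 𝒮) (n : ℤ) {U V W : Y.Opens} (hU : IsAffineOpen U)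
    (hV : IsAffineOpen V) (hW : IsAffineOpen W) (h : IsBasic V U) (h' : IsBasic W V) (h'' : IsBasic W U)
    (O : P.Opens) (s : Γ(chartMod p chart ℳ n U hU, O)) :
    (tr hP ℳ n hV hW h').app O ((tr hP ℳ n hU hV h).app O s) = (tr hP ℳ n hU hW h'').app O s := by
  refine cval_ext fun y hy => ?_
  rw [cval_tr, cval_tr, cval_tr]
  exact cval_comp hP ℳ n hU hV hW h h' h'' O s y hy

theorem tr_comp (ℳ : RelProj.GrModule 𝒮) (n : ℤ) {U V W : Y.Opens} (hU : IsAffineOpen U) (hV : IsAffineOpen V)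
    (hW : IsAffineOpen W) (h : IsBasic V U) (h' : IsBasic W V) (h'' : IsBasic W U) :
    tr hP ℳ n hU hV h ≫ tr hP ℳ n hV hW h' = tr hP ℳ n hU hW h'' := by
  refine Scheme.Modules.hom_ext _ _ fun O => ?_
  refine ConcreteCategory.hom_ext _ _ fun s => ?_
  rw [comp_app_apply]
  exact tr_comp_app hP ℳ n hU hV hW h h' h'' O s

/-- Sections of a chart module over `W` are determined by their restriction to the part of `W` over `U`. -/
theorem supp_bijective (ℳ : RelProj.GrModule 𝒮) (n : ℤ) {U : Y.Opens} (hU : IsAffineOpen U) (W : P.Opens) :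
    Function.Bijective (res (chartMod p chart ℳ n U hU) (inf_le_left : W ⊓ p ⁻¹ᵁ U ≤ W)) := by
  have hle : RelProj.emb p chart U hU ⁻¹ᵁ W ≤ RelProj.emb p chart U hU ⁻¹ᵁ (W ⊓ p ⁻¹ᵁ U) := by
    intro x hx
    refine ⟨hx, ?_⟩
    rw [← opensRange_emb (chart := chart) U hU]
    exact ⟨x, rfl⟩
  constructor
  · intro s t hst
    refine cval_ext fun y hy => ?_
    rw [← cval_res (inf_le_left : W ⊓ p ⁻¹ᵁ U ≤ W) s y (hle hy), hst, cval_res]
  · intro t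
    exact ⟨res (GrMod.tilde (𝒮.deg U hU) (ℳ.deg U hU) n) hle t, cval_ext fun y hy => rfl⟩


variable (p chart) in
/-- The modules of the gluing datum. -/
def zM (ℳ : RelProj.GrModule 𝒮) (n : ℤ) (U : Y.AffineZariskiSite) : P.Modules := chartMod p chart ℳ n U.1 U.2

theorem zM_eq (ℳ : RelProj.GrModule 𝒮) (n : ℤ) (U : Y.AffineZariskiSite) :
    zM p chart ℳ n U = chartMod p chart ℳ n U.1 U.2 := rfl

/-- The transitions of the gluing datum. -/
def zc (ℳ : RelProj.GrModule 𝒮) (n : ℤ) {U V : Y.AffineZariskiSite} (h : V ≤ U) :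
    zM p chart ℳ n U ⟶ zM p chart ℳ n V := tr hP ℳ n U.2 V.2 (isBasic_of_le h)

theorem zc_heq (ℳ : RelProj.GrModule 𝒮) (n : ℤ) {U V : Y.AffineZariskiSite} (h : V ≤ U) :
    HEq (zc hP ℳ n h) (tr hP ℳ n U.2 V.2 (isBasic_of_le h)) := HEq.rfl

theorem zc_id (ℳ : RelProj.GrModule 𝒮) (n : ℤ) (U : Y.AffineZariskiSite) (h : U ≤ U) :
    zc hP ℳ n h = 𝟙 (zM p chart ℳ n U) :=
  id_transport (zM_eq ℳ n U) (zc_heq hP ℳ n h) (tr_self hP ℳ n U.2 (isBasic_of_le h))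

theorem zc_comp (ℳ : RelProj.GrModule 𝒮) (n : ℤ) {U V W : Y.AffineZariskiSite} (h : V ≤ U) (h' : W ≤ V) :
    zc hP ℳ n h ≫ zc hP ℳ n h' = zc hP ℳ n (h'.trans h) :=
  comp_transport (zM_eq ℳ n U) (zM_eq ℳ n V) (zM_eq ℳ n W) (zc_heq hP ℳ n h) (zc_heq hP ℳ n h')
    (zc_heq hP ℳ n (h'.trans h))
    (tr_comp hP ℳ n U.2 V.2 W.2 (isBasic_of_le h) (isBasic_of_le h') (isBasic_of_le (h'.trans h)))

theorem zc_bij (ℳ : RelProj.GrModule 𝒮) (hℳ : Coh.IsQCoh ((AMod.toOS 𝒮.toQCAlg).obj ℳ.mod)) (n : ℤ)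
    {U V : Y.AffineZariskiSite} (h : V ≤ U) (W : P.Opens) (hW : W ≤ p ⁻¹ᵁ V.toOpens) :
    Function.Bijective ((zc hP ℳ n h).app W) :=
  bij_transport (zM_eq ℳ n U) (zM_eq ℳ n V) (zc_heq hP ℳ n h)
    (tr_app_bijective hP ℳ hℳ n U.2 V.2 (isBasic_of_le h) W hW)

theorem z_supp (ℳ : RelProj.GrModule 𝒮) (n : ℤ) (U : Y.AffineZariskiSite) (W : P.Opens) :
    Function.Bijective (res (zM p chart ℳ n U) (inf_le_left : W ⊓ p ⁻¹ᵁ U.toOpens ≤ W)) :=
  supp_transport (zM_eq ℳ n U) _ (supp_bijective ℳ n U.2 W)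

theorem z_dir (U V : Y.AffineZariskiSite) (x : P) (hU : x ∈ p ⁻¹ᵁ U.toOpens) (hV : x ∈ p ⁻¹ᵁ V.toOpens) :
    ∃ W, W ≤ U ∧ W ≤ V ∧ x ∈ p ⁻¹ᵁ W.toOpens := by
  obtain ⟨f, g, hfg, hx⟩ := exists_basicOpen_le_affine_inter U.2 V.2 (p x) ⟨hU, hV⟩
  exact ⟨⟨Y.basicOpen f, U.2.basicOpen f⟩, ⟨f, rfl⟩, ⟨g, hfg.symm⟩, hx⟩

variable (p) in
/-- The opens of the gluing datum. -/
def zR (U : Y.AffineZariskiSite) : P.Opens := p ⁻¹ᵁ U.toOpens

/-- The gluing datum. -/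
def datum (ℳ : RelProj.GrModule 𝒮) (hℳ : Coh.IsQCoh ((AMod.toOS 𝒮.toQCAlg).obj ℳ.mod)) (n : ℤ) :
    GlueMod.Datum P Y.AffineZariskiSite where
  R := zR p
  M := zM p chart ℳ n
  c := @zc _ _ _ _ _ hP ℳ n
  c_id := zc_id hP ℳ n
  c_comp := zc_comp hP ℳ n
  bij := zc_bij hP ℳ hℳ n
  supp := z_supp ℳ n
  dir := z_dir

end K39.RelBase
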