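import Groth.Agent.EGA2.K39.RelDatum

/-!
# Existence of the module attached to a graded module on a relative Proj, `exists_isRelTilde`
-/

set_option autoImplicit false
set_option linter.unusedSectionVars false
universe u

open CategoryTheory CategoryTheory.Limits AlgebraicGeometry TopologicalSpace Opposite TopCat
open scoped HomogeneousIdeal

noncomputable section

namespace K39.RelBase

open K39.GrSect K39.GrFrac K39.GrComap Groth.Agent.FormalB.GlueHom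

variable {Y P : Scheme.{u}} {𝒮 : RelProj.QCGrAlg Y}
variable {p : P ⟶ Y}
  {chart : ∀ (U : Y.Opens) (hU : IsAffineOpen U), (((p ⁻¹ᵁ U : P.Opens) : Scheme.{u}) ≅ Proj (𝒮.deg U hU))}
variable (hP : RelProj.IsRelProj 𝒮 p chart)

/-- An affine open as an object of the small affine Zariski site. -/
abbrev mkZ (U : Y.Opens) (hU : IsAffineOpen U) : Y.AffineZariskiSite := ⟨U, hU⟩

/-- The glued module. -/
def relT (ℳ : RelProj.GrModule 𝒮) (hℳ : Coh.IsQCoh ((AMod.toOS 𝒮.toQCAlg).obj ℳ.mod)) (n : ℤ) : P.Modules :=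
  (datum hP ℳ hℳ n).glued

theorem datum_M (ℳ : RelProj.GrModule 𝒮) (hℳ : Coh.IsQCoh ((AMod.toOS 𝒮.toQCAlg).obj ℳ.mod)) (n : ℤ)
    (U : Y.Opens) (hU : IsAffineOpen U) :
    chartMod p chart ℳ n U hU = (datum hP ℳ hℳ n).M (mkZ U hU) := rfl

theorem datum_c (ℳ : RelProj.GrModule 𝒮) (hℳ : Coh.IsQCoh ((AMod.toOS 𝒮.toQCAlg).obj ℳ.mod)) (n : ℤ)
    {U V : Y.Opens} (hU : IsAffineOpen U) (hV : IsAffineOpen V) (h : IsBasic V U)
    (h' : mkZ V hV ≤ mkZ U hU) :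
    HEq (tr hP ℳ n hU hV h) ((datum hP ℳ hℳ n).c h') := HEq.rfl

/-- The chartwise identifications of the glued module. -/
def relLam (ℳ : RelProj.GrModule 𝒮) (hℳ : Coh.IsQCoh ((AMod.toOS 𝒮.toQCAlg).obj ℳ.mod)) (n : ℤ)
    (U : Y.Opens) (hU : IsAffineOpen U) : relT hP ℳ hℳ n ⟶ chartMod p chart ℳ n U hU :=
  (datum hP ℳ hℳ n).π (mkZ U hU)

theorem relLam_heq (ℳ : RelProj.GrModule 𝒮) (hℳ : Coh.IsQCoh ((AMod.toOS 𝒮.toQCAlg).obj ℳ.mod)) (n : ℤ)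
    (U : Y.Opens) (hU : IsAffineOpen U) :
    HEq (relLam hP ℳ hℳ n U hU) ((datum hP ℳ hℳ n).π (mkZ U hU)) := HEq.rfl

theorem relLam_bijective (ℳ : RelProj.GrModule 𝒮) (hℳ : Coh.IsQCoh ((AMod.toOS 𝒮.toQCAlg).obj ℳ.mod)) (n : ℤ)
    (U : Y.Opens) (hU : IsAffineOpen U) (W : P.Opens) (hW : W ≤ p ⁻¹ᵁ U) :
    Function.Bijective ((relLam hP ℳ hℳ n U hU).app W) :=
  bij_transport (M' := (datum hP ℳ hℳ n).glued) rfl (datum_M hP ℳ hℳ n U hU) (relLam_heq hP ℳ hℳ n U hU)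
    ((datum hP ℳ hℳ n).π_app_bijective (mkZ U hU) hW)

theorem relLam_tr (ℳ : RelProj.GrModule 𝒮) (hℳ : Coh.IsQCoh ((AMod.toOS 𝒮.toQCAlg).obj ℳ.mod)) (n : ℤ)
    {U V : Y.Opens} (hU : IsAffineOpen U) (hV : IsAffineOpen V) (h : IsBasic V U) :
    relLam hP ℳ hℳ n U hU ≫ tr hP ℳ n hU hV h = relLam hP ℳ hℳ n V hV :=
  comp_transport (M' := (datum hP ℳ hℳ n).glued) rfl (datum_M hP ℳ hℳ n U hU) (datum_M hP ℳ hℳ n V hV)
    (relLam_heq hP ℳ hℳ n U hU)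
    (datum_c hP ℳ hℳ n hU hV h h) (relLam_heq hP ℳ hℳ n V hV)
    ((datum hP ℳ hℳ n).π_c (i := (mkZ U hU)) (j := (mkZ V hV)) h)

theorem relLam_tr_app (ℳ : RelProj.GrModule 𝒮) (hℳ : Coh.IsQCoh ((AMod.toOS 𝒮.toQCAlg).obj ℳ.mod)) (n : ℤ)
    {U V : Y.Opens} (hU : IsAffineOpen U) (hV : IsAffineOpen V) (h : IsBasic V U) (W : P.Opens)
    (s : Γ(relT hP ℳ hℳ n, W)) :
    (tr hP ℳ n hU hV h).app W ((relLam hP ℳ hℳ n U hU).app W s) = (relLam hP ℳ hℳ n V hV).app W s := by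
  rw [← relLam_tr hP ℳ hℳ n hU hV h, comp_app_apply]

theorem isRelTilde_relT (ℳ : RelProj.GrModule 𝒮) (hℳ : Coh.IsQCoh ((AMod.toOS 𝒮.toQCAlg).obj ℳ.mod)) (n : ℤ) :
    RelProj.IsRelTilde 𝒮 p chart ℳ n (relT hP ℳ hℳ n) (relLam hP ℳ hℳ n) where
  bijective U hU W hW := relLam_bijective hP ℳ hℳ n U hU W hW
  compat U hU r W s y hy hy' := by
    have h1 := relLam_tr_app hP ℳ hℳ n hU (hU.basicOpen r) ⟨r, rfl⟩ W s
    have h2 := cval_tr hP ℳ n hU (hU.basicOpen r) ⟨r, rfl⟩ W ((relLam hP ℳ hℳ n U hU).app W s) y hy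
    rw [h1] at h2
    exact h2

end K39.RelBase
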