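import Groth.Agent.EGA2.K39.RelBase
import Groth.Agent.EGA2.K39.GrComp

/-!
# Transition maps between the chart modules of a relative Proj

* `chartMod`: the direct image on `P` of the module `ℳ(U)(n)~` of the chart over `U`; `cval`: values of its sections;
* `tr`: the transition `chartMod U ⟶ chartMod V` for `V` basic in `U`, `cval_tr`, `tr_app_bijective`.
-/

set_option autoImplicit false
set_option linter.unusedSectionVars false
universe u

open CategoryTheory CategoryTheory.Limits AlgebraicGeometry TopologicalSpace Opposite TopCat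
open scoped HomogeneousIdeal

noncomputable section

namespace K39.RelBase

open K39.GrSect K39.GrFrac K39.GrComap Groth.Agent.FormalB.GlueHom

section general

variable {X : Scheme.{u}} {M N K : X.Modules}

theorem comp_app_apply (f : M ⟶ N) (g : N ⟶ K) (U : X.Opens) (s : Γ(M, U)) :
    (f ≫ g).app U s = g.app U (f.app U s) := rfl

theorem id_app_apply (U : X.Opens) (s : Γ(M, U)) : (𝟙 M : M ⟶ M).app U s = s := rfl

end general

variable {Y P : Scheme.{u}} {𝒮 : RelProj.QCGrAlg Y}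
variable {p : P ⟶ Y}
  {chart : ∀ (U : Y.Opens) (hU : IsAffineOpen U), (((p ⁻¹ᵁ U : P.Opens) : Scheme.{u}) ≅ Proj (𝒮.deg U hU))}

variable (p chart) in
/-- The module on `P` attached to the chart over `U`. -/
abbrev chartMod (ℳ : RelProj.GrModule 𝒮) (n : ℤ) (U : Y.Opens) (hU : IsAffineOpen U) : P.Modules :=
  (Scheme.Modules.pushforward (RelProj.emb p chart U hU)).obj (GrMod.tilde (𝒮.deg U hU) (ℳ.deg U hU) n)

/-- The value of a section of a chart module at a point of the chart. -/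
def cval {ℳ : RelProj.GrModule 𝒮} {n : ℤ} {U : Y.Opens} {hU : IsAffineOpen U} {W : P.Opens}
    (s : Γ(chartMod p chart ℳ n U hU, W)) (y : ProjectiveSpectrum (𝒮.deg U hU))
    (hy : RelProj.emb p chart U hU y ∈ W) : GrMod.LocMod (𝒮.deg U hU) (M := ℳ.mod.val.obj (op U)) y :=
  gval (𝒜 := 𝒮.deg U hU) (ℳ := ℳ.deg U hU) (n := n) (U := RelProj.emb p chart U hU ⁻¹ᵁ W) s ⟨y, hy⟩

/-- Sections of the chart modules are equal if their values are. -/
theorem cval_ext {ℳ : RelProj.GrModule 𝒮} {n : ℤ} {U : Y.Opens} {hU : IsAffineOpen U} {W : P.Opens}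
    {s t : Γ(chartMod p chart ℳ n U hU, W)}
    (h : ∀ (y : ProjectiveSpectrum (𝒮.deg U hU)) (hy : RelProj.emb p chart U hU y ∈ W),
      cval s y hy = cval t y hy) : s = t :=
  gval_ext (𝒜 := 𝒮.deg U hU) (ℳ := ℳ.deg U hU) (U := RelProj.emb p chart U hU ⁻¹ᵁ W) fun y => h y.1 y.2

theorem cval_res {ℳ : RelProj.GrModule 𝒮} {n : ℤ} {U : Y.Opens} {hU : IsAffineOpen U} {W W' : P.Opens}
    (h : W' ≤ W) (s : Γ(chartMod p chart ℳ n U hU, W)) (y : ProjectiveSpectrum (𝒮.deg U hU))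
    (hy : RelProj.emb p chart U hU y ∈ W') :
    cval (res (chartMod p chart ℳ n U hU) h s) y hy = cval s y (h hy) := rfl

/-- Local fractions of sections of the chart modules. -/
theorem exists_cfrac {ℳ : RelProj.GrModule 𝒮} {n : ℤ} {U : Y.Opens} {hU : IsAffineOpen U} {W : P.Opens}
    (s : Γ(chartMod p chart ℳ n U hU, W)) (y : ProjectiveSpectrum (𝒮.deg U hU))
    (hy : RelProj.emb p chart U hU y ∈ W) :
    ∃ (g : 𝒮.presheaf.obj (op U)) (m : ℳ.mod.val.obj (op U)), g ∉ y.asHomogeneousIdeal ∧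
      ∀ (z : ProjectiveSpectrum (𝒮.deg U hU)) (hz : g ∉ z.asHomogeneousIdeal),
        ∃ hzW : RelProj.emb p chart U hU z ∈ W, cval s z hzW = LocalizedModule.mk m ⟨g, hz⟩ := by
  obtain ⟨e, g, m, -, -, hg, -, h⟩ := exists_frac_at (𝒜 := 𝒮.deg U hU) (ℳ := ℳ.deg U hU) n
    (U := RelProj.emb p chart U hU ⁻¹ᵁ W) s ⟨y, hy⟩
  exact ⟨g, m, hg, h⟩

/-- The comparison on the charts. -/
def cmp (ℳ : RelProj.GrModule 𝒮) (n : ℤ) {U V : Y.Opens} (hU : IsAffineOpen U) (hV : IsAffineOpen V)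
    (h : IsBasic V U) : GrMod.tilde (𝒮.deg U hU) (ℳ.deg U hU) n ⟶
      (Scheme.Modules.pushforward (Proj.map (𝒮.res hU hV h.le) (irr 𝒮 hU hV h))).obj
        (GrMod.tilde (𝒮.deg V hV) (ℳ.deg V hV) n) :=
  GrMod.comap (𝒮.res hU hV h.le) (irr 𝒮 hU hV h) (ℳ.res hU hV h.le) (ℳ.res_mem hU hV h.le) n

variable (hP : RelProj.IsRelProj 𝒮 p chart)

/-- The transition map between the modules attached to the charts over `U` and over a basic open `V` of `U`. -/
def tr (ℳ : RelProj.GrModule 𝒮) (n : ℤ) {U V : Y.Opens} (hU : IsAffineOpen U) (hV : IsAffineOpen V)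
    (h : IsBasic V U) : chartMod p chart ℳ n U hU ⟶ chartMod p chart ℳ n V hV :=
  let a := (Scheme.Modules.pushforward (RelProj.emb p chart U hU)).map (cmp ℳ n hU hV h)
  let b := (Scheme.Modules.pushforwardComp (Proj.map (𝒮.res hU hV h.le) (irr 𝒮 hU hV h))
    (RelProj.emb p chart U hU)).hom.app (GrMod.tilde (𝒮.deg V hV) (ℳ.deg V hV) n)
  let c := (Scheme.Modules.pushforwardCongr (map_emb hP hU hV h)).hom.app
    (GrMod.tilde (𝒮.deg V hV) (ℳ.deg V hV) n)
  a ≫ b ≫ c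

include hP in
theorem mem_of_mem {U V : Y.Opens} (hU : IsAffineOpen U) (hV : IsAffineOpen V) (h : IsBasic V U)
    (W : P.Opens) {y : ProjectiveSpectrum (𝒮.deg V hV)} (hy : RelProj.emb p chart V hV y ∈ W) :
    RelProj.emb p chart U hU (ProjectiveSpectrum.comap (𝒮.res hU hV h.le) (irr 𝒮 hU hV h) y) ∈ W := by
  rw [← map_emb hP hU hV h] at hy
  exact hy

theorem cval_tr (ℳ : RelProj.GrModule 𝒮) (n : ℤ) {U V : Y.Opens} (hU : IsAffineOpen U) (hV : IsAffineOpen V)
    (h : IsBasic V U) (W : P.Opens) (s : Γ(chartMod p chart ℳ n U hU, W))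
    (y : ProjectiveSpectrum (𝒮.deg V hV)) (hy : RelProj.emb p chart V hV y ∈ W) :
    cval ((tr hP ℳ n hU hV h).app W s) y hy =
      GrMod.locModMap (𝒮.res hU hV h.le) (irr 𝒮 hU hV h) (ℳ.res hU hV h.le) y
        (cval s _ (mem_of_mem hP hU hV h W hy)) := rfl

theorem tr_app_bijective (ℳ : RelProj.GrModule 𝒮) (hℳ : Coh.IsQCoh ((AMod.toOS 𝒮.toQCAlg).obj ℳ.mod)) (n : ℤ)
    {U V : Y.Opens} (hU : IsAffineOpen U) (hV : IsAffineOpen V) (h : IsBasic V U) (W : P.Opens)
    (hW : W ≤ p ⁻¹ᵁ V) : Function.Bijective ((tr hP ℳ n hU hV h).app W) := by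
  obtain ⟨c, hc⟩ := exists_isLocHom ℳ hℳ hU hV h
  have := isOpenImmersion_map hP hU hV h
  have h1 := comap_app_bijective (irr 𝒮 hU hV h) (ℳ.res_mem hU hV h.le) hc n
    (le_opensRange_map hP hU hV h hW)
  have h2 : IsIso (((Scheme.Modules.pushforwardCongr (map_emb hP hU hV h)).hom.app
    (GrMod.tilde (𝒮.deg V hV) (ℳ.deg V hV) n)).app W) := inferInstance
  have h3 : Function.Bijective (((Scheme.Modules.pushforwardCongr (map_emb hP hU hV h)).hom.app
    (GrMod.tilde (𝒮.deg V hV) (ℳ.deg V hV) n)).app W) := (ConcreteCategory.isIso_iff_bijective _).mp h2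
  exact h3.comp h1

/-- The transition map on fractions. -/
theorem cval_tr_of_frac (ℳ : RelProj.GrModule 𝒮) (n : ℤ) {U V : Y.Opens} (hU : IsAffineOpen U)
    (hV : IsAffineOpen V) (h : IsBasic V U) (W : P.Opens) (s : Γ(chartMod p chart ℳ n U hU, W))
    (y : ProjectiveSpectrum (𝒮.deg V hV)) (hy : RelProj.emb p chart V hV y ∈ W)
    {g : 𝒮.presheaf.obj (op U)} {m : ℳ.mod.val.obj (op U)}
    (hg : g ∉ (ProjectiveSpectrum.comap (𝒮.res hU hV h.le) (irr 𝒮 hU hV h) y).asHomogeneousIdeal)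
    (hx : cval s _ (mem_of_mem hP hU hV h W hy) = LocalizedModule.mk m ⟨g, hg⟩) :
    cval ((tr hP ℳ n hU hV h).app W s) y hy =
      LocalizedModule.mk (ℳ.res hU hV h.le m) ⟨𝒮.res hU hV h.le g, hg⟩ := by
  rw [cval_tr, hx]
  exact GrMod.locModMap_mk _ _ _ _ _ _

end K39.RelBase
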