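import Groth.Agent.EGA2.K39.GamMod
import Groth.Agent.EGA2.K34.GenOn

/-!
# Generation by sections over affine opens; functions on `D_+(g)`

* `span_eq_top`: a family of sections generating a quasi-coherent module locally generates its sections over affine opens;
* `exists_isFrac_PB`: a function on `D_+(g)` is a fraction `a / g ^ j`;
* `exists_deg_lift`: an element of `𝒮(D(r))_d` times a power of `r` extends.
-/

set_option autoImplicit false
set_option linter.unusedSectionVars false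
universe u

open CategoryTheory AlgebraicGeometry TopologicalSpace Opposite
open scoped HomogeneousIdeal

noncomputable section

namespace K39.SpanLoc

open K39.GrFrac K39.GrQCoh K39.Sys K39.PBasic K39.Ext K39.GamMod RelProj
open Groth.Agent.Ega1.QCohLoc

section span

variable {X : Scheme.{u}} {M : X.Modules}

theorem res_mem_span {U V W : X.Opens} (S : Set Γ(M, U)) (hV : V ≤ U) (hW : W ≤ V)
    {t : Γ(M, V)} (ht : t ∈ Submodule.span Γ(X, V) (res M hV '' S)) :
    res M hW t ∈ Submodule.span Γ(X, W) (res M (hW.trans hV) '' S) :=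
  K34.GenOn.res_mem_span S hV hW ht

/-- Generation over an affine open is local. -/
theorem span_eq_top (hM : Coh.IsQCoh M) {U V : X.Opens} (S : Set Γ(M, U)) (hV : V ≤ U) (hVa : IsAffineOpen V)
    (h : ∀ (t : Γ(M, V)) (x : X) (_ : x ∈ V), ∃ (W : X.Opens) (hW : W ≤ V), x ∈ W ∧
      res M hW t ∈ Submodule.span Γ(X, W) (res M (hW.trans hV) '' S)) :
    Submodule.span Γ(X, V) (res M hV '' S) = ⊤ := by
  rw [eq_top_iff]
  intro t _
  obtain ⟨Q, hQ⟩ : ∃ Q, Q = Submodule.span Γ(X, V) (res M hV '' S) := ⟨_, rfl⟩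
  rw [← hQ]
  let I : Ideal Γ(X, V) := Submodule.comap (LinearMap.toSpanSingleton Γ(X, V) Γ(M, V) t) Q
  have hI : ∀ a : Γ(X, V), a ∈ I ↔ a • t ∈ Q := fun a => Iff.rfl
  have hspan : Ideal.span (I : Set Γ(X, V)) = ⊤ := by
    rw [← hVa.self_le_iSup_basicOpen_iff]
    intro x hx
    obtain ⟨W, hW, hxW, hmem⟩ := h t x hx
    obtain ⟨f, hf, hxf⟩ := hVa.exists_basicOpen_le ⟨x, hxW⟩ hx
    have hloc := hVa.isLocalization_basicOpen f
    have h1 : res M (X.basicOpen_le f) t ∈
        Submodule.span Γ(X, X.basicOpen f) (res M ((X.basicOpen_le f).trans hV) '' S) := by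
      have := res_mem_span S (hW.trans hV) hf hmem
      rwa [res_res] at this
    have key : ∀ z ∈ Submodule.span Γ(X, X.basicOpen f) (res M ((X.basicOpen_le f).trans hV) '' S),
        ∃ (k : ℕ) (q : Γ(M, V)), q ∈ Q ∧ res M (X.basicOpen_le f) q = resO (X.basicOpen_le f) f ^ k • z := by
      intro z hz
      induction hz using Submodule.span_induction with
      | mem z hz =>
        obtain ⟨s, hs, rfl⟩ := hz
        refine ⟨0, res M hV s, hQ ▸ Submodule.subset_span ⟨s, hs, rfl⟩, ?_⟩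
        rw [res_res, pow_zero, one_smul]
      | zero => exact ⟨0, 0, Q.zero_mem, by rw [map_zero, smul_zero]⟩
      | add z z' _ _ hz hz' =>
        obtain ⟨k, q, hq, e⟩ := hz
        obtain ⟨k', q', hq', e'⟩ := hz'
        refine ⟨k + k', f ^ k' • q + f ^ k • q', Q.add_mem (Q.smul_mem _ hq) (Q.smul_mem _ hq'), ?_⟩
        rw [map_add, res_smul, res_smul, e, e', map_pow, map_pow, ← mul_smul, ← mul_smul, smul_add, ← pow_add,
          ← pow_add, add_comm k' k]
      | smul c z _ hz =>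
        obtain ⟨k, q, hq, e⟩ := hz
        obtain ⟨⟨c', s, hs⟩, hc⟩ := IsLocalization.surj (Submonoid.powers f) c
        obtain ⟨l, rfl⟩ := (Submonoid.mem_powers_iff _ _).mp hs
        have hc' : c * resO (X.basicOpen_le f) f ^ l = resO (X.basicOpen_le f) c' := by
          rw [← map_pow]
          exact hc
        refine ⟨l + k, c' • q, Q.smul_mem _ hq, ?_⟩
        rw [res_smul, e, ← hc', ← mul_smul, ← mul_smul]
        congr 1
        ring
    obtain ⟨k, q, hq, e⟩ := key _ h1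
    obtain ⟨m, hm⟩ := (isLocAt_of_isQCoh hM hVa f).inj (f ^ k • t - q) (by
      rw [map_sub, res_smul, map_pow, e, sub_self])
    refine Opens.mem_iSup.mpr ⟨⟨f ^ (m + k + 1), ?_⟩, ?_⟩
    · change f ^ (m + k + 1) ∈ I
      rw [hI, pow_succ', mul_smul]
      refine Q.smul_mem _ ?_
      rw [smul_sub, sub_eq_zero, ← mul_smul, ← pow_add] at hm
      rw [hm]
      exact Q.smul_mem _ hq
    · rw [Scheme.basicOpen_pow _ _ (Nat.succ_pos _)]
      exact hxf
  have h1 : (1 : Γ(X, V)) ∈ I := by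
    rw [Ideal.span_eq] at hspan
    rw [hspan]
    trivial
  rw [hI, one_smul] at h1
  exact h1

end span

section away

variable {A σ : Type u} [CommRing A] [SetLike σ A] [AddSubgroupClass σ A] {𝒜 : ℕ → σ} [GradedRing 𝒜]

/-- A function on `D_+(g)` is a fraction. -/
theorem exists_away {g : A} {d : ℕ} (hg : g ∈ 𝒜 d) (hd : 0 < d) {V : (Proj 𝒜).Opens} (hV : V = Proj.basicOpen 𝒜 g)
    (c : Γ(Proj 𝒜, V)) : ∃ (j : ℕ) (a : A), a ∈ 𝒜 (j * d) ∧
      ∀ y : V, oval c y * algebraMap A (GrTwist.Loc 𝒜 y.1) (g ^ j) = algebraMap A (GrTwist.Loc 𝒜 y.1) a := by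
  subst hV
  have h2 : Function.Bijective (Proj.basicOpenIsoAway 𝒜 g hg hd).hom := ConcreteCategory.bijective_of_isIso _
  rw [Proj.basicOpenIsoAway_hom 𝒜 g hg hd] at h2
  obtain ⟨z, rfl⟩ := h2.2 c
  obtain ⟨n, a, ha, rfl⟩ := HomogeneousLocalization.Away.mk_surjective 𝒜 hg z
  refine ⟨n, a, by simpa using ha, fun y => ?_⟩
  have e1 : oval (𝒜 := 𝒜) ((Proj.awayToSection 𝒜 g).hom (HomogeneousLocalization.Away.mk 𝒜 hg n a ha)) y =
      (Localization.mk a ⟨g ^ n, fun h => y.2 (y.1.isPrime.mem_of_pow_mem n h)⟩ : GrTwist.Loc 𝒜 y.1) := by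
    refine (ProjectiveSpectrum.Proj.awayToSection_apply (𝒜 := 𝒜) g _ y).trans ?_
    rw [HomogeneousLocalization.Away.val_mk, Localization.mk_eq_mk', IsLocalization.map_mk', Localization.mk_eq_mk']
    rfl
  refine (congrArg (· * algebraMap A (GrTwist.Loc 𝒜 y.1) (g ^ n)) e1).trans ?_
  change Localization.mk _ _ * _ = _
  rw [← Localization.mk_one_eq_algebraMap, ← Localization.mk_one_eq_algebraMap, Localization.mk_mul,
    Localization.mk_eq_mk_iff, Localization.r_iff_exists]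
  exact ⟨1, by simp [mul_comm]⟩

end away

variable {S P : Scheme.{u}} {𝒮 : RelProj.QCGrAlg S} {p : P ⟶ S}
  {chart : ∀ (U : S.Opens) (hU : IsAffineOpen U), (((p ⁻¹ᵁ U : P.Opens) : Scheme.{u}) ≅ Proj (𝒮.deg U hU))}

/-- A function on `D_+(g)` is a fraction. -/
theorem exists_isFrac_PB {U : S.Opens} {hU : IsAffineOpen U} {g : 𝒮.presheaf.obj (op U)} {d : ℕ}
    (hg : g ∈ 𝒮.deg U hU d) (hd : 0 < d) (c : Γ(P, PB p chart U hU g)) :
    ∃ (j : ℕ) (a : 𝒮.presheaf.obj (op U)), a ∈ 𝒮.deg U hU (j * d) ∧ IsFrac p chart U hU c a (g ^ j) :=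
  exists_away hg hd (preimage_PB g) ((emb p chart U hU).app (PB p chart U hU g) c)

open K27.QCAlgBasic (Sec rho str rho_str rho_rho rho_self isUnit_str)

/-- An element of `𝒮(D(r))_d` times a power of `r` extends. -/
theorem exists_deg_lift {U : S.Opens} (hU : IsAffineOpen U) (r : Γ(S, U)) {d : ℕ}
    {a : 𝒮.presheaf.obj (op (S.basicOpen r))} (ha : a ∈ 𝒮.deg (S.basicOpen r) (hU.basicOpen r) d) :
    ∃ (l : ℕ) (a' : 𝒮.presheaf.obj (op U)), a' ∈ 𝒮.deg U hU d ∧
      rho 𝒮.toQCAlg (S.basicOpen_le r) a' =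
        str 𝒮.toQCAlg (S.basicOpen r) (resO (S.basicOpen_le r) r) ^ l * a := by
  let ψ := 𝒮.res hU (hU.basicOpen r) (S.basicOpen_le r)
  let _inst := (𝒮.presheaf.map (homOfLE (S.basicOpen_le r)).op).hom.toAlgebra
  have hloc : IsLocalization.Away ((𝒮.str.app (op U)).hom r) (𝒮.presheaf.obj (op (S.basicOpen r))) := 𝒮.isQC U hU r
  obtain ⟨⟨x, s, hs⟩, hxs⟩ := IsLocalization.surj (Submonoid.powers ((𝒮.str.app (op U)).hom r)) a
  obtain ⟨l, rfl⟩ := (Submonoid.mem_powers_iff _ _).mp hs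
  have hx : ψ x = str 𝒮.toQCAlg (S.basicOpen r) (resO (S.basicOpen_le r) r) ^ l * a := by
    have h1 : a * ψ ((𝒮.str.app (op U)).hom r ^ l) = ψ x := hxs
    have h2 : ψ ((𝒮.str.app (op U)).hom r) = str 𝒮.toQCAlg (S.basicOpen r) (resO (S.basicOpen_le r) r) :=
      rho_str (B := 𝒮.toQCAlg) (S.basicOpen_le r) r
    rw [← h1, map_pow, h2, mul_comm]
  have hmem : str 𝒮.toQCAlg (S.basicOpen r) (resO (S.basicOpen_le r) r) ^ l * a ∈
      𝒮.deg (S.basicOpen r) (hU.basicOpen r) d := by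
    have := SetLike.mul_mem_graded (A := 𝒮.deg (S.basicOpen r) (hU.basicOpen r))
      (SubSys.str_pow_mem (hU.basicOpen r) (resO (S.basicOpen_le r) r) l) ha
    rwa [zero_add] at this
  refine ⟨l, (DirectSum.decompose (𝒮.deg U hU) x d : 𝒮.presheaf.obj (op U)), SetLike.coe_mem _, ?_⟩
  change ψ (DirectSum.decompose (𝒮.deg U hU) x d : 𝒮.presheaf.obj (op U)) = _
  rw [GradedRingHom.map_directSumDecompose, hx, DirectSum.decompose_of_mem_same _ hmem]

end K39.SpanLoc
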