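import Groth.Agent.EGA2.K39.GrFrac
import Groth.Agent.EGA2.K40.GrMul
import Groth.Agent.EGA2.K40.RelSec
import Groth.Agent.CohqB.HomSheaf
import Groth.Agent.Ega1.QCohLoc
import Groth.Prelude.Def_RelProj2

/-!
# Systems of modules `G(n)` on a relative Proj with an action of the graded algebra

`ActSys 𝒮 p chart`: modules `G n` (`n` an integer) on `P` and for every affine open `U` of the base, every `a ∈ 𝒮(U)_d` and
every open `W ≤ p⁻¹(U)` a map `Γ(G m, W) → Γ(G (m + d), W)`, with the properties of the multiplication by `a`.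
* `TwData.toSys`: the twisting sheaves `O_P(n)`; `ActSys.hom T F`: the modules `ℋom(T(-n), F)`.
-/

set_option autoImplicit false
set_option linter.unusedSectionVars false
universe u

open CategoryTheory AlgebraicGeometry TopologicalSpace Opposite
open scoped HomogeneousIdeal

noncomputable section

namespace K39.Sys

open K39.GrFrac K34.OpenMap K40.RelSec K40.GrMul K43.GrFrac RelProj
open Groth.Agent.Ega1.QCohLoc (resO)

variable {S P : Scheme.{u}} (𝒮 : RelProj.QCGrAlg S) (p : P ⟶ S)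
  (chart : ∀ (U : S.Opens) (hU : IsAffineOpen U), (((p ⁻¹ᵁ U : P.Opens) : Scheme.{u}) ≅ Proj (𝒮.deg U hU)))

/-- Modules `G n` on `P` with multiplications by the homogeneous elements of the `𝒮(U)`. -/
structure ActSys where
  G : ℤ → P.Modules
  act : ∀ (U : S.Opens) (hU : IsAffineOpen U) {d : ℕ} {a : 𝒮.presheaf.obj (op U)} (_ : a ∈ 𝒮.deg U hU d) {m k : ℤ}
    (_ : m + d = k) {W : P.Opens} (_ : W ≤ p ⁻¹ᵁ U), Γ(G m, W) →+ Γ(G k, W)
  act_smul : ∀ (U : S.Opens) (hU : IsAffineOpen U) {d : ℕ} {a : 𝒮.presheaf.obj (op U)} (ha : a ∈ 𝒮.deg U hU d) {m k : ℤ}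
    (h : m + d = k) {W : P.Opens} (hW : W ≤ p ⁻¹ᵁ U) (c : Γ(P, W)) (x : Γ(G m, W)),
    act U hU ha h hW (c • x) = c • act U hU ha h hW x
  act_res : ∀ (U : S.Opens) (hU : IsAffineOpen U) {d : ℕ} {a : 𝒮.presheaf.obj (op U)} (ha : a ∈ 𝒮.deg U hU d) {m k : ℤ}
    (h : m + d = k) {W V : P.Opens} (hW : W ≤ p ⁻¹ᵁ U) (hV : V ≤ W) (x : Γ(G m, W)),
    (G k).presheaf.map (homOfLE hV).op (act U hU ha h hW x) =
      act U hU ha h (hV.trans hW) ((G m).presheaf.map (homOfLE hV).op x)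
  act_add : ∀ (U : S.Opens) (hU : IsAffineOpen U) {d : ℕ} {a b : 𝒮.presheaf.obj (op U)} (ha : a ∈ 𝒮.deg U hU d)
    (hb : b ∈ 𝒮.deg U hU d) (hab : a + b ∈ 𝒮.deg U hU d) {m k : ℤ}
    (h : m + d = k) {W : P.Opens} (hW : W ≤ p ⁻¹ᵁ U) (x : Γ(G m, W)),
    act U hU hab h hW x = act U hU ha h hW x + act U hU hb h hW x
  act_mul : ∀ (U : S.Opens) (hU : IsAffineOpen U) {d e f : ℕ} {a b : 𝒮.presheaf.obj (op U)} (ha : a ∈ 𝒮.deg U hU d)
    (hb : b ∈ 𝒮.deg U hU e) (hab : a * b ∈ 𝒮.deg U hU f) {m l k : ℤ}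
    (h : m + f = k) (h1 : m + e = l) (h2 : l + d = k) {W : P.Opens} (hW : W ≤ p ⁻¹ᵁ U) (x : Γ(G m, W)),
    act U hU hab h hW x = act U hU ha h2 hW (act U hU hb h1 hW x)
  act_one : ∀ (U : S.Opens) (hU : IsAffineOpen U) (h1 : (1 : 𝒮.presheaf.obj (op U)) ∈ 𝒮.deg U hU 0) {m : ℤ}
    (h : m + (0 : ℕ) = m) {W : P.Opens} (hW : W ≤ p ⁻¹ᵁ U) (x : Γ(G m, W)),
    act U hU h1 h hW x = x
  act_chart : ∀ (U : S.Opens) (hU : IsAffineOpen U) (r : Γ(S, U)) {d : ℕ} {a : 𝒮.presheaf.obj (op U)}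
    (ha : a ∈ 𝒮.deg U hU d)
    (ha' : (𝒮.presheaf.map (homOfLE (S.basicOpen_le r)).op).hom a ∈ 𝒮.deg (S.basicOpen r) (hU.basicOpen r) d)
    {m k : ℤ} (h : m + d = k) {W : P.Opens} (hW : W ≤ p ⁻¹ᵁ U) (hW' : W ≤ p ⁻¹ᵁ (S.basicOpen r)) (x : Γ(G m, W)),
    act (S.basicOpen r) (hU.basicOpen r) ha' h hW' x = act U hU ha h hW x
  act_frac : ∀ (U : S.Opens) (hU : IsAffineOpen U) {d : ℕ} {a b : 𝒮.presheaf.obj (op U)} (ha : a ∈ 𝒮.deg U hU d)
    (hb : b ∈ 𝒮.deg U hU d) {m k : ℤ} (h : m + d = k) {W : P.Opens} (hW : W ≤ p ⁻¹ᵁ U) (c : Γ(P, W))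
    (_ : ∀ y : ↥(emb p chart U hU ⁻¹ᵁ W), oval ((emb p chart U hU).app W c : Γ(Proj (𝒮.deg U hU), emb p chart U hU ⁻¹ᵁ W)) y *
      algebraMap _ (GrTwist.Loc (𝒮.deg U hU) y.1) b = algebraMap _ (GrTwist.Loc (𝒮.deg U hU) y.1) a)
    (x : Γ(G m, W)), act U hU ha h hW x = c • act U hU hb h hW x
  act_bij : ∀ (U : S.Opens) (hU : IsAffineOpen U) {d : ℕ} {a : 𝒮.presheaf.obj (op U)} (ha : a ∈ 𝒮.deg U hU d) {m k : ℤ}
    (h : m + d = k) {W : P.Opens} (hW : W ≤ p ⁻¹ᵁ U) (_ : NV (emb p chart U hU ⁻¹ᵁ W) a),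
    Function.Bijective (act U hU ha h hW)

section aux

theorem aux_mul {R A : Type*} [CommRing R] [CommRing A] [Algebra R A] (v : A) (a b : R) :
    v * algebraMap R A (a * b) = v * algebraMap R A b * algebraMap R A a := by
  rw [map_mul]; ring

theorem aux_frac {A : Type*} [CommRing A] {v o b a : A} (h : o * b = a) : v * a = o * (v * b) := by
  rw [← h]; ring

theorem locMap_algebraMap {A σ : Type u} [CommRing A] [SetLike σ A] [AddSubgroupClass σ A] {𝒜 : ℕ → σ} [GradedRing 𝒜]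
    {B σ' : Type u} [CommRing B] [SetLike σ' B] [AddSubgroupClass σ' B] {ℬ : ℕ → σ'} [GradedRing ℬ]
    (ψ : 𝒜 →+*ᵍ ℬ) (hψ : ℬ₊ ≤ (𝒜₊).map ψ) (y : ProjectiveSpectrum ℬ) (a : A) :
    GrTwist.locMap ψ hψ y (algebraMap A (GrTwist.Loc 𝒜 (ProjectiveSpectrum.comap ψ hψ y)) a) =
      algebraMap B (GrTwist.Loc ℬ y) (ψ a) := by
  rw [← Localization.mk_one_eq_algebraMap, ← Localization.mk_one_eq_algebraMap]
  refine (GrTwist.locMap_mk ψ hψ y a 1).trans ?_
  congr 1
  exact Subtype.ext (map_one ψ)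

theorem oval_app_res {A σ : Type u} [CommRing A] [SetLike σ A] [AddSubgroupClass σ A] {𝒜 : ℕ → σ} [GradedRing 𝒜]
    {P : Scheme.{u}} (j : Proj 𝒜 ⟶ P) {W V : P.Opens} (hV : V ≤ W) (c : Γ(P, W)) (y : ↥(j ⁻¹ᵁ V)) :
    oval (j.app V (P.presheaf.map (homOfLE hV).op c) : Γ(Proj 𝒜, j ⁻¹ᵁ V)) y =
      oval (j.app W c : Γ(Proj 𝒜, j ⁻¹ᵁ W)) ⟨y.1, j.preimage_mono hV y.2⟩ := by
  have h2 : j.app V (P.presheaf.map (homOfLE hV).op c) =
      (Proj 𝒜).presheaf.map (homOfLE (j.preimage_mono hV)).op (j.app W c) := by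
    have := j.naturality (homOfLE hV).op
    exact congr($this c)
  rw [h2]
  rfl

end aux

section tw

variable {𝒮} {p} {chart}

/-- The modules `O_P(n)` given by their charts. -/
structure TwData (chart : ∀ (U : S.Opens) (hU : IsAffineOpen U), (((p ⁻¹ᵁ U : P.Opens) : Scheme.{u}) ≅ Proj (𝒮.deg U hU))) where
  L : ℤ → P.Modules
  lam : ∀ (n : ℤ) (U : S.Opens) (hU : IsAffineOpen U),
    L n ⟶ (Scheme.Modules.pushforward (emb p chart U hU)).obj (GrTwist.twist (𝒮.deg U hU) n)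
  isRel : ∀ n, IsRelTwist 𝒮 p chart n (L n) (lam n)

variable (T : TwData chart)

namespace TwData

/-- The reading of a section of `O_P(n)` in a chart. -/
abbrev rd (n : ℤ) (U : S.Opens) (hU : IsAffineOpen U) (W : P.Opens) : Γ(T.L n, W) →+
    Γ(GrTwist.twist (𝒮.deg U hU) n, emb p chart U hU ⁻¹ᵁ W) :=
  sec (emb p chart U hU) (T.lam n U hU) W

theorem rd_bijective (n : ℤ) (U : S.Opens) (hU : IsAffineOpen U) {W : P.Opens} (hW : W ≤ p ⁻¹ᵁ U) :
    Function.Bijective (T.rd n U hU W) := (T.isRel n).bijective U hU W hW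

theorem rd_ext (n : ℤ) (U : S.Opens) (hU : IsAffineOpen U) {W : P.Opens} (hW : W ≤ p ⁻¹ᵁ U) {x x' : Γ(T.L n, W)}
    (h : ∀ y : ↥(emb p chart U hU ⁻¹ᵁ W), GrTwist.val (T.rd n U hU W x) y = GrTwist.val (T.rd n U hU W x') y) :
    x = x' :=
  (T.rd_bijective n U hU hW).1 (K43.GrFrac.sec_ext h)

theorem rd_smul (n : ℤ) (U : S.Opens) (hU : IsAffineOpen U) (W : P.Opens) (c : Γ(P, W)) (x : Γ(T.L n, W)) :
    T.rd n U hU W (c • x) =
      ((emb p chart U hU).app W c : Γ(Proj (𝒮.deg U hU), emb p chart U hU ⁻¹ᵁ W)) • T.rd n U hU W x :=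
  sec_smul _ _ _ _ _

/-- The equivalence given by the reading in a chart. -/
def rdEquiv (n : ℤ) (U : S.Opens) (hU : IsAffineOpen U) {W : P.Opens} (hW : W ≤ p ⁻¹ᵁ U) :
    Γ(T.L n, W) ≃ Γ(GrTwist.twist (𝒮.deg U hU) n, emb p chart U hU ⁻¹ᵁ W) :=
  Equiv.ofBijective _ (T.rd_bijective n U hU hW)

/-- Multiplication by an element of `𝒮(U)_d`. -/
def act (U : S.Opens) (hU : IsAffineOpen U) {d : ℕ} {a : 𝒮.presheaf.obj (op U)} (ha : a ∈ 𝒮.deg U hU d) {m k : ℤ}
    (h : m + d = k) {W : P.Opens} (hW : W ≤ p ⁻¹ᵁ U) : Γ(T.L m, W) →+ Γ(T.L k, W) :=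
  AddMonoidHom.mk' (fun x => (T.rdEquiv k U hU hW).symm
      (mulΓ h (emb p chart U hU ⁻¹ᵁ W) (T.rd m U hU W x) (globSec rfl (⟨a, ha⟩ : 𝒮.deg U hU d) _))) (by
    intro x x'
    apply (T.rdEquiv k U hU hW).injective
    rw [Equiv.apply_symm_apply, map_add, mulΓ_add_left]
    refine Eq.symm ((map_add (T.rd k U hU W) _ _).trans ?_)
    exact congrArg₂ (· + ·) ((T.rdEquiv k U hU hW).apply_symm_apply _) ((T.rdEquiv k U hU hW).apply_symm_apply _))

theorem rd_act (U : S.Opens) (hU : IsAffineOpen U) {d : ℕ} {a : 𝒮.presheaf.obj (op U)} (ha : a ∈ 𝒮.deg U hU d) {m k : ℤ}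
    (h : m + d = k) {W : P.Opens} (hW : W ≤ p ⁻¹ᵁ U) (x : Γ(T.L m, W)) :
    T.rd k U hU W (T.act U hU ha h hW x) =
      mulΓ h (emb p chart U hU ⁻¹ᵁ W) (T.rd m U hU W x) (globSec rfl (⟨a, ha⟩ : 𝒮.deg U hU d) _) :=
  (T.rdEquiv k U hU hW).apply_symm_apply _

theorem val_rd_act (U : S.Opens) (hU : IsAffineOpen U) {d : ℕ} {a : 𝒮.presheaf.obj (op U)} (ha : a ∈ 𝒮.deg U hU d)
    {m k : ℤ} (h : m + d = k) {W : P.Opens} (hW : W ≤ p ⁻¹ᵁ U) (x : Γ(T.L m, W)) (y : ↥(emb p chart U hU ⁻¹ᵁ W)) :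
    GrTwist.val (T.rd k U hU W (T.act U hU ha h hW x)) y =
      GrTwist.val (T.rd m U hU W x) y * algebraMap _ (GrTwist.Loc (𝒮.deg U hU) y.1) a := by
  rw [rd_act, val_mulΓ, val_globSec]


/-- The system of the twisting sheaves. -/
def toSys (hP : IsRelProj 𝒮 p chart) : ActSys 𝒮 p chart where
  G := T.L
  act U hU _ _ ha _ _ h _ hW := T.act U hU ha h hW
  act_smul U hU d a ha m k h W hW c x := by
    refine T.rd_ext k U hU hW fun y => ?_
    rw [rd_act, rd_smul, rd_smul, rd_act, mulΓ_smul_left]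
  act_res U hU d a ha m k h W V hW hV x := by
    refine T.rd_ext k U hU (hV.trans hW) fun y => ?_
    have e1 : ∀ (n : ℤ) (x : Γ(T.L n, W)), T.rd n U hU V ((T.L n).presheaf.map (homOfLE hV).op x) =
        Groth.Agent.Fdesc.LocGen.res (GrTwist.twist (𝒮.deg U hU) n)
          ((emb p chart U hU).preimage_mono hV) (T.rd n U hU W x) :=
      fun n x => (res_sec (emb p chart U hU) (T.lam n U hU) hV x).symm
    rw [e1, T.rd_act, T.rd_act, e1]
    rfl
  act_add U hU d a b ha hb hab m k h W hW x := by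
    refine T.rd_ext k U hU hW fun y => ?_
    rw [map_add, val_add, T.val_rd_act, T.val_rd_act, T.val_rd_act, map_add, mul_add]
  act_mul U hU d e f a b ha hb hab m l k h h1 h2 W hW x := by
    refine T.rd_ext k U hU hW fun y => ?_
    rw [T.val_rd_act, T.val_rd_act, T.val_rd_act]
    exact aux_mul _ a b
  act_one U hU h1 m h W hW x := by
    refine T.rd_ext m U hU hW fun y => ?_
    rw [T.val_rd_act, map_one, mul_one]
  act_chart U hU r d a ha ha' m k h W hW hW' x := by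
    refine T.rd_ext k _ (hU.basicOpen r) hW' fun y => ?_
    have hy : (emb p chart (S.basicOpen r) (hU.basicOpen r)).base y.1 ∈ W := y.2
    have hy' := emb_comap_mem hP U hU r W y.1 hy
    have h1 := (T.isRel k).compat U hU r W (T.act U hU ha h hW x) y.1 hy hy'
    have h2 := (T.isRel m).compat U hU r W x y.1 hy hy'
    have h3 := T.val_rd_act U hU ha h hW x ⟨_, hy'⟩
    rw [T.val_rd_act]
    refine Eq.trans ?_ h1.symm
    refine Eq.trans ?_ (congrArg _ h3).symm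
    refine Eq.trans ?_ (RingHom.map_mul _ _ _).symm
    exact congrArg₂ (· * ·) h2 (locMap_algebraMap (𝒮.res hU (hU.basicOpen r) (S.basicOpen_le r))
      (𝒮.irrelevant_le_map U hU r) y.1 a).symm
  act_frac U hU d a b ha hb m k h W hW c hc x := by
    refine T.rd_ext k U hU hW fun y => ?_
    rw [rd_smul, K43.GrFrac.val_smul, T.val_rd_act, T.val_rd_act]
    exact aux_frac (hc y)
  act_bij U hU d a ha m k h W hW hnv := by
    have h1 : Function.Bijective (fun t : Γ(GrTwist.twist (𝒮.deg U hU) m, emb p chart U hU ⁻¹ᵁ W) =>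
        mulΓ h (emb p chart U hU ⁻¹ᵁ W) t (globSec rfl (⟨a, ha⟩ : 𝒮.deg U hU d) _)) :=
      bijective_mulΓ_frac h _ _ _ _ _ (fun x hx => hnv x hx)
    have h2 : (T.rd k U hU W) ∘ (T.act U hU ha h hW) = (fun t : Γ(GrTwist.twist (𝒮.deg U hU) m,
        emb p chart U hU ⁻¹ᵁ W) => mulΓ h (emb p chart U hU ⁻¹ᵁ W) t (globSec rfl (⟨a, ha⟩ : 𝒮.deg U hU d) _)) ∘
        T.rd m U hU W := by
      funext x
      exact T.rd_act U hU ha h hW x
    rw [← Function.Bijective.of_comp_iff' (T.rd_bijective k U hU hW), h2]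
    exact h1.comp (T.rd_bijective m U hU hW)

end TwData

end tw

namespace ActSys

open Groth.Agent.CohqB.HomSheaf

variable {𝒮} {p} {chart}

theorem act_congr (T : ActSys 𝒮 p chart) (U : S.Opens) (hU : IsAffineOpen U) {d e : ℕ}
    {a b : 𝒮.presheaf.obj (op U)} (hab : a = b) (ha : a ∈ 𝒮.deg U hU d) (hb : b ∈ 𝒮.deg U hU e) {m k : ℤ}
    (h : m + d = k) (h' : m + e = k) {W : P.Opens} (hW : W ≤ p ⁻¹ᵁ U) (x : Γ(T.G m, W)) :
    T.act U hU ha h hW x = T.act U hU hb h' hW x := by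
  obtain rfl : d = e := by omega
  subst hab
  rfl

/-- Precomposition with the multiplication by `a`. -/
def homAct (T : ActSys 𝒮 p chart) (F : P.Modules) (U : S.Opens) (hU : IsAffineOpen U) {d : ℕ}
    {a : 𝒮.presheaf.obj (op U)} (ha : a ∈ 𝒮.deg U hU d) {m k : ℤ} (h : m + d = k) {W : P.Opens} (hW : W ≤ p ⁻¹ᵁ U) :
    Γ(homSheaf (T.G (-m)) F, W) →+ Γ(homSheaf (T.G (-k)) F, W) where
  toFun t := mkSec (fun V hV =>
    { toFun := fun x => comp t V hV (T.act U hU ha (show -k + d = -m by omega) (hV.trans hW) x)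
      map_add' := fun x x' => by rw [map_add, map_add]
      map_smul' := fun c x => by rw [T.act_smul, map_smul]; rfl })
    (fun V V' hV hV' x => by
      change comp t V' _ (T.act U hU ha _ _ _) = F.presheaf.map _ (comp t V hV (T.act U hU ha _ _ x))
      rw [← T.act_res, comp_map])
  map_zero' := Groth.Agent.CohqB.HomSheaf.sec_ext fun V hV x => rfl
  map_add' s t := Groth.Agent.CohqB.HomSheaf.sec_ext fun V hV x => rfl

theorem comp_homAct (T : ActSys 𝒮 p chart) (F : P.Modules) (U : S.Opens) (hU : IsAffineOpen U) {d : ℕ}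
    {a : 𝒮.presheaf.obj (op U)} (ha : a ∈ 𝒮.deg U hU d) {m k : ℤ} (h : m + d = k) {W : P.Opens} (hW : W ≤ p ⁻¹ᵁ U)
    (t : Γ(homSheaf (T.G (-m)) F, W)) (V : P.Opens) (hV : V ≤ W) (x : Γ(T.G (-k), V)) :
    comp (T.homAct F U hU ha h hW t) V hV x =
      comp t V hV (T.act U hU ha (show -k + d = -m by omega) (hV.trans hW) x) := rfl

theorem homAct_bijective (T : ActSys 𝒮 p chart) (F : P.Modules) (U : S.Opens) (hU : IsAffineOpen U) {d : ℕ}
    {a : 𝒮.presheaf.obj (op U)} (ha : a ∈ 𝒮.deg U hU d) {m k : ℤ} (h : m + d = k) {W : P.Opens} (hW : W ≤ p ⁻¹ᵁ U)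
    (hnv : NV (emb p chart U hU ⁻¹ᵁ W) a) : Function.Bijective (T.homAct F U hU ha h hW) := by
  have h' : -k + d = -m := by omega
  have hbij : ∀ (V : P.Opens) (hV : V ≤ W), Function.Bijective (T.act U hU ha h' (hV.trans hW)) := fun V hV =>
    T.act_bij U hU ha _ _ (hnv.mono ((emb p chart U hU).preimage_mono hV))
  constructor
  · intro t t' htt
    refine Groth.Agent.CohqB.HomSheaf.sec_ext fun V hV x => ?_
    obtain ⟨x, rfl⟩ := (hbij V hV).2 x
    have h1 := congrArg (fun t => comp t V hV x) htt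
    rw [comp_homAct, comp_homAct] at h1
    exact h1
  · intro t
    let e : ∀ (V : P.Opens) (_ : V ≤ W), Γ(T.G (-k), V) ≃+ Γ(T.G (-m), V) := fun V hV =>
      AddEquiv.ofBijective (T.act U hU ha h' (hV.trans hW)) (hbij V hV)
    have he : ∀ (V : P.Opens) (hV : V ≤ W) (x : Γ(T.G (-m), V)),
        T.act U hU ha h' (hV.trans hW) ((e V hV).symm x) = x :=
      fun V hV x => (e V hV).apply_symm_apply x
    have hsm : ∀ (V : P.Opens) (hV : V ≤ W) (c : Γ(P, V)) (x : Γ(T.G (-m), V)),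
        (e V hV).symm (c • x) = c • (e V hV).symm x := by
      intro V hV c x
      apply (hbij V hV).1
      rw [he V hV, T.act_smul, he V hV]
    have hres : ∀ (V V' : P.Opens) (hV : V ≤ W) (hV' : V' ≤ V) (x : Γ(T.G (-m), V)),
        (e V' (hV'.trans hV)).symm ((T.G (-m)).presheaf.map (homOfLE hV').op x) =
          (T.G (-k)).presheaf.map (homOfLE hV').op ((e V hV).symm x) := by
      intro V V' hV hV' x
      apply (hbij V' (hV'.trans hV)).1
      rw [he V' (hV'.trans hV)]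
      refine Eq.trans ?_ (T.act_res U hU ha h' (hV.trans hW) hV' _)
      rw [he V hV]
    refine ⟨mkSec (fun V hV =>
      { toFun := fun x => comp t V hV ((e V hV).symm x)
        map_add' := fun x x' => by rw [map_add, map_add]
        map_smul' := fun c x => by rw [hsm V hV, map_smul]; rfl })
      (fun V V' hV hV' x => ?_), ?_⟩
    · change comp t V' (hV'.trans hV) ((e V' (hV'.trans hV)).symm ((T.G (-m)).presheaf.map (homOfLE hV').op x)) =
          F.presheaf.map (homOfLE hV').op (comp t V hV ((e V hV).symm x))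
      rw [← Groth.Agent.CohqB.HomSheaf.comp_map, hres V V' hV hV']
    · refine Groth.Agent.CohqB.HomSheaf.sec_ext fun V hV x => ?_
      rw [comp_homAct]
      change comp t V hV ((e V hV).symm (T.act U hU ha h' (hV.trans hW) x)) = _
      congr 1
      apply (hbij V hV).1
      rw [he V hV]

/-- The system `ℋom(T(-n), F)`. -/
def hom (T : ActSys 𝒮 p chart) (F : P.Modules) : ActSys 𝒮 p chart where
  G n := homSheaf (T.G (-n)) F
  act U hU _ _ ha _ _ h _ hW := T.homAct F U hU ha h hW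
  act_smul U hU d a ha m k h W hW c t := by
    refine Groth.Agent.CohqB.HomSheaf.sec_ext fun V hV x => ?_
    rw [comp_homAct, comp_smul, comp_smul, LinearMap.smul_apply, LinearMap.smul_apply, comp_homAct]
  act_res U hU d a ha m k h W V hW hV t := Groth.Agent.CohqB.HomSheaf.sec_ext fun V' hV' x => rfl
  act_add U hU d a b ha hb hab m k h W hW t := by
    refine Groth.Agent.CohqB.HomSheaf.sec_ext fun V hV x => ?_
    rw [comp_add, LinearMap.add_apply, comp_homAct, comp_homAct, comp_homAct, T.act_add U hU ha hb hab, map_add]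
  act_mul U hU d e f a b ha hb hab m l k h h1 h2 W hW t := by
    refine Groth.Agent.CohqB.HomSheaf.sec_ext fun V hV x => ?_
    rw [comp_homAct, comp_homAct, comp_homAct]
    have hba : b * a ∈ 𝒮.deg U hU f := by rw [mul_comm]; exact hab
    rw [T.act_congr U hU (mul_comm a b) hab hba (show -k + f = -m by omega) (show -k + f = -m by omega) (hV.trans hW) x,
      T.act_mul U hU hb ha hba (show -k + f = -m by omega) (show -k + d = -l by omega)
        (show -l + e = -m by omega)]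
  act_one U hU h1 m h W hW t := by
    refine Groth.Agent.CohqB.HomSheaf.sec_ext fun V hV x => ?_
    rw [comp_homAct, T.act_one]
  act_chart U hU r d a ha ha' m k h W hW hW' t := by
    refine Groth.Agent.CohqB.HomSheaf.sec_ext fun V hV x => ?_
    rw [comp_homAct, comp_homAct, T.act_chart U hU r ha ha' _ (hV.trans hW) (hV.trans hW')]
  act_frac U hU d a b ha hb m k h W hW c hc t := by
    refine Groth.Agent.CohqB.HomSheaf.sec_ext fun V hV x => ?_
    rw [comp_smul, LinearMap.smul_apply, comp_homAct, comp_homAct,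
      T.act_frac U hU ha hb _ (hV.trans hW) (P.presheaf.map (homOfLE hV).op c) (fun y => ?_), map_smul]
    rw [oval_app_res (𝒜 := 𝒮.deg U hU) (emb p chart U hU) hV c y]
    exact hc ⟨y.1, (emb p chart U hU).preimage_mono hV y.2⟩
  act_bij U hU d a ha m k h W hW hnv := T.homAct_bijective F U hU ha h hW hnv

end ActSys

end K39.Sys
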